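import Cfsg.Agent.Lib.SymBlock.StarCount

/-!
# The numerical bound for the alternating groups

The span of a class of configurations, for a family invariant under reflection, plus the number of
configurations fixed by the reflection, is less than `p ^ s` as soon as `s` is at least the rank of the
defect group predicted by the weight.
-/

set_option autoImplicit false

open Finset

namespace CfsgLib.SymBlock.Runner

variable {N p : ℕ}

theorem mirror_mod {M x y : ℕ} (hx : x ≤ M) (hy : y ≤ M) (h : x % p = y % p) :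
    (M - x) % p = (M - y) % p := by
  refine Nat.ModEq.add_left_cancel h ?_
  rw [Nat.add_sub_cancel' hx, Nat.add_sub_cancel' hy]

theorem card_filter_star {X : Finset ℕ} (hX : X ⊆ range (2 * N)) {x₀ : ℕ} (hx₀ : x₀ < 2 * N) :
    #((star N X).filter (· % p = x₀ % p)) + #(X.filter (· % p = (2 * N - 1 - x₀) % p)) =
      #((range (2 * N)).filter (· % p = x₀ % p)) := by
  rw [← card_filter_add_card_filter_not (s := (range (2 * N)).filter (· % p = x₀ % p))
    (fun x => 2 * N - 1 - x ∉ X)]
  congr 1
  · exact congrArg card (by ext x; simp only [mem_filter, mem_star, mem_range]; tauto)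
  · refine card_nbij' (fun x => 2 * N - 1 - x) (fun x => 2 * N - 1 - x) (fun x hx => ?_) (fun x hx => ?_)
      (fun x hx => ?_) fun x hx => ?_
    · simp only [coe_filter, Set.mem_ofPred_eq, mem_filter, mem_range] at hx ⊢
      have hlt := mem_range.1 (hX hx.1)
      refine ⟨⟨by omega, ?_⟩, by rw [show 2 * N - 1 - (2 * N - 1 - x) = x by omega]; exact fun h => h hx.1⟩
      rw [mirror_mod (M := 2 * N - 1) (y := 2 * N - 1 - x₀) (by omega) (by omega) hx.2]
      congr 1
      omega
    · simp only [coe_filter, Set.mem_ofPred_eq, mem_filter, mem_range, not_not] at hx ⊢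
      exact ⟨hx.2, mirror_mod (by omega) (by omega) hx.1.2⟩
    · simp only [coe_filter, Set.mem_ofPred_eq] at hx
      have := mem_range.1 (hX hx.1)
      show 2 * N - 1 - (2 * N - 1 - x) = x
      omega
    · simp only [coe_filter, Set.mem_ofPred_eq, mem_filter, mem_range] at hx
      show 2 * N - 1 - (2 * N - 1 - x) = x
      omega

theorem counts_star {X Y : Finset ℕ} (hX : X ⊆ range (2 * N)) (hY : Y ⊆ range (2 * N))
    (h : ∀ b, #(X.filter (· % p = b)) = #(Y.filter (· % p = b))) (b : ℕ) :
    #((star N X).filter (· % p = b)) = #((star N Y).filter (· % p = b)) := by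
  by_cases hb : ∃ x < 2 * N, x % p = b
  · obtain ⟨x, hx, rfl⟩ := hb
    have h1 := card_filter_star (p := p) hX hx
    have h2 := card_filter_star (p := p) hY hx
    have := h ((2 * N - 1 - x) % p)
    omega
  · push Not at hb
    have : ∀ Z : Finset ℕ, (star N Z).filter (· % p = b) = ∅ := fun Z =>
      filter_eq_empty_iff.2 fun z hz => hb z (mem_star.1 hz).1
    rw [this, this]

theorem card_star {X : Finset ℕ} (hX : X ⊆ range (2 * N)) : #(star N X) + #X = 2 * N := by
  have h := card_filter_add_card_filter_not (s := range (2 * N)) (fun x => 2 * N - 1 - x ∉ X)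
  rw [card_range] at h
  have e : #((range (2 * N)).filter fun x => ¬ (2 * N - 1 - x ∉ X)) = #X := by
    refine card_nbij' (fun x => 2 * N - 1 - x) (fun x => 2 * N - 1 - x) (fun x hx => ?_) (fun x hx => ?_)
      (fun x hx => ?_) fun x hx => ?_
    · simp only [coe_filter, Set.mem_ofPred_eq, not_not] at hx
      exact hx.2
    · have := mem_range.1 (hX hx)
      simp only [coe_filter, Set.mem_ofPred_eq, not_not, mem_range]
      exact ⟨by omega, by rwa [show 2 * N - 1 - (2 * N - 1 - x) = x by omega]⟩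
    · simp only [coe_filter, Set.mem_ofPred_eq, mem_range] at hx
      show 2 * N - 1 - (2 * N - 1 - x) = x
      omega
    · have := mem_range.1 (hX hx)
      show 2 * N - 1 - (2 * N - 1 - x) = x
      omega
  rw [e] at h
  exact h

theorem sum_star {X : Finset ℕ} (hX : X ⊆ range (2 * N)) (hc : #X = N) :
    ∑ x ∈ star N X, x = ∑ x ∈ X, x := by
  have h1 : ∑ x ∈ star N X, x = ∑ y ∈ range (2 * N) \ X, (2 * N - 1 - y) := by
    refine sum_nbij' (fun x => 2 * N - 1 - x) (fun x => 2 * N - 1 - x) ?_ ?_ ?_ ?_ ?_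
    · intro x hx
      simp only [mem_coe, mem_star] at hx
      simp only [mem_coe, mem_sdiff, mem_range]
      exact ⟨by omega, hx.2⟩
    · intro x hx
      simp only [mem_coe, mem_sdiff, mem_range] at hx
      simp only [mem_coe, mem_star]
      exact ⟨by omega, by rw [show 2 * N - 1 - (2 * N - 1 - x) = x by omega]; exact hx.2⟩
    · intro x hx
      simp only [mem_coe, mem_star] at hx
      omega
    · intro x hx
      simp only [mem_coe, mem_sdiff, mem_range] at hx
      omega
    · intro x hx
      simp only [mem_star] at hx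
      omega
  have h2 : ∑ y ∈ range (2 * N) \ X, (2 * N - 1 - y) + ∑ y ∈ range (2 * N) \ X, y = N * (2 * N - 1) := by
    rw [← sum_add_distrib, sum_congr rfl (g := fun _ => 2 * N - 1) fun y hy => by
      simp only [mem_sdiff, mem_range] at hy; omega, sum_const, card_sdiff_of_subset hX, card_range, hc,
      smul_eq_mul, show 2 * N - N = N by omega]
  have h3 := sum_sdiff (f := fun y : ℕ => y) hX
  have h4 := sum_range_id_mul_two (2 * N)
  have h5 : 2 * N * (2 * N - 1) = 2 * (N * (2 * N - 1)) := by ring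
  omega

section Bound

variable {K V : Type*} [Field K] [CharZero K] [AddCommGroup V] [Module K V]

theorem span_class_le (hp : 0 < p) (e : (Fin N → ℕ) → V) (h0 : ∀ β, ¬ Function.Injective β → e β = 0)
    (hperm : ∀ β (σ : Equiv.Perm (Fin N)), e (β ∘ σ) ∈ Submodule.span K {e β})
    (β₀ : Fin N → ℕ) (hβ₀ : Function.Injective β₀)
    (hrel : ∀ (δ : Fin N → ℕ) (m : ℕ), 0 < m → ∑ i, δ i + p * m = ∑ i, β₀ i →
      ∑ i, e (δ + Pi.single i (p * m)) = 0)
    {a : ℕ} (ha : a < p) (rep : Finset ℕ → Fin N → ℕ)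
    (hrep : ∀ X : Finset ℕ, #X = N → Function.Injective (rep X) ∧ univ.image (rep X) = X) :
    Submodule.span K (e '' {β | Function.Injective β ∧ SameCnt p β β₀ ∧ ∑ i, β i = ∑ i, β₀ i}) ≤
      Submodule.span K ((fun X => e (rep X)) ''
        (configs p (univ.image (core p β₀)) a (∑ i, β₀ i) : Set (Finset ℕ))) := by
  rw [Submodule.span_le]
  rintro _ ⟨β, ⟨hβ, hc, hs⟩, rfl⟩
  refine Submodule.span_le.2 ?_ (mem_span_ground hp e h0 β₀ hrel ha β hβ hc hs)
  rintro _ ⟨γ, ⟨hγ, hγc, hγs, hγg⟩, rfl⟩
  have hN : #(univ.image γ) = N := by rw [card_image_of_injective _ hγ, card_univ, Fintype.card_fin]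
  have hmem : univ.image γ ∈ configs p (univ.image (core p β₀)) a (∑ i, β₀ i) := by
    refine (mem_configs hp).2 ⟨fun b => ?_, by rw [sum_image' hγ, hγs], hγg⟩
    rw [card_filter_image hγ, card_filter_image (core_injective hp hβ₀), sameCnt_core hp β₀ b, hγc b]
  obtain ⟨h1, h2⟩ := hrep _ hN
  obtain ⟨σ, hσ⟩ := exists_perm h1 hγ h2
  rw [hσ]
  refine Submodule.span_le.2 ?_ (hperm _ σ)
  rw [Set.singleton_subset_iff]
  exact Submodule.subset_span ⟨_, hmem, rfl⟩

theorem finrank_span_image_le (g : Finset ℕ → V) (T : Finset (Finset ℕ)) :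
    Module.finrank K (Submodule.span K (g '' (T : Set (Finset ℕ)))) ≤ #T := by
  classical
  rw [← coe_image]
  exact (finrank_span_finset_le_card _).trans card_image_le

/-- The bound for the alternating groups. -/
theorem alt_bound (hp : p.Prime) (e : (Fin N → ℕ) → V) (h0 : ∀ β, ¬ Function.Injective β → e β = 0)
    (hperm : ∀ β (σ : Equiv.Perm (Fin N)), e (β ∘ σ) ∈ Submodule.span K {e β})
    (β₀ : Fin N → ℕ) (hβ₀ : Function.Injective β₀) (hw : 0 < weight p β₀)
    (hrel : ∀ (δ : Fin N → ℕ) (m : ℕ), 0 < m → ∑ i, δ i + p * m = ∑ i, β₀ i →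
      ∑ i, e (δ + Pi.single i (p * m)) = 0)
    (hlt : ∀ β : Fin N → ℕ, Function.Injective β → ∑ i, β i = ∑ i, β₀ i → ∀ i, β i < 2 * N)
    (hstar : ∀ β γ : Fin N → ℕ, Function.Injective β → Function.Injective γ → ∑ i, β i = ∑ i, β₀ i →
      univ.image γ = star N (univ.image β) → e γ ∈ Submodule.span K {e β})
    {s : ℕ} (hs1 : 1 ≤ s) (hs : (if p = 2 then 2 * (weight p β₀ / 2) else weight p β₀) ≤ s) :
    Module.finrank K (Submodule.span K
      (e '' {β | Function.Injective β ∧ SameCnt p β β₀ ∧ ∑ i, β i = ∑ i, β₀ i})) +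
      #(fixedConfigs N p (univ.image (core p β₀)) (∑ i, β₀ i)) < p ^ s := by
  classical
  set w := weight p β₀ with hwdef
  set X₀ := univ.image (core p β₀) with hX₀
  set t := ∑ i, β₀ i with ht
  have hX₀g : ∀ b, GroundAt p X₀ b := groundAt_core hp.pos hβ₀
  have htw : t = ∑ x ∈ X₀, x + p * w := by
    rw [hX₀, sum_image' (core_injective hp.pos hβ₀), ht, sum_eq hβ₀]
  let rep : Finset ℕ → Fin N → ℕ := fun X => if h : #X = N then X.orderEmbOfFin h else 0
  have hrep : ∀ X : Finset ℕ, #X = N → Function.Injective (rep X) ∧ univ.image (rep X) = X := fun X hN => by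
    simp only [rep, dif_pos hN]
    exact ⟨(X.orderEmbOfFin hN).injective, image_orderEmbOfFin_univ X hN⟩
  set W := Submodule.span K (e '' {β | Function.Injective β ∧ SameCnt p β β₀ ∧ ∑ i, β i = t})
  have hle : ∀ a < p, W ≤ Submodule.span K ((fun X => e (rep X)) '' (configs p X₀ a t : Set (Finset ℕ))) :=
    fun a ha => span_class_le hp.pos e h0 hperm β₀ hβ₀ hrel ha rep hrep
  have hfin : ∀ a, Module.Finite K
      (Submodule.span K ((fun X => e (rep X)) '' (configs p X₀ a t : Set (Finset ℕ)))) := fun a =>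
    Module.Finite.span_of_finite K ((finite_toSet _).image _)
  have hdim : ∀ a < p, Module.finrank K W ≤ #(configs p X₀ a t) := fun a ha => by
    haveI := hfin a
    exact (Submodule.finrank_mono (hle a ha)).trans (finrank_span_image_le _ _)
  rcases hp.eq_two_or_odd with rfl | hodd
  · -- two runners
    rw [if_pos rfl] at hs
    have hF : #(fixedConfigs N 2 X₀ t) ≤ if w % 2 = 0 then bound 2 (w / 2) else 0 := by
      rw [htw]
      refine card_fixedConfigs_le le_rfl hX₀g (a₀ := 1) one_lt_two (fun X hX hng => ?_)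
        (fun v => if v % 2 = 0 then bound 2 (v / 2) else 0) (by simp [bound]) selfBound_two w
      refine ⟨0, fun h0' => hng fun b => ?_, fun h => absurd h zero_ne_one⟩
      rcases lt_trichotomy b 1 with hb | rfl | hb
      · obtain rfl : b = 0 := by omega
        exact h0'
      · rw [← hX]
        exact groundAt_star (fun x hx hx1 => by omega) h0'
      · intro x _ hxb
        omega
    have hl : Module.finrank K W ≤ bound 2 w := by
      refine (hdim 0 two_pos).trans ?_
      rw [htw]
      exact card_configs_le two_pos hX₀g two_pos w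
    by_cases hev : w % 2 = 0
    · rw [if_pos hev] at hF
      obtain ⟨j, hj⟩ : ∃ j, w = 2 * (j + 1) := ⟨w / 2 - 1, by omega⟩
      rw [show w / 2 = j + 1 by omega] at hF
      have h1 : bound 2 (j + 1) < 2 ^ (j + 1) := bound_lt two_pos _ (Nat.succ_pos j)
      have h2 : bound 2 w = 2 ^ (w - 1) := by
        obtain ⟨u, hu⟩ : ∃ u, w = u + 1 := ⟨w - 1, by omega⟩
        rw [hu]; simp [bound]
      have h3 : 2 ^ (j + 1) ≤ 2 ^ (w - 1) := Nat.pow_le_pow_right two_pos (by omega)
      have h4 : 2 ^ w ≤ 2 ^ s := Nat.pow_le_pow_right two_pos (by omega)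
      have h5 : 2 ^ w = 2 ^ (w - 1) + 2 ^ (w - 1) := by
        rw [← two_mul, ← pow_succ', Nat.sub_add_cancel (show 1 ≤ w by omega)]
      omega
    · rw [if_neg hev] at hF
      by_cases hw1 : w = 1
      · rw [hw1] at hl
        have h1 : bound 2 1 = 1 := rfl
        have := Nat.pow_le_pow_right (n := 2) two_pos hs1
        omega
      · have h1 := card_configs_two_lt hX₀g (w := w) (by omega)
        rw [← htw] at h1
        have h2 := hdim 0 two_pos
        have h3 : 2 ^ (w - 1) ≤ 2 ^ s := Nat.pow_le_pow_right two_pos (by omega)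
        omega
  · -- an odd number of runners
    have hp2 : p ≠ 2 := by omega
    rw [if_neg hp2] at hs
    have hps : p ^ w ≤ p ^ s := Nat.pow_le_pow_right hp.pos hs
    set a₀ := (2 * N - 1) * ((p + 1) / 2) % p with ha₀
    have ha₀p : a₀ < p := Nat.mod_lt _ hp.pos
    have hmid : ∀ x < 2 * N, x % p = a₀ → (2 * N - 1 - x) % p = a₀ := fun x hx hxa => by
      have h2 : a₀ + a₀ ≡ 2 * N - 1 [MOD p] := by
        refine ((Nat.mod_modEq _ p).add (Nat.mod_modEq _ p)).trans ?_
        rw [← mul_add, show (p + 1) / 2 + (p + 1) / 2 = p + 1 by omega, mul_add, mul_one, Nat.ModEq,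
          Nat.add_comm, Nat.add_mul_mod_self_right]
      have hxa' : x ≡ a₀ [MOD p] := by rw [Nat.ModEq, hxa, Nat.mod_eq_of_lt ha₀p]
      have h3 : x + (2 * N - 1 - x) ≡ a₀ + a₀ [MOD p] := by
        rw [Nat.add_sub_cancel' (show x ≤ 2 * N - 1 by omega)]
        exact h2.symm
      have h4 := Nat.ModEq.add_left_cancel hxa' h3
      rw [Nat.ModEq, Nat.mod_eq_of_lt ha₀p] at h4
      exact h4
    have hF : #(fixedConfigs N p X₀ t) ≤ p ^ (w - 1) := by
      have := card_fixedConfigs_le hp.two_le hX₀g ha₀p (N := N) (fun X _ hng => ?_)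
        (fun v => if v = 0 then 1 else p ^ (v - 1)) (by simp) (selfBound_odd hp.two_le hodd) w
      · rwa [if_neg hw.ne', ← htw] at this
      · push Not at hng
        obtain ⟨a, ha⟩ := hng
        exact ⟨a, ha, fun e => e ▸ hmid⟩
    have hT : #(configs p X₀ a₀ t) ≤ (p - 1) * p ^ (w - 1) := by
      rw [htw]
      refine (card_configs_le hp.pos hX₀g ha₀p w).trans (le_of_eq ?_)
      obtain ⟨u, hu⟩ : ∃ u, w = u + 1 := ⟨w - 1, by omega⟩
      rw [hu]; simp [bound]
    obtain ⟨u, hu⟩ : ∃ u, w = u + 1 := ⟨w - 1, by omega⟩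
    obtain ⟨q, hq⟩ : ∃ q, p = q + 3 := ⟨p - 3, by have := hp.two_le; omega⟩
    have hpw : (p - 1) * p ^ (w - 1) + p ^ (w - 1) = p ^ w := by
      rw [show w - 1 = u by omega, hu, pow_succ', ← Nat.succ_mul]
      congr 1
      omega
    by_cases hF0 : fixedConfigs N p X₀ t = ∅
    · rw [hF0, card_empty, add_zero]
      have h1 := hdim a₀ ha₀p
      have h2 := Nat.pow_pos (n := w - 1) hp.pos
      omega
    obtain ⟨Xf, hXf⟩ := nonempty_iff_ne_empty.2 hF0
    obtain ⟨hfc, hft, hff⟩ := (mem_fixedConfigs hp.pos).1 hXf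
    set T := configs p X₀ a₀ t with hTdef
    have hsz : ∀ X : Finset ℕ, (∀ b, #(X.filter (· % p = b)) = #(X₀.filter (· % p = b))) → #X = N := by
      intro X hX
      have key : ∀ Z : Finset ℕ, #Z = ∑ b ∈ range p, #(Z.filter (· % p = b)) := fun Z =>
        card_eq_sum_card_fiberwise fun z _ => mem_coe.2 (mem_range.2 (Nat.mod_lt z hp.pos))
      rw [key, sum_congr rfl fun b _ => hX b, ← key, hX₀,
        card_image_of_injective _ (core_injective hp.pos hβ₀), card_univ, Fintype.card_fin]
    have hin : ∀ X ∈ T, #X = N ∧ X ⊆ range (2 * N) := fun X hX => by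
      obtain ⟨hc, hsum, -⟩ := (mem_configs hp.pos).1 hX
      have hN := hsz X hc
      refine ⟨hN, fun x hx => mem_range.2 ?_⟩
      obtain ⟨h1, h2⟩ := hrep X hN
      rw [← h2] at hx hsum
      obtain ⟨i, -, rfl⟩ := mem_image.1 hx
      exact hlt _ h1 (by rw [← sum_image' h1, hsum]) i
    have hXf' : Xf ⊆ range (2 * N) := fun x hx => mem_range.2 (lt_of_mem_fixed hff hx)
    have hmap : ∀ X ∈ T, star N X ∈ T := fun X hX => by
      obtain ⟨hN, hsub⟩ := hin X hX
      obtain ⟨hc, hsum, hg⟩ := (mem_configs hp.pos).1 hX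
      refine (mem_configs hp.pos).2 ⟨fun b => ?_, by rw [sum_star hsub hN, hsum], groundAt_star hmid hg⟩
      rw [counts_star hsub hXf' (fun b => (hc b).trans (hfc b).symm) b, hff, hfc b]
    have hfix : ∀ X ∈ T, star N X = X → X ∈ fixedConfigs N p X₀ t := fun X hX hx => by
      obtain ⟨hc, hsum, -⟩ := (mem_configs hp.pos).1 hX
      exact (mem_fixedConfigs hp.pos).2 ⟨hc, hsum, hx⟩
    have hreps := card_reps_le T (fixedConfigs N p X₀ t) (star N) hmap
      (fun X hX => star_star (hin X hX).2) hfix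
    set R := T.filter fun X => Encodable.encode X ≤ Encodable.encode (star N X) with hR
    have hTR : ∀ X ∈ T, e (rep X) ∈ Submodule.span K ((fun X => e (rep X)) '' (R : Set (Finset ℕ))) := by
      intro X hX
      by_cases hXR : X ∈ R
      · exact Submodule.subset_span ⟨X, hXR, rfl⟩
      have hsR : star N X ∈ R := by
        refine mem_filter.2 ⟨hmap X hX, ?_⟩
        rw [star_star (hin X hX).2]
        have : ¬ Encodable.encode X ≤ Encodable.encode (star N X) := fun h => hXR (mem_filter.2 ⟨hX, h⟩)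
        omega
      obtain ⟨h1, h2⟩ := hrep _ (hin X hX).1
      obtain ⟨h3, h4⟩ := hrep _ (hin _ (hmap X hX)).1
      have hsum := ((mem_configs hp.pos).1 (hmap X hX)).2.1
      rw [← h4, sum_image' h3] at hsum
      refine Submodule.span_le.2 ?_ (hstar _ _ h3 h1 hsum (by rw [h2, h4, star_star (hin X hX).2]))
      rw [Set.singleton_subset_iff]
      exact Submodule.subset_span ⟨_, hsR, rfl⟩
    have hWR : Module.finrank K W ≤ #R := by
      haveI : Module.Finite K (Submodule.span K ((fun X => e (rep X)) '' (R : Set (Finset ℕ)))) :=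
        Module.Finite.span_of_finite K ((finite_toSet _).image _)
      refine (Submodule.finrank_mono ((hle a₀ ha₀p).trans (Submodule.span_le.2 ?_))).trans
        (finrank_span_image_le (fun X => e (rep X)) R)
      rintro _ ⟨X, hX, rfl⟩
      exact hTR X hX
    have hb : 3 * p ^ (w - 1) < (p + 1) * p ^ (w - 1) :=
      Nat.mul_lt_mul_of_pos_right (by omega) (Nat.pow_pos hp.pos)
    rw [add_mul, one_mul] at hb
    have hp' : p * p ^ (w - 1) = p ^ w := by rw [← pow_succ', Nat.sub_add_cancel (show 1 ≤ w by omega)]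
    omega

end Bound

end CfsgLib.SymBlock.Runner
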