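import Cfsg.Agent.Lib.SymBlock.AltTools
import Cfsg.Agent.Lib.MaxDeg.Restrict

/-!
# Members of a block of an alternating group

`exists_mem_of_covers` : every member of a block of the alternating group is a constituent of the
restriction of a member of a covering block of the symmetric group.
-/

set_option autoImplicit false
set_option linter.unusedSectionVars false

namespace CfsgLib.SymBlock

open Cfsg CfsgLib.Block Equiv Equiv.Perm

universe u

variable {p : ℕ} {M : Ideal AlgInt} [M.IsMaximal] {α : Type u} [Fintype α] [DecidableEq α]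

theorem resAlt_twist (χ : IrrCharacter (Perm α)) : resAlt (twist χ) = resAlt χ := by
  funext a
  simp [resAlt, twist_apply, mem_alternatingGroup.1 a.2]

theorem centralRes_twist (χ : IrrCharacter (Perm α)) (g : Perm α) :
    centralRes M (twist χ) g = ((sign g : ℤ) : ResField M) * centralRes M χ g := by
  rw [centralRes, centralRes, ← map_intCast (res M), ← map_mul]
  refine congrArg (res M) (Subtype.ext ?_)
  simp only [centralChar, twist_apply, map_one, Units.val_one, Int.cast_one, one_mul]
  push_cast
  ring

theorem suppIn_classBar {g : Perm α} (hg : g ∈ alternatingGroup α) :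
    SuppIn (alternatingGroup α) (classBar M g : MonoidAlgebra (ResField M) (Perm α)) := fun x hx => by
  show (classSum (ResField M) g).coeff x = 0
  simp only [classSum, coeff_gaOfFun]
  rw [if_neg]
  intro h
  obtain ⟨c, rfl⟩ := isConj_iff.1 h
  exact hx ((inferInstance : (alternatingGroup α).Normal).conj_mem g hg c)

theorem suppIn_classBar_mul {g h : Perm α} (hg : g ∉ alternatingGroup α) (hh : h ∉ alternatingGroup α) :
    SuppIn (alternatingGroup α)
      ((classBar M g * classBar M h : ZK M (Perm α)) : MonoidAlgebra (ResField M) (Perm α)) := by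
  intro x hx
  show (classSum (ResField M) g * classSum (ResField M) h).coeff x = 0
  rw [coeff_mul_sum]
  refine Finset.sum_eq_zero fun y _ => ?_
  simp only [classSum, coeff_gaOfFun]
  split_ifs with h1 h2
  · exfalso
    obtain ⟨c, hc⟩ := isConj_iff.1 h1
    obtain ⟨d, hd⟩ := isConj_iff.1 h2
    have e1 : sign y = sign g := by rw [← hc, map_mul, map_mul, map_inv, mul_comm, inv_mul_cancel_left]
    have e2 : sign (y⁻¹ * x) = sign h := by rw [← hd, map_mul, map_mul, map_inv, mul_comm, inv_mul_cancel_left]
    simp only [mem_alternatingGroup] at hg hh hx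
    refine hx ?_
    rw [show x = y * (y⁻¹ * x) by group, map_mul, e1, e2,
      (Int.units_eq_one_or (sign g)).resolve_left hg, (Int.units_eq_one_or (sign h)).resolve_left hh]
    rfl
  all_goals simp

/-- Equal central characters on the alternating group leave two possibilities. -/
theorem sameBlock_or_twist {χ χ' : IrrCharacter (Perm α)}
    (h : ∀ z : ZK M (Perm α), SuppIn (alternatingGroup α) (z : MonoidAlgebra (ResField M) (Perm α)) →
      omegaBar M χ z = omegaBar M χ' z) :
    SameBlock M (χ' : Perm α → ℂ) (χ : Perm α → ℂ) ∨
      SameBlock M (χ' : Perm α → ℂ) (twist χ : Perm α → ℂ) := by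
  classical
  set a := centralRes M χ
  set b := centralRes M χ'
  have hev : ∀ g ∈ alternatingGroup α, a g = b g := fun g hg => by
    have := h _ (suppIn_classBar hg)
    rwa [omegaBar_classBar, omegaBar_classBar] at this
  have hodd : ∀ g ∉ alternatingGroup α, ∀ k ∉ alternatingGroup α, a g * a k = b g * b k := fun g hg k hk => by
    have := h _ (suppIn_classBar_mul hg hk)
    rwa [map_mul, map_mul, omegaBar_classBar, omegaBar_classBar, omegaBar_classBar, omegaBar_classBar] at this
  by_cases hz : ∀ g ∉ alternatingGroup α, b g = 0
  · refine Or.inl (sameBlock_iff_centralRes.2 fun g => ?_)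
    by_cases hg : g ∈ alternatingGroup α
    · exact (hev g hg).symm
    · have := hodd g hg g hg
      rw [hz g hg, mul_zero, mul_self_eq_zero] at this
      exact (hz g hg).trans this.symm
  push Not at hz
  obtain ⟨k, hk, hk0⟩ := hz
  rcases mul_self_eq_mul_self_iff.1 (hodd k hk k hk) with e | e
  · refine Or.inl (sameBlock_iff_centralRes.2 fun g => ?_)
    by_cases hg : g ∈ alternatingGroup α
    · exact (hev g hg).symm
    · have := hodd g hg k hk
      rw [e] at this
      exact (mul_right_cancel₀ hk0 this).symm
  · refine Or.inr (sameBlock_iff_centralRes.2 fun g => ?_)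
    rw [centralRes_twist]
    show b g = _ * a g
    by_cases hg : g ∈ alternatingGroup α
    · rw [mem_alternatingGroup.1 hg, Units.val_one, Int.cast_one, one_mul, hev g hg]
    · have := hodd g hg k hk
      rw [e, mul_neg, ← neg_mul] at this
      have hs := mul_right_cancel₀ hk0 this
      rw [(Int.units_eq_one_or (sign g)).resolve_left (fun e' => hg (mem_alternatingGroup.2 e')),
        Units.val_neg, Units.val_one, Int.cast_neg, Int.cast_one, neg_one_mul, hs]

/-- Members of a block of the alternating group lie under members of a covering block. -/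
theorem exists_mem_of_covers (hM : IsPModular p M) {B' : Set (IrrCharacter (Perm α))}
    (hB' : IsPBlock M B') {B : Set (IrrCharacter (alternatingGroup α))} (hB : IsPBlock M B)
    (h : Covers B' B) {θ : IrrCharacter (alternatingGroup α)} (hθ : θ ∈ B) :
    ∃ χ ∈ B', classInner (resAlt χ) (θ : alternatingGroup α → ℂ) ≠ 0 := by
  classical
  obtain ⟨χ, hχ⟩ := MaxDeg.exists_over (alternatingGroup α) θ
  obtain ⟨χ', hχ'⟩ := isPBlock_nonempty hB'
  obtain ⟨θ', hθ', hc'⟩ := h.exists_constituent_mem hM hB' hB hχ'
  let := Fintype.ofFinite (ConjClasses (alternatingGroup α))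
  have key : ∀ z : ZK M (Perm α), SuppIn (alternatingGroup α) (z : MonoidAlgebra (ResField M) (Perm α)) →
      omegaBar M χ z = omegaBar M χ' z := fun z hz => by
    rw [omegaBar_eq_omG_of_constituent χ θ hχ z hz, omegaBar_eq_omG_of_constituent χ' θ' hc' z hz,
      omG_congr_block hB hθ hθ']
  rcases sameBlock_or_twist key with hs | hs
  · exact ⟨χ, (isPBlock_sameBlock hB' hχ').2 hs, hχ⟩
  · exact ⟨twist χ, (isPBlock_sameBlock hB' hχ').2 hs, by rw [resAlt_twist]; exact hχ⟩

end CfsgLib.SymBlock
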