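import Cfsg.Agent.Lib.Char.Clifford
import Cfsg.Agent.Lib.Char.Virtual
import Cfsg.Agent.Lib.Block.LinearTwist
import Cfsg.Agent.Lib.Coprime.PGroupFrattini
import Cfsg.Prelude.Def_Blocks
import Mathlib.GroupTheory.SpecificGroups.Alternating
import Mathlib.GroupTheory.Perm.ViaEmbedding

/-!
# A character of degree `p` of a Sylow subgroup of an alternating group

`exists_irr_degree_p_sylow_alternating`: a Sylow `p`-subgroup of the alternating group on at least
`p ^ 2` points (at least `6` for `p = 2`) has an irreducible character of degree `p`.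

A Sylow subgroup `S` of the symmetric group contains every permutation that agrees on each orbit of
a normal subgroup `M` with some element of `M` (`piecewise_le`).  For an orbit of `S` with at least
`p ^ 2` points take `M` maximal over a point stabiliser: a linear character of `M` through the
`M`-orbit `q` of that point is moved by the elements outside `M`, so it induces irreducibly.
-/

set_option autoImplicit false
set_option linter.unusedSectionVars false
set_option linter.style.haveILetI false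

namespace CfsgLib.SymBlock

open Cfsg Equiv Equiv.Perm

namespace DegreeP

section Conj

variable {G : Type*} [Group G] [Finite G] {p : ℕ} [Fact p.Prime]

/-- A `p`-element of a subgroup normalised by a Sylow subgroup `S` is conjugate to a member of both. -/
theorem exists_conj_mem_inf (S : Sylow p G) (K : Subgroup G)
    (hSK : (S : Subgroup G) ≤ Subgroup.normalizer (K : Set G)) {z : G} (hz : z ∈ K) {k : ℕ}
    (hzp : z ^ p ^ k = 1) : ∃ g : G, g * z * g⁻¹ ∈ (S : Subgroup G) ∧ g * z * g⁻¹ ∈ K := by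
  set L := (S : Subgroup G) ⊔ K with hL
  let S' : Sylow p L := S.subtype le_sup_left
  let z' : L := ⟨z, Subgroup.mem_sup_right hz⟩
  obtain ⟨j, -, hj⟩ := (Nat.dvd_prime_pow (Fact.out : p.Prime)).1 (orderOf_dvd_of_pow_eq_one
    (show z' ^ p ^ k = 1 from Subtype.ext hzp))
  obtain ⟨Q, hQ⟩ := (IsPGroup.of_card (n := j) (by rw [Nat.card_zpowers, hj]) :
    IsPGroup p (Subgroup.zpowers z')).exists_le_sylow
  obtain ⟨g, hg⟩ := MulAction.exists_smul_eq L Q S'
  refine ⟨g, ?_, ?_⟩
  · have h1 : g * z' * g⁻¹ ∈ (S' : Subgroup L) := by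
      rw [← hg, Sylow.coe_subgroup_smul]
      exact Subgroup.smul_mem_pointwise_smul _ (MulAut.conj g) _ (hQ (Subgroup.mem_zpowers z'))
    exact h1
  · have hN : L ≤ Subgroup.normalizer (K : Set G) := sup_le hSK Subgroup.le_normalizer
    exact (Subgroup.mem_normalizer_iff.1 (hN g.2) z).1 hz

end Conj

variable {β : Type} [Fintype β] [DecidableEq β] {p : ℕ} [Fact p.Prime]

/-- The permutations agreeing on each orbit of `M` with an element of `M`. -/
def piecewise (M : Subgroup (Perm β)) : Subgroup (Perm β) where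
  carrier := {a | ∀ x, ∃ m ∈ M, ∀ n ∈ M, a (n x) = m (n x)}
  one_mem' := fun _ => ⟨1, M.one_mem, fun _ _ => rfl⟩
  mul_mem' := by
    intro a b ha hb x
    obtain ⟨m, hm, hbm⟩ := hb x
    obtain ⟨m', hm', ham⟩ := ha x
    refine ⟨m' * m, M.mul_mem hm' hm, fun n hn => ?_⟩
    rw [Perm.mul_apply, hbm n hn, ← Perm.mul_apply m n, ham _ (M.mul_mem hm hn)]
    rfl
  inv_mem' := by
    intro a ha x
    obtain ⟨m, hm, ham⟩ := ha x
    refine ⟨m⁻¹, M.inv_mem hm, fun n hn => ?_⟩
    rw [Perm.inv_eq_iff_eq, ← Perm.mul_apply m⁻¹ n, ham _ (M.mul_mem (M.inv_mem hm) hn)]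
    simp [Perm.mul_apply]

theorem isPGroup_piecewise {M : Subgroup (Perm β)} (hM : IsPGroup p M) :
    IsPGroup p (piecewise M) := by
  obtain ⟨k, hk⟩ := hM.exists_card_eq
  rintro ⟨a, ha⟩
  refine ⟨k, Subtype.ext (Perm.ext fun x => ?_)⟩
  obtain ⟨m, hm, ham⟩ := ha x
  have hpow : ∀ j : ℕ, (a ^ j) x = (m ^ j) x := by
    intro j
    induction j with
    | zero => rfl
    | succ j ih =>
      rw [pow_succ', Perm.mul_apply, ih, ham _ (M.pow_mem hm j), ← Perm.mul_apply, ← pow_succ']
  have hmk : m ^ p ^ k = 1 := by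
    have h1 : (⟨m, hm⟩ : M) ^ Nat.card M = 1 := pow_card_eq_one'
    rw [hk] at h1
    exact congrArg Subtype.val h1
  show (a ^ p ^ k) x = x
  rw [hpow, hmk, Perm.one_apply]

theorem piecewise_le (S : Sylow p (Perm β)) {M : Subgroup (Perm β)} (hMS : M ≤ S)
    (hn : ∀ c ∈ (S : Subgroup (Perm β)), ∀ m ∈ M, c * m * c⁻¹ ∈ M) : piecewise M ≤ S := by
  have hstep : ∀ c ∈ (S : Subgroup (Perm β)), ∀ a ∈ piecewise M, c * a * c⁻¹ ∈ piecewise M := by
    intro c hc a ha x
    obtain ⟨m, hm, ham⟩ := ha (c⁻¹ x)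
    refine ⟨c * m * c⁻¹, hn c hc m hm, fun n hn' => ?_⟩
    have h1 : c⁻¹ * n * c ∈ M := by simpa using hn c⁻¹ (Subgroup.inv_mem _ hc) n hn'
    have h2 := ham _ h1
    simp only [Perm.mul_apply, Perm.coe_inv, apply_symm_apply] at h2 ⊢
    rw [h2]
  have hnorm : (S : Subgroup (Perm β)) ≤ Subgroup.normalizer (piecewise M : Set (Perm β)) := by
    intro c hc
    rw [Subgroup.mem_normalizer_iff]
    exact fun a => ⟨hstep c hc a, fun ha => by
      simpa [mul_assoc] using hstep c⁻¹ (Subgroup.inv_mem _ hc) _ ha⟩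
  exact (le_sup_right (a := (S : Subgroup (Perm β)))).trans
    (S.is_maximal' (IsPGroup.to_sup_of_normal_right' S.isPGroup'
      (isPGroup_piecewise (S.isPGroup'.to_le hMS)) hnorm) le_sup_left).le

/-- Some point has an orbit of at least `p ^ 2` points. -/
theorem exists_large_orbit (S : Sylow p (Perm β)) (h : p ^ 2 ≤ Fintype.card β) :
    ∃ x : β, p ^ 2 ≤ Nat.card (MulAction.orbit (S : Subgroup (Perm β)) x) := by
  have hp : p.Prime := Fact.out
  haveI : NeZero (p ^ 2) := ⟨pow_ne_zero _ hp.ne_zero⟩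
  obtain ⟨ι⟩ : Nonempty (ZMod (p ^ 2) ↪ β) :=
    Function.Embedding.nonempty_of_card_le (by rw [ZMod.card]; exact h)
  set σ := Perm.viaEmbeddingHom ι (Equiv.addRight 1) with hσ
  have hσpow : ∀ k : ℕ, σ ^ k = Perm.viaEmbeddingHom ι (Equiv.addRight ((k : ℕ) : ZMod (p ^ 2))) := by
    intro k
    rw [hσ, ← map_pow]
    congr 1
    induction k with
    | zero => ext a; simp
    | succ k ih =>
      rw [pow_succ (Equiv.addRight (1 : ZMod (p ^ 2))) k, ih]
      refine Equiv.ext fun a => ?_
      rw [Perm.mul_apply]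
      simp only [Equiv.coe_addRight, Nat.cast_succ]
      ring
  have h1 : σ ^ p ^ 2 = 1 := by
    rw [hσpow, ZMod.natCast_self, Equiv.addRight_zero, map_one]
  obtain ⟨g, hg, -⟩ := exists_conj_mem_inf S ⊤ (fun _ _ => Subgroup.mem_normalizer_iff.2 fun _ => by simp)
    (Subgroup.mem_top σ) h1
  refine ⟨g (ι 0), ?_⟩
  have hmem : ∀ i : ZMod (p ^ 2), g (ι i) ∈ MulAction.orbit (S : Subgroup (Perm β)) (g (ι 0)) := by
    intro i
    refine ⟨⟨(g * σ * g⁻¹) ^ i.val, Subgroup.pow_mem _ hg _⟩, ?_⟩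
    show ((g * σ * g⁻¹) ^ i.val) (g (ι 0)) = g (ι i)
    rw [conj_pow, hσpow, Perm.mul_apply, Perm.mul_apply, Perm.coe_inv, symm_apply_apply]
    show g ((Equiv.addRight ((i.val : ℕ) : ZMod (p ^ 2))).viaEmbedding ι (ι 0)) = g (ι i)
    rw [Perm.viaEmbedding_apply]
    simp
  have := Nat.card_le_card_of_injective
    (fun i : ZMod (p ^ 2) => (⟨g (ι i), hmem i⟩ : MulAction.orbit (S : Subgroup (Perm β)) (g (ι 0))))
    fun a b hab => ι.injective (g.injective (congrArg Subtype.val hab))
  rwa [Nat.card_zmod] at this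

/-- Induction of a linear character moved by an element of the group, from a normal subgroup of
prime index. -/
theorem exists_irr_of_moved {Γ : Type} [Group Γ] [Finite Γ] (N : Subgroup Γ) [N.Normal]
    (hN : N.index = p) (lam : N →* ℂˣ) {c : Γ} (e : N)
    (hne : lam ⟨c * e * c⁻¹, Subgroup.Normal.conj_mem inferInstance _ e.2 c⟩ ≠ lam e) :
    ∃ φ : IrrCharacter Γ, charDegree (φ : Γ → ℂ) = p := by
  letI := Fintype.ofFinite Γ
  letI := Fintype.ofFinite N
  set θ : N → ℂ := fun n => (lam n : ℂ) with hθ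
  have hirr : IsIrrCharacter N θ := CfsgLib.Char.isIrrCharacter_lin lam
  set I := CfsgLib.Char.inertia N θ with hI
  have hle : N ≤ I := CfsgLib.Char.le_inertia N fun a b => by simp [θ, mul_comm]
  have hc : c ∉ I := fun hcI => hne (Units.ext (congrFun ((CfsgLib.Char.mem_inertia N θ c).1 hcI) e))
  have hIp : I.index = p := by
    rcases (Nat.dvd_prime (Fact.out : p.Prime)).1 (hN ▸ Subgroup.index_dvd_of_le hle) with h | h
    · exact absurd (Subgroup.index_eq_one.1 h ▸ Subgroup.mem_top c) hc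
    · exact h
  have hcard : Nat.card I = Nat.card N := by
    have h1 := I.card_mul_index
    rw [hIp] at h1
    have h2 := N.card_mul_index
    rw [hN] at h2
    exact Nat.eq_of_mul_eq_mul_right (Fact.out : p.Prime).pos (h1.trans h2.symm)
  have hnorm := CfsgLib.Char.card_smul_classInner_indFun_self N hirr
  rw [← hI, hcard] at hnorm
  have hirr' : IsIrrCharacter Γ (indFun N θ) := CfsgLib.Char.isIrr_of_isCharacter_norm_one
    (CfsgLib.Char.isCharacter_indFun N (CfsgLib.Char.isCharacter_of_isIrr hirr))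
    (mul_left_cancel₀ (Nat.cast_ne_zero.2 Nat.card_pos.ne') (hnorm.trans (mul_one _).symm))
  refine ⟨⟨_, hirr'⟩, ?_⟩
  show ⌊(indFun N θ 1).re⌋₊ = p
  rw [CfsgLib.Char.indFun_one, hN]
  simp [θ]

end DegreeP

open DegreeP

/-- A Sylow `p`-subgroup of the alternating group on at least `p ^ 2` points (at least `6` if
`p = 2`) has an irreducible character of degree `p`. -/
theorem exists_irr_degree_p_sylow_alternating {β : Type} [Fintype β] [DecidableEq β] {p : ℕ}
    [Fact p.Prime] (h : p ^ 2 ≤ Fintype.card β) (h2 : p = 2 → 6 ≤ Fintype.card β)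
    (P : Sylow p (alternatingGroup β)) :
    ∃ φ : Cfsg.IrrCharacter ↥(P : Subgroup (alternatingGroup β)),
      Cfsg.charDegree (φ : ↥(P : Subgroup (alternatingGroup β)) → ℂ) = p := by
  classical
  have hp : p.Prime := Fact.out
  -- a Sylow subgroup of the symmetric group over `P`
  obtain ⟨S, hPS⟩ := (P.isPGroup'.map (alternatingGroup β).subtype).exists_le_sylow
  have hPeq : ∀ a : alternatingGroup β, a ∈ (P : Subgroup (alternatingGroup β)) ↔
      (a : Perm β) ∈ (S : Subgroup (Perm β)) := by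
    intro a
    refine ⟨fun ha => hPS ⟨a, ha, rfl⟩, fun ha => ?_⟩
    have hle : (P : Subgroup (alternatingGroup β)) ≤
        (S : Subgroup (Perm β)).comap (alternatingGroup β).subtype := fun b hb => hPS ⟨b, hb, rfl⟩
    rw [← P.is_maximal' (S.isPGroup'.comap_of_injective _ Subtype.val_injective) hle]
    exact ha
  have hsign : ∀ (a : Perm β), p ≠ 2 → a ∈ (S : Subgroup (Perm β)) → sign a = 1 := by
    intro a hp2 ha
    obtain ⟨k, hk⟩ := IsPGroup.iff_orderOf.1 S.isPGroup' ⟨a, ha⟩
    rw [← Subgroup.orderOf_coe] at hk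
    rcases Int.units_eq_one_or (sign a) with h1 | h1
    · exact h1
    · exfalso
      have h3 := congrArg sign (pow_orderOf_eq_one a)
      rw [hk, map_pow, h1, map_one, (hp.odd_of_ne_two hp2).pow.neg_one_pow] at h3
      exact absurd h3 (by decide)
  -- an orbit with at least `p ^ 2` points and a maximal subgroup over a stabiliser
  obtain ⟨x, hx⟩ := exists_large_orbit S h
  set St := MulAction.stabilizer (S : Subgroup (Perm β)) x with hSt
  have hSti : p ^ 2 ≤ St.index := by
    rw [hSt, MulAction.index_stabilizer]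
    exact hx
  obtain ⟨M', hM', hStM⟩ := (eq_top_or_exists_le_coatom St).resolve_left fun e => by
    rw [e, Subgroup.index_top] at hSti
    exact absurd hSti (not_le.2 (Nat.one_lt_pow two_ne_zero hp.one_lt))
  obtain ⟨hM'n, hM'i⟩ := CfsgLib.Coprime.coatom_data_of_pGroup S.isPGroup' hM'
  set M := M'.map (S : Subgroup (Perm β)).subtype with hM
  have hMS : M ≤ S := Subgroup.map_subtype_le M'
  have hMn : ∀ c ∈ (S : Subgroup (Perm β)), ∀ m ∈ M, c * m * c⁻¹ ∈ M := by
    rintro c hc _ ⟨m, hm, rfl⟩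
    exact ⟨⟨c, hc⟩ * m * ⟨c, hc⟩⁻¹, hM'n.conj_mem m hm _, rfl⟩
  have hfixM : ∀ s ∈ (S : Subgroup (Perm β)), s x = x → s ∈ M := fun s hs e =>
    ⟨⟨s, hs⟩, hStM (MulAction.mem_stabilizer_iff.2 e), rfl⟩
  -- the orbit of `M`
  let q : β → Prop := fun y => ∃ n ∈ M, n x = y
  have hqS : ∀ s ∈ (S : Subgroup (Perm β)), ∀ y, q y → q (s y) → s ∈ M := by
    rintro s hs _ ⟨n, hn, rfl⟩ ⟨n', hn', e⟩
    have h1 : n'⁻¹ * s * n ∈ M := hfixM _ (Subgroup.mul_mem _ (Subgroup.mul_mem _
      (hMS (M.inv_mem hn')) hs) (hMS hn))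
      (by rw [Perm.mul_apply, Perm.mul_apply, Perm.inv_eq_iff_eq, e])
    simpa [mul_assoc] using M.mul_mem (M.mul_mem hn' h1) (M.inv_mem hn)
  have hq : ∀ m ∈ M, ∀ y, q (m y) ↔ q y := fun m hm y =>
    ⟨fun ⟨n, hn, e⟩ => ⟨m⁻¹ * n, M.mul_mem (M.inv_mem hm) hn, by
      rw [Perm.mul_apply, Perm.inv_eq_iff_eq, e]⟩,
     fun ⟨n, hn, e⟩ => ⟨m * n, M.mul_mem hm hn, by rw [Perm.mul_apply, e]⟩⟩
  let res : M →* Perm {y // q y} :=
    { toFun := fun m => (m : Perm β).subtypePerm (hq m m.2)
      map_one' := Perm.ext fun y => Subtype.ext rfl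
      map_mul' := fun m n => Perm.ext fun y => Subtype.ext rfl }
  have hR : IsPGroup p res.range :=
    (S.isPGroup'.to_le hMS).of_surjective res.rangeRestrict res.rangeRestrict_surjective
  have hofS : ∀ r ∈ res.range, ofSubtype r ∈ M := by
    rintro _ ⟨m, rfl⟩
    have hpw : ofSubtype (res m) ∈ piecewise M := by
      intro y
      by_cases hy : q y
      · exact ⟨m, m.2, fun n hn => Perm.ofSubtype_apply_of_mem _ ((hq n hn y).2 hy)⟩
      · exact ⟨1, M.one_mem, fun n hn => Perm.ofSubtype_apply_of_not_mem _ (mt (hq n hn y).1 hy)⟩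
    have hxq : q x := ⟨1, M.one_mem, rfl⟩
    exact hqS _ (piecewise_le S hMS hMn hpw) x hxq (by
      rw [Perm.ofSubtype_apply_of_mem _ hxq]
      exact (hq m m.2 x).2 hxq)
  obtain ⟨y₀, hy₀, hy₀x⟩ : ∃ y, q y ∧ y ≠ x := by
    by_contra! hc
    have h1 : M' ≤ St := fun m hm => MulAction.mem_stabilizer_iff.2
      (hc _ ⟨m, ⟨m, hm, rfl⟩, rfl⟩)
    rw [le_antisymm hStM h1, hM'i] at hSti
    exact absurd hSti (not_le.2 (by nlinarith [hp.two_le]))
  haveI : Nontrivial res.range := by
    obtain ⟨n, hn, e⟩ := hy₀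
    refine ⟨⟨⟨res ⟨n, hn⟩, _, rfl⟩, 1, fun hne => hy₀x ?_⟩⟩
    have h1 := congrArg Subtype.val (DFunLike.congr_fun (congrArg Subtype.val hne)
      (⟨x, 1, M.one_mem, rfl⟩ : {y // q y}))
    exact e.symm.trans h1
  haveI := hR.isNilpotent
  -- the two ingredients: an even witness and an element outside `M`
  suffices key : ∃ e ∈ M, ∃ r : res.range, sign e = 1 ∧ r ∉ commutator res.range ∧
      (∀ y, q y → e y = ofSubtype (r : Perm {y // q y}) y) ∧
      (∀ y, ¬ q y → (∃ s ∈ (S : Subgroup (Perm β)), s x = y) → e y = y) ∧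
      ∃ c ∈ (S : Subgroup (Perm β)), c ∉ M ∧ sign c = 1 by
    obtain ⟨e, he, r, hes, hr, heq, hefix, c, hc, hcM, hcs⟩ := key
    obtain ⟨μ, hμ⟩ := CfsgLib.Block.exists_linear_ne_one hr
    let ι : (P : Subgroup (alternatingGroup β)) →* (S : Subgroup (Perm β)) :=
      { toFun := fun a => ⟨((a : alternatingGroup β) : Perm β), (hPeq _).1 a.2⟩
        map_one' := rfl
        map_mul' := fun _ _ => rfl }
    set N := M'.comap ι with hNdef
    have hval : ∀ a : (S : Subgroup (Perm β)), (a : Perm β) ∈ M ↔ a ∈ M' := fun a =>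
      Subgroup.mem_map_iff_mem (Subgroup.subtype_injective _)
    let eA : (P : Subgroup (alternatingGroup β)) :=
      ⟨⟨e, mem_alternatingGroup.2 hes⟩, (hPeq _).2 (hMS he)⟩
    let cA : (P : Subgroup (alternatingGroup β)) :=
      ⟨⟨c, mem_alternatingGroup.2 hcs⟩, (hPeq _).2 hc⟩
    have heN : eA ∈ N := (hval (ι eA)).1 he
    have hcN : cA ∉ N := fun h' => hcM ((hval (ι cA)).2 h')
    haveI := hM'n
    have hNi : N.index = p := by
      rw [hNdef, Subgroup.index_comap]
      rcases (Nat.dvd_prime hp).1 (hM'i ▸ Subgroup.relIndex_dvd_index_of_normal M' ι.range)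
        with h1 | h1
      · exact absurd (Subgroup.relIndex_eq_one.1 h1 ⟨cA, rfl⟩) hcN
      · exact h1
    let j : N →* M :=
      { toFun := fun a => ⟨((ι (a : _) : (S : Subgroup (Perm β))) : Perm β), (hval _).2 a.2⟩
        map_one' := rfl
        map_mul' := fun _ _ => rfl }
    refine exists_irr_of_moved N hNi (μ.comp (res.rangeRestrict.comp j)) (c := cA) ⟨eA, heN⟩ ?_
    have h1 : res.rangeRestrict (j ⟨eA, heN⟩) = r := by
      refine Subtype.ext (Perm.ext fun y => Subtype.ext ?_)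
      show e y = _
      rw [heq y y.2, Perm.ofSubtype_apply_of_mem _ y.2]
    have h2 : res.rangeRestrict (j ⟨cA * eA * cA⁻¹,
        Subgroup.Normal.conj_mem inferInstance _ heN cA⟩) = 1 := by
      refine Subtype.ext (Perm.ext fun y => Subtype.ext ?_)
      show (c * e * c⁻¹) (y : β) = (y : β)
      have hny : ¬ q (c⁻¹ y) := fun hq' => hcM (hqS c hc _ hq' (by simpa using y.2))
      obtain ⟨n, hn, hny'⟩ := y.2
      have h3 := hefix _ hny ⟨c⁻¹ * n, Subgroup.mul_mem _ (Subgroup.inv_mem _ hc) (hMS hn),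
        by rw [Perm.mul_apply, hny']⟩
      rw [Perm.mul_apply, Perm.mul_apply, h3]
      simp
    simp only [MonoidHom.comp_apply]
    rw [h1, h2, map_one]
    exact Ne.symm hμ
  -- restrictions
  have hof : ∀ r : res.range, ∀ y, ¬ q y → ofSubtype (r : Perm {y // q y}) y = y :=
    fun r y hy => Perm.ofSubtype_apply_of_not_mem _ hy
  obtain ⟨c₀, hc₀⟩ : ∃ c : (S : Subgroup (Perm β)), c ∉ M' := by
    by_contra! hc
    exact hM'.1 (eq_top_iff.2 fun c _ => hc c)
  have hc₀M : (c₀ : Perm β) ∉ M := fun hm =>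
    hc₀ ((Subgroup.mem_map_iff_mem (Subgroup.subtype_injective _)).1 hm)
  have heven : ∀ z ∈ M, sign z = -1 → ∃ c ∈ (S : Subgroup (Perm β)), c ∉ M ∧ sign c = 1 := by
    intro z hz hzs
    rcases Int.units_eq_one_or (sign (c₀ : Perm β)) with h1 | h1
    · exact ⟨c₀, c₀.2, hc₀M, h1⟩
    · exact ⟨c₀ * z, Subgroup.mul_mem _ c₀.2 (hMS hz), fun hm => hc₀M (by
        simpa using M.mul_mem hm (M.inv_mem hz)), by rw [map_mul, h1, hzs]; rfl⟩
  obtain ⟨r₀, hr₀⟩ : ∃ r : res.range, r ∉ commutator res.range := by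
    by_contra! hc
    exact (Group.IsSolvable.commutator_lt_top_of_nontrivial res.range).ne (eq_top_iff.2 fun r _ => hc r)
  by_cases hp2 : p ≠ 2
  · exact ⟨_, hofS r₀ r₀.2, r₀, hsign _ hp2 (hMS (hofS r₀ r₀.2)), hr₀, fun _ _ => rfl,
      fun y hy _ => hof r₀ y hy, c₀, c₀.2, hc₀M, hsign _ hp2 c₀.2⟩
  push Not at hp2
  subst hp2
  by_cases h3 : 3 ≤ Nat.card {y // q y}
  · -- an even element outside the commutator subgroup
    obtain ⟨r, hr, hrs⟩ : ∃ r : res.range, r ∉ commutator res.range ∧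
        sign (r : Perm {y // q y}) = 1 := by
      by_contra! hc
      have hodd : ∀ r : res.range, sign (r : Perm {y // q y}) = 1 → r ∈ commutator res.range :=
        fun r hrs => by_contra fun hn => hc r hn hrs
      have hg : sign (r₀ : Perm {y // q y}) = -1 :=
        (Int.units_eq_one_or _).resolve_left (hc r₀ hr₀)
      have hgen : Subgroup.zpowers r₀ = ⊤ := by
        refine frattini_nongenerating (eq_top_iff.2 fun r _ => ?_)
        rcases Int.units_eq_one_or (sign (r : Perm {y // q y})) with h1 | h1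
        · exact Subgroup.mem_sup_right (CfsgLib.Coprime.commutator_le_frattini hR (hodd r h1))
        · have h4 : r₀⁻¹ * r ∈ commutator res.range := hodd _ (by
            simp [hg, h1])
          simpa using Subgroup.mul_mem_sup (Subgroup.mem_zpowers r₀)
            (CfsgLib.Coprime.commutator_le_frattini hR h4)
      have hcomm : ∀ a b : res.range, a * b = b * a := fun a b => by
        obtain ⟨i, rfl⟩ := Subgroup.mem_zpowers_iff.1 (hgen ▸ Subgroup.mem_top a)
        obtain ⟨k, rfl⟩ := Subgroup.mem_zpowers_iff.1 (hgen ▸ Subgroup.mem_top b)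
        rw [← zpow_add, ← zpow_add, add_comm]
      have hbot : commutator res.range = ⊥ := by
        rw [commutator_def, Subgroup.commutator_eq_bot_iff_le_centralizer]
        exact fun a _ => Subgroup.mem_centralizer_iff.2 fun b _ => hcomm b a
      have htwo : ∀ r : res.range, r = 1 ∨ r = r₀ := fun r => by
        rcases Int.units_eq_one_or (sign (r : Perm {y // q y})) with h1 | h1
        · exact Or.inl (Subgroup.mem_bot.1 (hbot ▸ hodd r h1))
        · refine Or.inr ?_
          have h4 : r₀⁻¹ * r ∈ (⊥ : Subgroup res.range) := hbot ▸ hodd _ (by simp [hg, h1])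
          exact (inv_mul_eq_one.1 (Subgroup.mem_bot.1 h4)).symm
      -- at most two points
      have hsurj : Function.Surjective (fun b : Bool =>
          if b then (⟨x, 1, M.one_mem, rfl⟩ : {y // q y})
          else (r₀ : Perm {y // q y}) ⟨x, 1, M.one_mem, rfl⟩) := by
        rintro ⟨y, n, hn, rfl⟩
        rcases htwo ⟨res ⟨n, hn⟩, _, rfl⟩ with h1 | h1
        · refine ⟨true, Subtype.ext ?_⟩
          have h5 := congrArg Subtype.val (DFunLike.congr_fun (congrArg Subtype.val h1)
            (⟨x, 1, M.one_mem, rfl⟩ : {y // q y}))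
          exact h5.symm
        · refine ⟨false, ?_⟩
          have h5 := DFunLike.congr_fun (congrArg Subtype.val h1)
            (⟨x, 1, M.one_mem, rfl⟩ : {y // q y})
          exact h5.symm.trans (Subtype.ext rfl)
      have h6 := Nat.card_le_card_of_surjective _ hsurj
      rw [Nat.card_eq_fintype_card (α := Bool), Fintype.card_bool] at h6
      omega
    -- a transposition inside `M`
    obtain ⟨u, v, huv⟩ : ∃ u v : β, u ≠ v := Fintype.exists_pair_of_one_lt_card (by
      have := h2 rfl; omega)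
    obtain ⟨g, hτ, -⟩ := exists_conj_mem_inf S ⊤ (fun _ _ => Subgroup.mem_normalizer_iff.2 fun _ => by simp)
      (Subgroup.mem_top (swap u v)) (k := 1) (by rw [pow_one, sq, swap_mul_self])
    set τ := g * swap u v * g⁻¹ with hτdef
    have hτs : sign τ = -1 := by
      rw [hτdef, map_mul, map_mul, sign_swap huv, map_inv]; simp
    have hτM : τ ∈ M := by
      by_contra hτM
      have hsub : (Finset.univ.filter q) ⊆ τ.support := fun y hy => by
        rw [Perm.mem_support]
        intro e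
        have hy' := (Finset.mem_filter.1 hy).2
        exact hτM (hqS τ hτ y hy' (e.symm ▸ hy'))
      have h4 := Finset.card_le_card hsub
      rw [hτdef, Perm.card_support_conj, Perm.card_support_swap huv] at h4
      rw [Nat.subtype_card (Finset.univ.filter q) (fun y => by simp)] at h3
      omega
    exact ⟨_, hofS r r.2, r, by rw [Perm.sign_ofSubtype]; exact hrs, hr, fun _ _ => rfl,
      fun y hy _ => hof r y hy, heven τ hτM hτs⟩
  · -- the orbit of `S` has at most four points
    push Not at h3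
    let O : Finset β := Finset.univ.filter fun y => ∃ s ∈ (S : Subgroup (Perm β)), s x = y
    have hO : O.card ≤ 4 := by
      have hsub : O ⊆ (Finset.univ.filter q) ∪ (Finset.univ.filter q).image (c₀ : Perm β) := by
        intro y hy
        obtain ⟨s, hs, rfl⟩ := (Finset.mem_filter.1 hy).2
        rw [Finset.mem_union, Finset.mem_filter, Finset.mem_image]
        by_cases hsM : s ∈ M
        · exact Or.inl ⟨Finset.mem_univ _, s, hsM, rfl⟩
        · refine Or.inr ⟨((c₀ : Perm β)⁻¹ * s) x, ?_, by simp⟩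
          have h1 : c₀⁻¹ * ⟨s, hs⟩ ∈ M' := by
            rw [Subgroup.mul_mem_iff_of_index_two hM'i]
            simp only [inv_mem_iff, hc₀, false_iff]
            exact fun hm => hsM ⟨_, hm, rfl⟩
          exact Finset.mem_filter.2 ⟨Finset.mem_univ _, _, ⟨_, h1, rfl⟩, rfl⟩
      have h4 := (Finset.card_le_card hsub).trans (Finset.card_union_le _ _)
      have h5 := Finset.card_image_le (s := Finset.univ.filter q) (f := (c₀ : Perm β))
      rw [Nat.subtype_card (Finset.univ.filter q) (fun y => by simp)] at h3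
      omega
    obtain ⟨u, hu, v, hv, huv⟩ : ∃ u ∈ Oᶜ, ∃ v ∈ Oᶜ, u ≠ v := Finset.one_lt_card.1 (by
      rw [Finset.card_compl]; have := h2 rfl; omega)
    let K : Subgroup (Perm β) :=
      { carrier := {a | ∀ y ∈ O, a y = y}
        one_mem' := fun _ _ => rfl
        mul_mem' := fun {a b} ha hb y hy => by rw [Perm.mul_apply, hb y hy, ha y hy]
        inv_mem' := fun {a} ha y hy => by rw [Perm.inv_eq_iff_eq, ha y hy] }
    have hstep : ∀ s ∈ (S : Subgroup (Perm β)), ∀ a ∈ K, s * a * s⁻¹ ∈ K := by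
      intro s hs a ha y hy
      obtain ⟨t, ht, rfl⟩ := (Finset.mem_filter.1 hy).2
      have hy' : (s⁻¹ * t) x ∈ O :=
        Finset.mem_filter.2 ⟨Finset.mem_univ _, _, Subgroup.mul_mem _ (Subgroup.inv_mem _ hs) ht, rfl⟩
      have h6 := ha _ hy'
      simp only [Perm.mul_apply] at h6 ⊢
      rw [h6]; simp
    have hzK : swap u v ∈ K := fun y hy => swap_apply_of_ne_of_ne
      (fun e => Finset.mem_compl.1 hu (e ▸ hy)) (fun e => Finset.mem_compl.1 hv (e ▸ hy))
    obtain ⟨g, hzS, hzK'⟩ := exists_conj_mem_inf S K (fun s hs => by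
      rw [Subgroup.mem_normalizer_iff]
      exact fun a => ⟨hstep s hs a, fun ha => by
        simpa [mul_assoc] using hstep s⁻¹ (Subgroup.inv_mem _ hs) _ ha⟩)
      hzK (k := 1) (by rw [pow_one, sq, swap_mul_self])
    set z := g * swap u v * g⁻¹ with hzdef
    have hzs : sign z = -1 := by
      rw [hzdef, map_mul, map_mul, sign_swap huv, map_inv]; simp
    have hxO : ∀ s ∈ (S : Subgroup (Perm β)), s x ∈ O := fun s hs =>
      Finset.mem_filter.2 ⟨Finset.mem_univ _, s, hs, rfl⟩
    have hzM : z ∈ M := hfixM z hzS (hzK' x (hxO 1 (Subgroup.one_mem _)))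
    rcases Int.units_eq_one_or (sign (ofSubtype (r₀ : Perm {y // q y}))) with h1 | h1
    · exact ⟨_, hofS r₀ r₀.2, r₀, h1, hr₀, fun _ _ => rfl, fun y hy _ => hof r₀ y hy,
        heven z hzM hzs⟩
    · refine ⟨ofSubtype (r₀ : Perm {y // q y}) * z, M.mul_mem (hofS r₀ r₀.2) hzM, r₀,
        by rw [map_mul, h1, hzs]; rfl, hr₀, ?_, ?_, heven z hzM hzs⟩
      · rintro y ⟨n, hn, rfl⟩
        rw [Perm.mul_apply, hzK' _ (hxO n (hMS hn))]
      · rintro y hy ⟨s, hs, rfl⟩
        rw [Perm.mul_apply, hzK' _ (hxO s hs), hof r₀ _ hy]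

end CfsgLib.SymBlock
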