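import Cfsg.Agent.Lib.SymBlock.Defect
import Cfsg.Agent.Lib.SymBlock.DegreeP
import Cfsg.Agent.Lib.Block.Transport
import Mathlib.GroupTheory.SpecificGroups.Alternating

/-!
# Defect groups in alternating groups

* `exists_points` : the defect group is a Sylow subgroup of the symmetric group on the fixed points
  of a defect class representative.
* `exists_irr_degree_p_inf` : its even part has an irreducible character of degree `p` in the
  nonabelian cases.
-/

open Equiv Cfsg CfsgLib.Block
open scoped Nat

set_option linter.unusedSectionVars false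

namespace CfsgLib.SymBlock

variable {p : ℕ} {M : Ideal AlgInt} [M.IsMaximal] {n : ℕ}

theorem exists_points (hM : IsPModular p M) {B : Set (IrrCharacter (Perm (Fin n)))}
    (hB : IsPBlock M B) {D : Subgroup (Perm (Fin n))} (hD : IsDefectGroup p M B D) {x : Perm (Fin n)}
    (hx : x ^ p = 1) {w : ℕ} (hw : x.support.card = p * w) {χ : IrrCharacter (Perm (Fin n))}
    (hχ : χ ∈ B) (hne : (χ : Perm (Fin n) → ℂ) x ≠ 0) :
    ∃ F : Finset (Fin n), p * w ≤ F.card ∧ (∀ d ∈ D, ∀ t, t ∉ F → d t = t) ∧
      Nat.card D = p ^ (F.card)!.factorization p := by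
  classical
  haveI : Fact p.Prime := ⟨hM.1⟩
  letI := Fintype.ofFinite (IrrCharacter (Perm (Fin n)))
  obtain ⟨g, hg, hgc, -⟩ := exists_isSylowCent_of_isDefectGroup hM hB hD
  have hreg := regular_of_coeffRes_ne_zero hM (.of_isPBlock hB) hgc
  obtain ⟨c, hc⟩ : ∃ c, c * x * c⁻¹ ∈ D := by
    by_contra! h
    refine hne (irr_eq_zero_of_not_mem_defect hM hB hD (isPPart_one_mul ?_ hM.1.ne_one) h hχ)
    rcases (Nat.dvd_prime hM.1).mp (orderOf_dvd_of_pow_eq_one hx) with e | e
    · exact ⟨0, by rw [e, pow_zero]⟩
    · exact ⟨1, by rw [e, pow_one]⟩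
  set F : Finset (Fin n) := Finset.univ.filter fun t => g t = t with hF
  have hmem : ∀ t, t ∈ F ↔ g t = t := fun t => by simp [hF]
  have hout : ∀ d ∈ D, ∀ t, t ∉ F → d t = t := fun d hd t ht => by
    by_contra hne'
    exact ht ((hmem t).2 (defect_class_fixes hM hB hD hg hreg hd hne'))
  have hsize : p * w ≤ F.card := by
    rw [← hw, ← Perm.card_support_conj (σ := c) (τ := x)]
    refine Finset.card_le_card fun t ht => (hmem t).2 ?_
    exact defect_class_fixes hM hB hD hg hreg hc (Perm.mem_support.1 ht)
  refine ⟨F, hsize, hout, ?_⟩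
  -- the symmetric group on the fixed points centralizes `g`
  let ι : Perm {t // t ∈ F} →* Subgroup.centralizer ({g} : Set (Perm (Fin n))) :=
    Perm.ofSubtype.codRestrict _ fun a => Subgroup.mem_centralizer_singleton_iff.2
      ((Perm.Disjoint.commute fun t => by
        by_cases ht : t ∈ F
        · exact Or.inr ((hmem t).1 ht)
        · exact Or.inl (Perm.ofSubtype_apply_of_not_mem a ht)).eq)
  have hι : Function.Injective ι := fun a b h => Perm.ofSubtype_injective (congrArg Subtype.val h)
  have hle1 : (F.card)!.factorization p ≤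
      (Nat.card (Subgroup.centralizer ({g} : Set (Perm (Fin n))))).factorization p := by
    refine (Nat.factorization_le_iff_dvd (Nat.factorial_ne_zero _) Nat.card_pos.ne').2 ?_ p
    have h := Subgroup.card_dvd_of_injective ι hι
    rwa [Nat.card_eq_fintype_card, Fintype.card_perm, Fintype.card_coe] at h
  let κ : D →* Perm {t // t ∈ F} :=
    { toFun := fun d => (d : Perm (Fin n)).subtypePerm fun t => ⟨fun h => by
        by_contra ht
        exact ht (by rwa [hout d d.2 t ht] at h), fun h => by
        by_contra ht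
        have h1 := (d : Perm (Fin n)).injective (hout d d.2 _ ht)
        rw [h1] at ht
        exact ht h⟩
      map_one' := Perm.ext fun t => Subtype.ext rfl
      map_mul' := fun d e => Perm.ext fun t => Subtype.ext rfl }
  have hκ : Function.Injective κ := fun d e h => Subtype.ext (Perm.ext fun t => by
    by_cases ht : t ∈ F
    · exact congrArg Subtype.val (DFunLike.congr_fun h ⟨t, ht⟩)
    · rw [hout d d.2 t ht, hout e e.2 t ht])
  have h2 := Subgroup.card_dvd_of_injective κ hκ
  simp only [Nat.card_eq_fintype_card, Fintype.card_perm, Fintype.card_coe] at h2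
  rw [← Nat.card_eq_fintype_card, hg.card_eq] at h2
  have hle2 := (Nat.Prime.pow_dvd_iff_le_factorization hM.1 (Nat.factorial_ne_zero _)).1 h2
  rw [hg.card_eq, le_antisymm hle2 hle1]

/-- The even part of such a group has a character of degree `p` in the nonabelian cases. -/
theorem exists_irr_degree_p_inf [hp : Fact p.Prime] {D' : Subgroup (Perm (Fin n))} {F : Finset (Fin n)}
    (hout : ∀ d ∈ D', ∀ t, t ∉ F → d t = t) (hcard : Nat.card D' = p ^ (F.card)!.factorization p)
    (hodd : p = 2 → ∃ a ∈ D', Perm.sign a = -1) (hF : p ^ 2 ≤ F.card) (h6 : p = 2 → 6 ≤ F.card)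
    {D : Type} [Group D] (e : D ≃* ↥(D' ⊓ alternatingGroup (Fin n))) :
    ∃ ψ : IrrCharacter D, charDegree (ψ : D → ℂ) = p := by
  classical
  let ι : alternatingGroup {t // t ∈ F} →* Perm (Fin n) :=
    Perm.ofSubtype.comp (alternatingGroup {t // t ∈ F}).subtype
  have hι : Function.Injective ι := Perm.ofSubtype_injective.comp Subtype.val_injective
  set Q := (D' ⊓ alternatingGroup (Fin n)).comap ι with hQ
  have hmap : Q.map ι = D' ⊓ alternatingGroup (Fin n) := by
    refine Subgroup.map_comap_eq_self ?_
    rintro d ⟨hd, hda⟩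
    have hiff : ∀ t, d t ∈ F ↔ t ∈ F := fun t => ⟨fun h => by
        by_contra ht
        exact ht (by rwa [hout d hd t ht] at h), fun h => by
        by_contra ht
        have h1 := d.injective (hout d hd _ ht)
        rw [h1] at ht
        exact ht h⟩
    have heq : Perm.ofSubtype (d.subtypePerm hiff) = d := by
      refine Perm.ext fun t => ?_
      by_cases ht : t ∈ F
      · rw [Perm.ofSubtype_apply_of_mem _ ht]; rfl
      · rw [Perm.ofSubtype_apply_of_not_mem _ ht, hout d hd t ht]
    refine ⟨⟨d.subtypePerm hiff, ?_⟩, heq⟩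
    rw [Perm.mem_alternatingGroup, ← Perm.sign_ofSubtype, heq]
    exact Perm.mem_alternatingGroup.1 hda
  let eQ : Q ≃* ↥(D' ⊓ alternatingGroup (Fin n)) :=
    (Subgroup.equivMapOfInjective Q ι hι).trans (MulEquiv.subgroupCongr hmap)
  -- orders
  have hpD : IsPGroup p D' := IsPGroup.of_card hcard
  let σ : D' →* ℤˣ := Perm.sign.comp D'.subtype
  have hker : Nat.card σ.ker = Nat.card ↥(D' ⊓ alternatingGroup (Fin n)) :=
    Nat.card_congr
      { toFun := fun d => ⟨d.1, d.1.2, Perm.mem_alternatingGroup.2 d.2⟩
        invFun := fun d => ⟨⟨d.1, d.2.1⟩, Perm.mem_alternatingGroup.1 d.2.2⟩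
        left_inv := fun d => rfl
        right_inv := fun d => rfl }
  have hmul : Nat.card ↥(D' ⊓ alternatingGroup (Fin n)) * Nat.card σ.range = Nat.card D' := by
    rw [← hker, ← Subgroup.card_mul_index σ.ker, Subgroup.index_ker]
  have hFnt : Nontrivial {t // t ∈ F} := by
    rw [← Fintype.one_lt_card_iff_nontrivial, Fintype.card_coe]
    have := hp.out.two_le
    have : p ≤ p ^ 2 := Nat.le_self_pow two_ne_zero p
    omega
  have halt : 2 * Nat.card (alternatingGroup {t // t ∈ F}) = (F.card)! := by
    rw [Nat.card_eq_fintype_card, two_mul_card_alternatingGroup, Fintype.card_perm, Fintype.card_coe]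
  have hQcard : Nat.card Q = p ^ (Nat.card (alternatingGroup {t // t ∈ F})).factorization p := by
    rw [Nat.card_congr eQ.toEquiv]
    have hfac := congrArg (fun m => m.factorization p) halt
    simp only [Nat.factorization_mul two_ne_zero Nat.card_pos.ne', Finsupp.add_apply] at hfac
    rw [hcard] at hmul
    by_cases h2 : p = 2
    · subst h2
      rw [Nat.Prime.factorization_self Nat.prime_two] at hfac
      have hr : Nat.card σ.range = 2 := by
        obtain ⟨a, ha, hs⟩ := hodd rfl
        have htop : σ.range = ⊤ := by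
          refine eq_top_iff.2 fun u _ => ?_
          rcases Int.units_eq_one_or u with rfl | rfl
          · exact one_mem _
          · exact ⟨⟨a, ha⟩, hs⟩
        rw [htop, Subgroup.card_top, Nat.card_eq_fintype_card, Fintype.card_units_int]
      rw [hr, ← hfac, pow_add, pow_one, mul_comm] at hmul
      exact Nat.eq_of_mul_eq_mul_left two_pos hmul
    · have h0 : (2 : ℕ).factorization p = 0 := Nat.factorization_eq_zero_of_not_dvd
        fun h => h2 ((Nat.prime_dvd_prime_iff_eq hp.out Nat.prime_two).1 h)
      rw [h0, zero_add] at hfac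
      have hr : Nat.card σ.range = 1 := by
        obtain ⟨k, hk⟩ := IsPGroup.iff_card.1 (hpD.of_surjective σ.rangeRestrict σ.rangeRestrict_surjective)
        have hle : Nat.card σ.range ≤ 2 := (Subgroup.card_le_card_group σ.range).trans
          (le_of_eq (Nat.card_eq_fintype_card.trans Fintype.card_units_int))
        rcases k with _ | k
        · rw [hk, pow_zero]
        · have h3 : p ≤ 2 := (Nat.le_self_pow (Nat.succ_ne_zero k) p).trans (hk ▸ hle)
          have := hp.out.two_le
          omega
      rw [hr, mul_one, ← hfac] at hmul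
      exact hmul
  obtain ⟨ψ, hψ⟩ := exists_irr_degree_p_sylow_alternating (β := {t // t ∈ F}) (p := p)
    (by rwa [Fintype.card_coe]) (fun h => by rw [Fintype.card_coe]; exact h6 h) (Sylow.ofCard Q hQcard)
  let f : D ≃* Q := e.trans eQ.symm
  refine ⟨irrEquiv f.symm ψ, ?_⟩
  rw [← hψ]
  show ⌊(ψ.1 (f.symm.symm 1)).re⌋₊ = ⌊(ψ.1 1).re⌋₊
  exact congrArg (fun q => ⌊(ψ.1 q).re⌋₊) (map_one f.symm.symm)

end CfsgLib.SymBlock
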