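import Cfsg.Agent.Lib.SymBlock.CharBasic
import Cfsg.Agent.Lib.Char.FlagCosets
import Cfsg.Agent.Lib.Char.SignedIrr

/-!
# The functions `χ_β` are the irreducible characters of symmetric groups up to sign
-/

set_option autoImplicit false
set_option linter.unusedSectionVars false
set_option maxHeartbeats 400000

namespace CfsgLib.SymBlock

open Equiv Finset Cfsg CfsgLib.Char
open scoped ComplexConjugate

variable {N n m r : ℕ}

/-- The total of a bead vector for degree `n`. -/
def tot (N n : ℕ) : ℤ := n + ∑ i : Fin N, ((i : ℕ) : ℤ)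

/-- Non-negative vectors of the right total. -/
def InBox (n : ℕ) (β : Fin N → ℤ) : Prop :=
  (∀ i, 0 ≤ β i) ∧ ∑ i, β i = n + ∑ i : Fin N, ((i : ℕ) : ℤ)

/-- States: strictly increasing bead vectors. -/
def IsState (n : ℕ) (β : Fin N → ℤ) : Prop := StrictMono β ∧ InBox n β

/-- The type of states. -/
abbrev St (N n : ℕ) := {β : Fin N → ℤ // IsState n β}

/-- The vectors `InBox` as a finset. -/
noncomputable def box (N n : ℕ) : Finset (Fin N → ℤ) :=
  (Fintype.piFinset fun _ => Finset.Icc 0 (tot N n)).filter fun β => ∑ i, β i = tot N n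

theorem mem_box {β : Fin N → ℤ} : β ∈ box N n ↔ InBox n β := by
  rw [box, mem_filter, Fintype.mem_piFinset]
  exact ⟨fun h => ⟨fun i => (mem_Icc.1 (h.1 i)).1, h.2⟩, fun h => ⟨fun i => mem_Icc.2 ⟨h.1 i,
    (Finset.single_le_sum (fun j _ => h.1 j) (mem_univ i)).trans h.2.le⟩, h.2⟩⟩

noncomputable instance : Fintype (St N n) :=
  @Fintype.subtype _ _ (@Finset.filter _ (fun β : Fin N → ℤ => StrictMono β) (Classical.decPred _) (box N n))
    fun β => by simp [mem_box, IsState, and_comm]

/-! ### colour actions -/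

/-- The colourings with given multiplicities. -/
def Col (n : ℕ) (a : Fin N → ℤ) : Type :=
  {f : Fin n → Fin N // ∀ i, (Nat.card {x // f x = i} : ℤ) = a i}

variable {a b : Fin N → ℤ}

instance : Finite (Col n a) := Subtype.finite

instance : MulAction (Perm (Fin n)) (Col n a) where
  smul g f := ⟨fun x => f.1 (g⁻¹ x), fun i => by
    rw [← f.2 i]
    exact congrArg _ (Nat.card_congr ((g⁻¹ : Perm (Fin n)).subtypeEquiv fun _ => Iff.rfl))⟩
  one_smul _ := rfl
  mul_smul _ _ _ := rfl

theorem col_smul_apply (g : Perm (Fin n)) (f : Col n a) (x : Fin n) : (g • f).1 x = f.1 (g⁻¹ x) := rfl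

theorem card_fixedBy_col (g : Perm (Fin n)) (a : Fin N → ℤ) :
    Nat.card (MulAction.fixedBy (Col n a) g) = col g a := by
  refine Nat.card_congr
    { toFun := fun f => ⟨f.1.1, fun x => ?_, f.1.2⟩
      invFun := fun f => ⟨⟨f.1, f.2.2⟩, Subtype.ext (funext fun x => ?_)⟩
      left_inv := fun f => rfl
      right_inv := fun f => rfl }
  · have e := congrFun (congrArg Subtype.val (f.2 : g • f.1 = f.1)) (g x)
    rw [col_smul_apply] at e
    simpa using e.symm
  · show f.1 (g⁻¹ x) = f.1 x
    simpa using (f.2.1 (g⁻¹ x)).symm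

theorem permChar_col (a : Fin N → ℤ) :
    permChar (Perm (Fin n)) (Col n a) = fun g => (col g a : ℂ) :=
  funext fun g => congrArg (fun t : ℕ => (t : ℂ)) (card_fixedBy_col g a)

theorem card_orbits_col (ha : ∀ i, 0 ≤ a i) (hb : ∀ i, 0 ≤ b i) (hsum : ∑ i, a i = n) :
    Nat.card (MulAction.orbitRel.Quotient (Perm (Fin n)) (Col n a × Col n b)) =
      Nat.card (JacobiTrudi.Margins (fun i => (a i).toNat) fun i => (b i).toNat) := by
  classical
  let M : Col n a × Col n b → Fin N → Fin N → ℕ := fun p i j =>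
    (univ.filter fun x => (p.1.1 x, p.2.1 x) = (i, j)).card
  have hM : ∀ p, (∀ j, ∑ i, M p i j = (b j).toNat) ∧ ∀ i, ∑ j, M p i j = (a i).toNat := by
    intro p
    refine ⟨fun j => ?_, fun i => ?_⟩
    · rw [← p.2.2 j, Int.toNat_natCast, Nat.card_eq_fintype_card, Fintype.card_subtype,
        Finset.card_eq_sum_card_fiberwise (f := fun x => p.1.1 x) (t := univ) fun _ _ => mem_univ _]
      refine Finset.sum_congr rfl fun i _ => ?_
      simp only [M, Finset.filter_filter, Prod.mk.injEq, and_comm]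
    · rw [← p.1.2 i, Int.toNat_natCast, Nat.card_eq_fintype_card, Fintype.card_subtype,
        Finset.card_eq_sum_card_fiberwise (f := fun x => p.2.1 x) (t := univ) fun _ _ => mem_univ _]
      refine Finset.sum_congr rfl fun j _ => ?_
      simp only [M, Finset.filter_filter, Prod.mk.injEq]
  refine Nat.card_congr (Equiv.ofBijective (Quotient.lift (fun p => ⟨M p, hM p⟩) ?_) ⟨?_, ?_⟩)
  · rintro p q ⟨g, rfl⟩
    refine Subtype.ext (funext fun i => funext fun j => ?_)
    show M (g • q) i j = M q i j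
    simp only [M]
    refine Finset.card_bij' (fun x _ => g⁻¹ x) (fun x _ => g x) ?_ ?_ ?_ ?_ <;>
      simp [col_smul_apply]
  · rintro ⟨p⟩ ⟨q⟩ h
    obtain ⟨e, he⟩ := FlagCosets.exists_equiv_of_fibers
      (f := fun x => (p.1.1 x, p.2.1 x)) (g := fun x => (q.1.1 x, q.2.1 x))
      fun c => congrFun (congrFun (congrArg Subtype.val h) c.1) c.2
    refine Quotient.sound ⟨e⁻¹, Prod.ext (Subtype.ext (funext fun x => ?_)) (Subtype.ext (funext fun x => ?_))⟩
    · show q.1.1 (e⁻¹⁻¹ x) = p.1.1 x
      rw [inv_inv]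
      exact congrArg Prod.fst (he x)
    · show q.2.1 (e⁻¹⁻¹ x) = p.2.1 x
      rw [inv_inv]
      exact congrArg Prod.snd (he x)
  · intro K
    have hn : Fintype.card (Σ c : Fin N × Fin N, Fin (K.1 c.1 c.2)) = Fintype.card (Fin n) := by
      rw [Fintype.card_sigma, Fintype.card_fin, Fintype.sum_prod_type]
      simp only [Fintype.card_fin, K.2.2]
      exact Int.ofNat.inj ((Nat.cast_sum univ _).trans
        ((Finset.sum_congr rfl fun i _ => Int.toNat_of_nonneg (ha i)).trans hsum))
    let e := Fintype.equivOfCardEq hn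
    have hc : ∀ c : Fin N × Fin N,
        (univ.filter fun x => (e.symm x).1 = c).card = K.1 c.1 c.2 := by
      intro c
      rw [← Fintype.card_subtype]
      exact (Fintype.card_congr ((e.symm.subtypeEquiv fun _ => Iff.rfl).trans (Equiv.sigmaSubtype c))).trans
        (Fintype.card_fin _)
    refine ⟨Quotient.mk _ (⟨fun x => (e.symm x).1.1, fun i => ?_⟩, ⟨fun x => (e.symm x).1.2, fun j => ?_⟩),
      Subtype.ext (funext fun i => funext fun j => hc (i, j))⟩
    · rw [Nat.card_eq_fintype_card, Fintype.card_subtype,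
        Finset.card_eq_sum_card_fiberwise (f := fun x => (e.symm x).1.2) (t := univ) fun _ _ => mem_univ _,
        ← Int.toNat_of_nonneg (ha i), show (a i).toNat = ∑ j, K.1 i j from (K.2.2 i).symm]
      congr 1
      refine Finset.sum_congr rfl fun j _ => ?_
      rw [← hc (i, j), Finset.filter_filter]
      simp only [Prod.ext_iff]
    · rw [Nat.card_eq_fintype_card, Fintype.card_subtype,
        Finset.card_eq_sum_card_fiberwise (f := fun x => (e.symm x).1.1) (t := univ) fun _ _ => mem_univ _,
        ← Int.toNat_of_nonneg (hb j), show (b j).toNat = ∑ i, K.1 i j from (K.2.1 j).symm]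
      congr 1
      refine Finset.sum_congr rfl fun i _ => ?_
      rw [← hc (i, j), Finset.filter_filter]
      simp only [Prod.ext_iff, and_comm]

theorem sum_col_mul_col (a b : Fin N → ℤ) (hsum : ∑ i, a i = n) :
    ∑ g : Perm (Fin n), col g a * col g b =
      n.factorial * if (∀ i, 0 ≤ a i) ∧ ∀ i, 0 ≤ b i then
        Nat.card (JacobiTrudi.Margins (fun i => (a i).toNat) fun i => (b i).toNat) else 0 := by
  classical
  by_cases h : (∀ i, 0 ≤ a i) ∧ ∀ i, 0 ≤ b i
  · rw [if_pos h, ← card_orbits_col h.1 h.2 hsum]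
    have := Fintype.ofFinite (MulAction.orbitRel.Quotient (Perm (Fin n)) (Col n a × Col n b))
    have := Fintype.ofFinite (Col n a)
    have := Fintype.ofFinite (Col n b)
    have h1 := MulAction.sum_card_fixedBy_eq_card_orbits_mul_card_group (Perm (Fin n)) (Col n a × Col n b)
    simp only [← Nat.card_eq_fintype_card] at h1
    rw [mul_comm, show (n.factorial : ℕ) = Nat.card (Perm (Fin n)) by rw [Nat.card_perm, Nat.card_fin], ← h1]
    refine Finset.sum_congr rfl fun g _ => ?_
    rw [← card_fixedBy_col g a, ← card_fixedBy_col g b, ← Nat.card_prod]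
    exact Nat.card_congr
      { toFun := fun p => ⟨(p.1.1, p.2.1), Prod.ext p.1.2 p.2.2⟩
        invFun := fun p => (⟨p.1.1, congrArg Prod.fst p.2⟩, ⟨p.1.2, congrArg Prod.snd p.2⟩)
        left_inv := fun p => rfl
        right_inv := fun p => rfl }
  · rw [if_neg h, mul_zero]
    refine Finset.sum_eq_zero fun g _ => ?_
    rcases not_and_or.1 h with h' | h' <;> push Not at h' <;> obtain ⟨i, hi⟩ := h' <;>
      simp [col_eq_zero_of_neg g hi]

theorem chi_orthonormal (β β' : St N n) :
    ∑ g : Perm (Fin n), chi g β.1 * chi g β'.1 = if β = β' then (n.factorial : ℤ) else 0 := by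
  classical
  let lam : Fin N → ℕ := fun i => (β.1 i).toNat
  let lam' : Fin N → ℕ := fun i => (β'.1 i).toNat
  have hl : ∀ i, (lam i : ℤ) = β.1 i := fun i => Int.toNat_of_nonneg (β.2.2.1 i)
  have hl' : ∀ i, (lam' i : ℤ) = β'.1 i := fun i => Int.toNat_of_nonneg (β'.2.2.1 i)
  have hs : StrictMono lam := fun i j h => by have := β.2.1 h; have := hl i; have := hl j; omega
  have hs' : StrictMono lam' := fun i j h => by have := β'.2.1 h; have := hl' i; have := hl' j; omega
  have key : ∀ σ τ : Perm (Fin N),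
      ((∑ g : Perm (Fin n), col g (fun i => β.1 i - ((σ i : ℕ) : ℤ)) * col g (fun i => β'.1 i - ((τ i : ℕ) : ℤ)) : ℕ) : ℤ) =
      n.factorial * if (∀ i, (σ i).val ≤ lam i) ∧ ∀ i, (τ i).val ≤ lam' i then
        (Nat.card (JacobiTrudi.Margins (fun i => lam i - (σ i).val) fun i => lam' i - (τ i).val) : ℤ) else 0 := by
    intro σ τ
    rw [sum_col_mul_col _ _ (by rw [Finset.sum_sub_distrib, sum_perm_val, β.2.2.2]; ring), Nat.cast_mul]
    congr 1
    have e1 : (∀ i, 0 ≤ β.1 i - ((σ i : ℕ) : ℤ)) ↔ ∀ i, (σ i).val ≤ lam i :=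
      forall_congr' fun i => by have := hl i; omega
    have e2 : (∀ i, 0 ≤ β'.1 i - ((τ i : ℕ) : ℤ)) ↔ ∀ i, (τ i).val ≤ lam' i :=
      forall_congr' fun i => by have := hl' i; omega
    simp only [e1, e2]
    split_ifs
    · rw [show (fun i => (β.1 i - ((σ i : ℕ) : ℤ)).toNat) = fun i => lam i - (σ i).val from
          funext fun i => by have := hl i; omega,
        show (fun i => (β'.1 i - ((τ i : ℕ) : ℤ)).toNat) = fun i => lam' i - (τ i).val from
          funext fun i => by have := hl' i; omega]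
    · rfl
  have h1 : ∑ g : Perm (Fin n), chi g β.1 * chi g β'.1 = n.factorial *
      ∑ σ : Perm (Fin N), ∑ τ : Perm (Fin N), if (∀ i, (σ i).val ≤ lam i) ∧ ∀ i, (τ i).val ≤ lam' i then
        (Perm.sign σ : ℤ) * (Perm.sign τ : ℤ) *
          (Nat.card (JacobiTrudi.Margins (fun i => lam i - (σ i).val) fun i => lam' i - (τ i).val) : ℤ) else 0 := by
    simp only [chi, Finset.sum_mul_sum]
    rw [Finset.sum_comm, Finset.mul_sum]
    refine Finset.sum_congr rfl fun σ _ => ?_
    rw [Finset.sum_comm, Finset.mul_sum]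
    refine Finset.sum_congr rfl fun τ _ => ?_
    have := key σ τ
    push_cast at this
    rw [Finset.sum_congr rfl fun g _ => mul_mul_mul_comm _ _ _ _, ← Finset.mul_sum, this]
    split_ifs <;> ring
  rw [h1, JacobiTrudi.alternating_margins lam' lam hs' hs]
  by_cases h : β = β'
  · subst h
    simp [lam, lam']
  · rw [if_neg h, if_neg (fun e => h (Subtype.ext (funext fun i => by rw [← hl i, ← hl' i, e]))), mul_zero]

/-! ### the bijection with the irreducible characters -/

/-- `χ_β` with complex values. -/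
noncomputable def chiC (β : Fin N → ℤ) : Perm (Fin n) → ℂ := fun g => (chi g β : ℂ)

theorem isGeneralizedCharacter_chiC (β : Fin N → ℤ) :
    IsGeneralizedCharacter (Perm (Fin n)) (chiC (n := n) β) := by
  rw [show chiC (n := n) β = ∑ σ : Perm (Fin N),
      ((Perm.sign σ : ℤ) : ℂ) • permChar (Perm (Fin n)) (Col n fun i => β i - ((σ i : ℕ) : ℤ)) from
    funext fun g => by simp [chiC, chi, permChar_col]]
  exact isGeneralizedCharacter_sum _ _ fun σ _ => isGeneralizedCharacter_zsmul
    (isGeneralizedCharacter_of_isCharacter (isCharacter_permChar _)) _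

theorem classInner_chiC (β β' : St N n) :
    classInner (chiC (n := n) β.1) (chiC β'.1) = if β = β' then 1 else 0 := by
  rw [classInner, Nat.card_perm, Nat.card_fin]
  simp only [chiC, map_intCast, ← Int.cast_mul, ← Int.cast_sum, chi_orthonormal]
  split_ifs
  · push_cast
    exact inv_mul_cancel₀ (by exact_mod_cast n.factorial_ne_zero)
  · simp

theorem exists_irr (β : St N n) : ∃ (χ : IrrCharacter (Perm (Fin n))) (ε : ℤ), (ε = 1 ∨ ε = -1) ∧
    chiC β.1 = (ε : ℂ) • (χ : Perm (Fin n) → ℂ) :=
  Signed.Sg.exists_irr ⟨isGeneralizedCharacter_chiC _, by rw [classInner_chiC, if_pos rfl]⟩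

/-- The sign of a state. -/
noncomputable def eps (β : St N n) : ℤ := (exists_irr β).choose_spec.choose

theorem eps_sq (β : St N n) : eps β = 1 ∨ eps β = -1 := (exists_irr β).choose_spec.choose_spec.1

theorem chi_one_ne (β : St N n) : chi (1 : Perm (Fin n)) β.1 ≠ 0 := fun h => by
  refine Signed.Sg.apply_one_ne (f := chiC (n := n) β.1)
    ⟨isGeneralizedCharacter_chiC _, by rw [classInner_chiC, if_pos rfl]⟩ ?_
  simp [chiC, h]

theorem toIrr_injective :
    Function.Injective fun β : St N n => (exists_irr β).choose := by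
  have key : ∀ (β β' : St N n) (χ χ' : IrrCharacter (Perm (Fin n))) (ε ε' : ℤ), (ε = 1 ∨ ε = -1) →
      (ε' = 1 ∨ ε' = -1) → chiC β.1 = (ε : ℂ) • (χ : Perm (Fin n) → ℂ) →
      chiC β'.1 = (ε' : ℂ) • (χ' : Perm (Fin n) → ℂ) → χ = χ' → β = β' := by
    intro β β' χ χ' ε ε' he he' hb hb' hx
    subst hx
    by_contra hne
    have h0 := classInner_chiC β β'
    rw [if_neg hne, hb, hb', classInner_smul_left, classInner_smul_right, classInner_irr_self] at h0
    rcases he with rfl | rfl <;> rcases he' with rfl | rfl <;> simp at h0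
  exact fun β β' h => key β β' _ _ _ _ (exists_irr β).choose_spec.choose_spec.1
    (exists_irr β').choose_spec.choose_spec.1 (exists_irr β).choose_spec.choose_spec.2
    (exists_irr β').choose_spec.choose_spec.2 h

theorem card_parts_le (P : Nat.Partition n) : P.parts.card ≤ n := by
  have h := Multiset.card_nsmul_le_sum (a := 1) fun x hx => P.parts_pos hx
  rw [smul_eq_mul, mul_one, P.parts_sum] at h
  exact h

/-- The parts in increasing order, padded with zeros to length `N`. -/
noncomputable def padded (N : ℕ) (P : Nat.Partition n) : List ℕ :=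
  (P.parts + Multiset.replicate (N - P.parts.card) 0).sort (· ≤ ·)

theorem length_padded (hN : n ≤ N) (P : Nat.Partition n) : (padded N P).length = N := by
  have := card_parts_le P
  simp [padded]
  omega

/-- The bead vector of a partition. -/
noncomputable def beads (hN : n ≤ N) (P : Nat.Partition n) : St N n := by
  have hl := length_padded hN P
  refine ⟨fun i => ((padded N P)[i.val]'(hl.symm ▸ i.isLt) : ℤ) + (i.val : ℤ), fun i j hij => ?_,
    fun i => by positivity, ?_⟩
  · have : (padded N P)[i.val]'(hl.symm ▸ i.isLt) ≤ (padded N P)[j.val]'(hl.symm ▸ j.isLt) :=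
      List.Pairwise.rel_get_of_le (Multiset.pairwise_sort _ _) (a := ⟨i.val, hl.symm ▸ i.isLt⟩)
        (b := ⟨j.val, hl.symm ▸ j.isLt⟩) hij.le
    have : i.val < j.val := hij
    simp only
    omega
  · rw [Finset.sum_add_distrib]
    congr 1
    rw [← Nat.cast_sum, Nat.cast_inj, ← List.sum_ofFn,
      show (List.ofFn fun i : Fin N => (padded N P)[i.val]'(hl.symm ▸ i.isLt)) = padded N P from
        List.ext_getElem (by simp [hl]) fun k _ _ => by simp,
      ← Multiset.sum_coe, padded, Multiset.sort_eq]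
    simp [P.parts_sum]

theorem beads_injective (hN : n ≤ N) : Function.Injective (beads (N := N) hN) := by
  intro P Q h
  have h' := congrArg Subtype.val h
  have hl : padded N P = padded N Q := by
    refine List.ext_getElem (by rw [length_padded hN, length_padded hN]) fun k hk _ => ?_
    have := congrFun h' ⟨k, length_padded hN P ▸ hk⟩
    exact_mod_cast add_right_cancel this
  have hs := congrArg (fun l : List ℕ => Multiset.filter (· ≠ 0) (l : Multiset ℕ)) hl
  simp only [padded, Multiset.sort_eq, Multiset.filter_add] at hs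
  have hz : ∀ k, Multiset.filter (· ≠ 0) (Multiset.replicate k (0 : ℕ)) = 0 := fun k =>
    Multiset.filter_eq_nil.2 fun x hx => by simp [Multiset.eq_of_mem_replicate hx]
  have hp : ∀ R : Nat.Partition n, Multiset.filter (· ≠ 0) R.parts = R.parts := fun R =>
    Multiset.filter_eq_self.2 fun x hx => (R.parts_pos hx).ne'
  rw [hz, hz, add_zero, add_zero, hp, hp] at hs
  exact Nat.Partition.ext hs

theorem card_conjClasses_le (hN : n ≤ N) : Nat.card (ConjClasses (Perm (Fin n))) ≤ Nat.card (St N n) := by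
  classical
  refine Nat.card_le_card_of_injective
    (fun c => beads hN ((Fintype.card_fin n) ▸ (Quotient.out c : Perm (Fin n)).partition)) fun c d h => ?_
  have h1 := beads_injective hN h
  have h2 : (Quotient.out c : Perm (Fin n)).partition = (Quotient.out d : Perm (Fin n)).partition := by
    revert h1
    generalize (Quotient.out c : Perm (Fin n)).partition = P
    generalize (Quotient.out d : Perm (Fin n)).partition = Q
    generalize Fintype.card_fin n = e
    revert P Q
    generalize hF : Fintype.card (Fin n) = F at e ⊢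
    subst e
    exact fun Q P h => h
  rw [← Quotient.out_eq c, ← Quotient.out_eq d]
  exact Quotient.sound (Equiv.Perm.partition_eq_of_isConj.2 h2)

theorem toIrr_bijective (hN : n ≤ N) :
    Function.Bijective fun β : St N n => (exists_irr β).choose :=
  toIrr_injective.bijective_of_nat_card_le
    (by rw [card_irr_eq_card_conjClasses]; exact card_conjClasses_le hN)

/-- States correspond to irreducible characters. -/
noncomputable def stEquiv (hN : n ≤ N) : St N n ≃ IrrCharacter (Perm (Fin n)) :=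
  Equiv.ofBijective _ (toIrr_bijective hN)

theorem chi_eq (hN : n ≤ N) (β : St N n) (g : Perm (Fin n)) :
    (chi g β.1 : ℂ) = eps β * (stEquiv hN β : Perm (Fin n) → ℂ) g :=
  congrFun (exists_irr β).choose_spec.choose_spec.2 g

theorem irr_eq (hN : n ≤ N) (β : St N n) (g : Perm (Fin n)) :
    (stEquiv hN β : Perm (Fin n) → ℂ) g = eps β * (chi g β.1 : ℂ) := by
  rw [chi_eq hN β g, ← mul_assoc, ← Int.cast_mul]
  rcases eps_sq β with e | e <;> simp [e]

theorem chi_column_zero (hN : n ≤ N) (g k : Perm (Fin n)) (h : ¬ IsConj g k) :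
    ∑ β : St N n, chi g β.1 * chi k β.1 = 0 := by
  classical
  have := Fintype.ofFinite (IrrCharacter (Perm (Fin n)))
  have h1 := sum_irr_mul_conj g k
  rw [if_neg h, ← Equiv.sum_comp (stEquiv hN)] at h1
  have h2 : ((∑ β : St N n, chi g β.1 * chi k β.1 : ℤ) : ℂ) = 0 := by
    rw [Int.cast_sum, ← h1]
    refine Finset.sum_congr rfl fun β _ => ?_
    rw [Int.cast_mul, irr_eq hN, irr_eq hN, map_mul, map_intCast, map_intCast]
    rcases eps_sq β with e | e <;> simp [e]
  exact_mod_cast h2

/-! ### shifting a bead -/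

attribute [local irreducible] chi

theorem comp_add_single (γ : Fin N → ℤ) (τ : Perm (Fin N)) (i : Fin N) (x : ℤ) :
    γ ∘ τ + Pi.single i x = (γ + Pi.single (τ i) x) ∘ τ := by
  funext j
  by_cases h : j = i
  · subst h
    simp
  · simp [h]

theorem shift_comp {k : ℕ} (g : Perm (Fin k)) (γ : Fin N → ℤ) (τ : Perm (Fin N)) (x : ℤ) :
    ∑ i, chi g (γ ∘ τ + Pi.single i x) = (Perm.sign τ : ℤ) * ∑ i, chi g (γ + Pi.single i x) := by
  rw [Finset.mul_sum]
  have e : ∀ i, chi g (γ ∘ τ + Pi.single i x) = (Perm.sign τ : ℤ) * chi g (γ + Pi.single (τ i) x) := fun i => by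
    rw [comp_add_single, chi_comp]
  simp only [e]
  exact Fintype.sum_equiv τ _ _ fun i => rfl

theorem exists_state_comp {k : ℕ} {β : Fin N → ℤ} (hb : InBox k β) (hi : Function.Injective β) :
    ∃ (γ : St N k) (τ : Perm (Fin N)), γ.1 ∘ τ = β := by
  refine ⟨⟨β ∘ Tuple.sort β, (Tuple.monotone_sort β).strictMono_of_injective (hi.comp (Equiv.injective _)),
    fun i => hb.1 _, (Equiv.sum_comp _ β).trans hb.2⟩, (Tuple.sort β).symm, funext fun i => ?_⟩
  simp

theorem sum_box (k : ℕ) (F : (Fin N → ℤ) → ℤ) (hsym : ∀ β (τ : Perm (Fin N)), F (β ∘ τ) = F β)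
    (hrep : ∀ β i j, i ≠ j → β i = β j → F β = 0) :
    ∑ β ∈ box N k, F β = N.factorial * ∑ β : St N k, F β.1 := by
  classical
  rw [← Finset.sum_filter_add_sum_filter_not (box N k) Function.Injective,
    Finset.sum_eq_zero (s := (box N k).filter fun β => ¬ Function.Injective β) fun β hβ => ?_, add_zero]
  swap
  · obtain ⟨i, j, h1, h2⟩ := Function.not_injective_iff.1 (mem_filter.1 hβ).2
    exact hrep β i j h2 h1
  rw [show (N.factorial : ℤ) * ∑ β : St N k, F β.1 = ∑ p : Perm (Fin N) × St N k, F p.2.1 by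
    rw [Fintype.sum_prod_type]
    simp [Fintype.card_perm]]
  symm
  refine Finset.sum_bij (fun p _ => p.2.1 ∘ p.1) (fun p _ => ?_) (fun p _ q _ h => ?_) (fun β hβ => ?_)
    fun p _ => (hsym _ _).symm
  · exact mem_filter.2 ⟨mem_box.2 ⟨fun i => p.2.2.2.1 _, (Equiv.sum_comp p.1 p.2.1).trans p.2.2.2.2⟩,
      p.2.2.1.injective.comp p.1.injective⟩
  · have e : p.2.1 = q.2.1 := by
      refine (p.2.2.1.range_inj q.2.2.1).1 ?_
      rw [← p.1.surjective.range_comp p.2.1, ← q.1.surjective.range_comp q.2.1, h]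
    exact Prod.ext (Equiv.ext fun i => p.2.2.1.injective ((congrFun h i).trans (congrFun e.symm _))) (Subtype.ext e)
  · obtain ⟨hb, hi⟩ := mem_filter.1 hβ
    obtain ⟨γ, τ, rfl⟩ := exists_state_comp (mem_box.1 hb) hi
    exact ⟨(τ, γ), mem_univ _, rfl⟩

/-- Moving a cycle from the characters to the beads. -/
theorem sum_shift (hr : 0 < r) (P : (Fin N → ℤ) → Prop) [DecidablePred P]
    (hP : ∀ β (τ : Perm (Fin N)), P (β ∘ τ) ↔ P β) (hPr : ∀ β i, P (β + Pi.single i (r : ℤ)) ↔ P β)
    (k : Perm (Fin n)) (h : Perm (Fin m)) (hnm : m + r = n)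
    (hk : ∀ β : Fin N → ℤ, chi k β = ∑ i, chi h (β - Pi.single i (r : ℤ))) (g : Perm (Fin n)) :
    ∑ β : St N n with P β.1, chi g β.1 * chi k β.1 =
      ∑ γ : St N m with P γ.1, chi h γ.1 * ∑ i, chi g (γ.1 + Pi.single i (r : ℤ)) := by
  classical
  rw [Finset.sum_filter, Finset.sum_filter]
  refine mul_left_cancel₀ (a := (N.factorial : ℤ)) (by exact_mod_cast N.factorial_ne_zero) ?_
  have hsg : ∀ τ : Perm (Fin N), (Perm.sign τ : ℤ) * (Perm.sign τ : ℤ) = 1 := fun τ => by
    rw [← Units.val_mul, Int.units_mul_self, Units.val_one]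
  have eL := sum_box n (fun β : Fin N → ℤ => if P β then chi g β * chi k β else 0) (fun β τ => ?_)
    (fun β i j hij e => ?_)
  have eR := sum_box m
    (fun γ : Fin N → ℤ => if P γ then chi h γ * ∑ i : Fin N, chi g (γ + Pi.single i (r : ℤ)) else 0) (fun β τ => ?_)
    (fun β i j hij e => ?_)
  refine eL.symm.trans (Eq.trans ?_ eR)
  · simp only [hk, Finset.mul_sum, ← Finset.sum_filter]
    rw [Finset.sum_comm, Finset.sum_comm (s := (box N m).filter P)]
    refine Finset.sum_congr rfl fun i _ => ?_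
    rw [← Finset.sum_filter_of_ne (p := fun β => (r : ℤ) ≤ β i) (fun β _ hne => ?_)]
    swap
    · by_contra hlt
      exact hne (by rw [chi_eq_zero_of_neg h _ (i := i) (by simp; omega), mul_zero])
    refine Finset.sum_nbij' (fun β => β - Pi.single i (r : ℤ)) (fun γ => γ + Pi.single i (r : ℤ)) ?_ ?_
      (fun _ _ => sub_add_cancel _ _) (fun _ _ => add_sub_cancel_right _ _) fun β _ => by
        rw [sub_add_cancel, mul_comm]
    · intro β hβ
      simp only [coe_filter, Set.mem_setOf_eq, mem_filter, mem_box] at hβ ⊢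
      refine ⟨⟨fun j => ?_, ?_⟩, by rw [← hPr _ i, sub_add_cancel]; exact hβ.1.2⟩
      · by_cases e : j = i
        · subst e; simp; omega
        · simpa [e] using hβ.1.1.1 j
      · simp only [Pi.sub_apply, Finset.sum_sub_distrib, hβ.1.1.2, Finset.sum_pi_single', mem_univ, if_pos]
        omega
    · intro γ hγ
      simp only [coe_filter, Set.mem_setOf_eq, mem_filter, mem_box] at hγ ⊢
      refine ⟨⟨⟨fun j => ?_, ?_⟩, (hPr _ i).2 hγ.2⟩, by simpa using hγ.1.1 i⟩
      · by_cases e : j = i
        · subst e; have := hγ.1.1 j; simp; omega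
        · simpa [e] using hγ.1.1 j
      · simp only [Pi.add_apply, Finset.sum_add_distrib, hγ.1.2, Finset.sum_pi_single', mem_univ, if_pos]
        omega
  all_goals first
    | (simp only [hP, chi_comp]; rw [mul_mul_mul_comm, hsg, one_mul])
    | (simp only [hP, chi_comp]; rw [shift_comp g β τ (r : ℤ), mul_mul_mul_comm, hsg, one_mul])
    | simp [chi_eq_zero_of_eq _ β hij e]

/-- The sum over all beads vanishes on elements without a cycle of that length. -/
theorem phi_eq_zero (hN : n ≤ N) (hr : 0 < r) (hnm : m + r = n) (g : Perm (Fin n))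
    (hg : ∀ x, cycLen g x ≠ r) {γ : Fin N → ℤ} (hγ : InBox m γ) :
    ∑ i, chi g (γ + Pi.single i (r : ℤ)) = 0 := by
  classical
  subst hnm
  by_cases hi : Function.Injective γ
  swap
  · obtain ⟨i, j, h1, h2⟩ := Function.not_injective_iff.1 hi
    have := shift_comp g γ (Equiv.swap i j) (r : ℤ)
    rw [show γ ∘ Equiv.swap i j = γ from funext fun k => by
        simp only [Function.comp_apply, Equiv.swap_apply_def]
        split_ifs with e1 e2
        · rw [e1, h1]
        · rw [e2, h1]
        · rfl, Perm.sign_swap h2] at this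
    push_cast at this
    linarith
  obtain ⟨δ, τ, rfl⟩ := exists_state_comp hγ hi
  rw [shift_comp]
  suffices h : ∀ γ : St N m, ∑ i, chi g (γ.1 + Pi.single i (r : ℤ)) = 0 by rw [h δ, mul_zero]
  have h0 : ∀ h : Perm (Fin m), ∑ γ : St N m, chi h γ.1 * ∑ i, chi g (γ.1 + Pi.single i (r : ℤ)) = 0 := by
    intro h
    have e := sum_shift hr (fun _ : Fin N → ℤ => True) (fun _ _ => Iff.rfl) (fun _ _ => Iff.rfl) (join h r) h rfl
      (chi_join h hr) g
    simp only [Finset.filter_true] at e
    rw [← e]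
    refine chi_column_zero hN g _ fun hc => ?_
    obtain ⟨c, hc⟩ := isConj_iff.1 hc
    refine hg (c⁻¹ (Fin.natAdd m ⟨0, hr⟩)) ?_
    conv_rhs => rw [← cycLen_join h hr, ← hc]
    exact Nat.card_congr (c.subtypeEquiv fun y => by simp [Perm.sameCycle_conj])
  intro γ₀
  have h1 : ∑ h : Perm (Fin m), chi h γ₀.1 * ∑ γ : St N m, chi h γ.1 * ∑ i, chi g (γ.1 + Pi.single i (r : ℤ)) = 0 :=
    Finset.sum_eq_zero fun h _ => by rw [h0, mul_zero]
  simp only [Finset.mul_sum] at h1
  rw [Finset.sum_comm] at h1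
  simp only [← mul_assoc, ← Finset.sum_mul, ← Finset.mul_sum, chi_orthonormal] at h1
  simp only [ite_mul, zero_mul, Finset.sum_ite_eq, mem_univ, if_true] at h1
  exact (mul_eq_zero.1 h1).resolve_left (by exact_mod_cast m.factorial_ne_zero)

end CfsgLib.SymBlock
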