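import Mathlib

/-!
# Beads on the runners of an abacus

A vector `β : Fin N → ℕ` of bead positions is read on `p` runners (the residues modulo `p`).  Three facts are
proved for an abstract family indexed by such vectors: the sum over all beads of the moves by a multiple of `p`
being zero, the vectors with one given runner pushed down span; there are fewer than `p ^ w` of those of weight
`w`; and a family satisfying the branching rule for moves by `p` does not vanish at weight `w`, because every
sequence of moves ends in the same vector.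
-/

set_option autoImplicit false

open Finset

namespace CfsgLib.SymBlock.Runner

variable {N p : ℕ}

/-- The number of beads below bead `i` on its runner. -/
def rank (p : ℕ) (β : Fin N → ℕ) (i : Fin N) : ℕ := #{j | β j % p = β i % p ∧ β j < β i}

/-- The beads pushed down on their runners. -/
def core (p : ℕ) (β : Fin N → ℕ) (i : Fin N) : ℕ := β i % p + p * rank p β i

/-- The number of moves by `p` from the core. -/
def weight (p : ℕ) (β : Fin N → ℕ) : ℕ := ∑ i, (β i / p - rank p β i)

/-- The same number of beads on each runner. -/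
def SameCnt (p : ℕ) (β γ : Fin N → ℕ) : Prop := ∀ a, #{i | β i % p = a} = #{i | γ i % p = a}

/-- Runner `a` of the set `X` is pushed down. -/
def GroundAt (p : ℕ) (X : Finset ℕ) (a : ℕ) : Prop := ∀ x ∈ X, x % p = a → ∀ y < x, y % p = a → y ∈ X

theorem div_lt_div_of_mod_eq {x y : ℕ} (h : x % p = y % p) (hlt : x < y) : x / p < y / p := by
  by_contra! hle
  have := Nat.mul_le_mul_left p hle
  have := Nat.div_add_mod x p
  have := Nat.div_add_mod y p
  omega

theorem rank_le {β : Fin N → ℕ} (hβ : Function.Injective β) (i : Fin N) : rank p β i ≤ β i / p := by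
  rw [rank, ← card_range (β i / p)]
  refine card_le_card_of_injOn (fun j => β j / p) (fun j hj => ?_) fun j hj k hk he => ?_
  · simp only [coe_filter, Set.mem_ofPred_eq, mem_univ, true_and] at hj
    simpa using div_lt_div_of_mod_eq hj.1 hj.2
  · simp only [coe_filter, Set.mem_ofPred_eq, mem_univ, true_and] at hj hk
    apply hβ
    rw [← Nat.div_add_mod (β j) p, ← Nat.div_add_mod (β k) p, show β j / p = β k / p from he, hj.1, hk.1]

theorem sum_eq {β : Fin N → ℕ} (hβ : Function.Injective β) :
    ∑ i, β i = ∑ i, core p β i + p * weight p β := by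
  rw [weight, mul_sum, ← sum_add_distrib]
  refine sum_congr rfl fun i _ => ?_
  rw [core, add_assoc, ← mul_add, Nat.add_sub_cancel' (rank_le hβ i)]
  exact (Nat.mod_add_div (β i) p).symm

theorem rank_lt_rank {β : Fin N → ℕ} {i j : Fin N} (hm : β i % p = β j % p) (h : β i < β j) :
    rank p β i < rank p β j := by
  refine card_lt_card ⟨fun k hk => ?_, fun hsub => ?_⟩
  · simp only [mem_filter, mem_univ, true_and] at hk ⊢
    exact ⟨hk.1.trans hm, hk.2.trans h⟩
  · have hi : i ∈ ({k | β k % p = β j % p ∧ β k < β j} : Finset (Fin N)) := by simp [hm, h]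
    simpa using hsub hi

theorem core_mod (hp : 0 < p) (β : Fin N → ℕ) (i : Fin N) : core p β i % p = β i % p := by
  rw [core, Nat.add_mul_mod_self_left, Nat.mod_mod]

theorem core_injective (hp : 0 < p) {β : Fin N → ℕ} (hβ : Function.Injective β) :
    Function.Injective (core p β) := by
  intro i j h
  have hm : β i % p = β j % p := by rw [← core_mod hp, h, core_mod hp]
  have hr : rank p β i = rank p β j :=
    Nat.eq_of_mul_eq_mul_left hp (by unfold core at h; omega)
  refine hβ ?_
  rcases lt_trichotomy (β i) (β j) with hl | he | hl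
  · exact absurd hr (rank_lt_rank hm hl).ne
  · exact he
  · exact absurd hr.symm (rank_lt_rank hm.symm hl).ne

theorem rank_lt_cnt (β : Fin N → ℕ) (i : Fin N) :
    rank p β i < #{j | β j % p = β i % p} := by
  refine card_lt_card ⟨fun k hk => ?_, fun hsub => ?_⟩
  · simp only [mem_filter, mem_univ, true_and] at hk ⊢
    exact hk.1
  · have hi : i ∈ ({j | β j % p = β i % p} : Finset (Fin N)) := by simp
    simpa using hsub hi

theorem sameCnt_core (hp : 0 < p) (β : Fin N → ℕ) : SameCnt p (core p β) β := fun a => by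
  simp only [core_mod hp]

theorem card_filter_image {β : Fin N → ℕ} (hβ : Function.Injective β) (a : ℕ) :
    #((univ.image β).filter (· % p = a)) = #{i | β i % p = a} := by
  rw [filter_image, card_image_of_injective _ hβ]

theorem groundAt_core (hp : 0 < p) {β : Fin N → ℕ} (hβ : Function.Injective β) (a : ℕ) :
    GroundAt p (univ.image (core p β)) a := by
  intro x hx hxa y hy hya
  simp only [mem_image, mem_univ, true_and] at hx ⊢
  obtain ⟨i, rfl⟩ := hx
  rw [core_mod hp] at hxa
  set I : Finset (Fin N) := {j | β j % p = a} with hI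
  have hsurj : I.image (rank p β) = range #I := by
    refine eq_of_subset_of_card_le (fun l hl => ?_) ?_
    · simp only [mem_image] at hl
      obtain ⟨j, hj, rfl⟩ := hl
      rw [hI, mem_filter] at hj
      rw [mem_range, hI]
      simpa [hj.2] using rank_lt_cnt (p := p) β j
    · rw [card_range, card_image_of_injOn]
      intro j hj k hk he
      simp only [hI, coe_filter, Set.mem_ofPred_eq, mem_univ, true_and] at hj hk
      refine core_injective hp hβ ?_
      simp only [core, hj, hk, show rank p β j = rank p β k from he]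
  have hyl : y / p < rank p β i := by
    have hci : core p β i / p = rank p β i := by
      rw [core, Nat.add_mul_div_left _ _ hp, Nat.div_eq_of_lt (Nat.mod_lt _ hp), zero_add]
    rw [← hci]
    exact div_lt_div_of_mod_eq (by rw [hya, core_mod hp, hxa]) hy
  have hmem : y / p ∈ range #I := by
    rw [mem_range, hI]
    exact hyl.trans (by simpa [hxa] using rank_lt_cnt (p := p) β i)
  rw [← hsurj, mem_image] at hmem
  obtain ⟨j, hj, hjr⟩ := hmem
  rw [hI, mem_filter] at hj
  exact ⟨j, by rw [core, hj.2, hjr, ← hya, Nat.mod_add_div]⟩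

theorem ground_unique {X Y : Finset ℕ} (hX : ∀ a, GroundAt p X a) (hY : ∀ a, GroundAt p Y a)
    (h : ∀ a, #(X.filter (· % p = a)) = #(Y.filter (· % p = a))) : X = Y := by
  have key : ∀ {X Y : Finset ℕ}, (∀ a, GroundAt p X a) → (∀ a, GroundAt p Y a) →
      (∀ a, #(X.filter (· % p = a)) = #(Y.filter (· % p = a))) → X ⊆ Y := by
    intro X Y hX hY h x hx
    by_contra hxY
    refine (h (x % p)).not_gt (card_lt_card ⟨fun y hy => ?_, fun hsub => ?_⟩)
    · simp only [mem_filter] at hy ⊢
      refine ⟨?_, hy.2⟩
      rcases lt_trichotomy y x with hl | he | hl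
      · exact hX _ x hx rfl y hl hy.2
      · exact he ▸ hx
      · exact absurd (hY _ y hy.1 hy.2 x hl rfl) hxY
    · exact hxY (mem_filter.1 (hsub (mem_filter.2 ⟨hx, rfl⟩))).1
  exact (key hX hY h).antisymm (key hY hX fun a => (h a).symm)

theorem image_core_eq (hp : 0 < p) {β γ : Fin N → ℕ} (hβ : Function.Injective β)
    (hγ : Function.Injective γ) (h : SameCnt p β γ) : univ.image (core p β) = univ.image (core p γ) :=
  ground_unique (groundAt_core hp hβ) (groundAt_core hp hγ) fun a => by
    rw [card_filter_image (core_injective hp hβ), card_filter_image (core_injective hp hγ),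
      sameCnt_core hp β a, sameCnt_core hp γ a, h a]

theorem sum_image' {β : Fin N → ℕ} (hβ : Function.Injective β) :
    ∑ x ∈ univ.image β, x = ∑ i, β i :=
  sum_image fun _ _ _ _ h => hβ h

theorem sum_core_eq (hp : 0 < p) {β γ : Fin N → ℕ} (hβ : Function.Injective β)
    (hγ : Function.Injective γ) (h : SameCnt p β γ) : ∑ i, core p β i = ∑ i, core p γ i := by
  rw [← sum_image' (core_injective hp hβ), ← sum_image' (core_injective hp hγ), image_core_eq hp hβ hγ h]

theorem weight_eq (hp : 0 < p) {β γ : Fin N → ℕ} (hβ : Function.Injective β)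
    (hγ : Function.Injective γ) (h : SameCnt p β γ) (hs : ∑ i, β i = ∑ i, γ i) :
    weight p β = weight p γ := by
  have h1 := sum_eq (p := p) hβ
  have h2 := sum_eq (p := p) hγ
  have h3 := sum_core_eq hp hβ hγ h
  exact Nat.eq_of_mul_eq_mul_left hp (by omega)

/-! ### Counting the pushed-down configurations -/

theorem exists_move {X : Finset ℕ} (h : ¬ ∀ a, GroundAt p X a) :
    ∃ x ∈ X, ∃ g, g < x ∧ g % p = x % p ∧ g ∉ X ∧
      (∀ z ∈ X, z % p = x % p → z ≤ x) ∧ ∀ z, g < z → z < x → z % p = x % p → z ∈ X := by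
  classical
  set bad := X.filter fun x => ∃ y ∈ range x, y % p = x % p ∧ y ∉ X with hbad
  have hne : bad.Nonempty := by
    simp only [GroundAt, not_forall] at h
    obtain ⟨a, x, hx, hxa, y, hy, hya, hyX⟩ := h
    exact ⟨x, mem_filter.2 ⟨hx, y, mem_range.2 hy, hya.trans hxa.symm, hyX⟩⟩
  have hxbad := bad.max'_mem hne
  set x := bad.max' hne with hxdef
  obtain ⟨hxX, y, hy, hym, hyX⟩ := mem_filter.1 hxbad
  set gaps := (range x).filter fun y => y % p = x % p ∧ y ∉ X with hgaps
  have hgne : gaps.Nonempty := ⟨y, mem_filter.2 ⟨hy, hym, hyX⟩⟩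
  have hgmem := gaps.max'_mem hgne
  set g := gaps.max' hgne with hgdef
  obtain ⟨hg, hgm, hgX⟩ := mem_filter.1 hgmem
  refine ⟨x, hxX, g, mem_range.1 hg, hgm, hgX, fun z hz hzm => ?_, fun z hgz hzx hzm => ?_⟩
  · by_contra! hxz
    have hzb : z ∈ bad := mem_filter.2 ⟨hz, g, mem_range.2 ((mem_range.1 hg).trans hxz),
      hgm.trans hzm.symm, hgX⟩
    exact absurd (bad.le_max' z hzb) (not_le.2 hxz)
  · by_contra hzX
    exact absurd (gaps.le_max' z (mem_filter.2 ⟨mem_range.2 hzx, hzm, hzX⟩)) (not_le.2 hgz)

/-- The move of the top bead of runner `a` back up over `s` places. -/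
def unmove (p a s : ℕ) (X : Finset ℕ) : Finset ℕ :=
  let x := (X.filter (· % p = a)).sup id + p
  insert x (X.erase (x - p * s))

/-- The configurations with counts `c`, sum `t` and runner `a` pushed down. -/
def configs (p : ℕ) (X₀ : Finset ℕ) (a t : ℕ) : Finset (Finset ℕ) :=
  ((range (t + 1)).powerset).filter fun X =>
    (∀ b ∈ range p, #(X.filter (· % p = b)) = #(X₀.filter (· % p = b))) ∧ ∑ x ∈ X, x = t ∧
      ∀ x ∈ X, x % p = a → ∀ y ∈ range x, y % p = a → y ∈ X

theorem mem_configs (hp : 0 < p) {X₀ X : Finset ℕ} {a t : ℕ} :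
    X ∈ configs p X₀ a t ↔
      (∀ b, #(X.filter (· % p = b)) = #(X₀.filter (· % p = b))) ∧ ∑ x ∈ X, x = t ∧ GroundAt p X a := by
  simp only [configs, mem_filter, mem_powerset, mem_range]
  constructor
  · rintro ⟨-, h1, h2, h3⟩
    refine ⟨fun b => ?_, h2, fun x hx hxa y hy hya => h3 x hx hxa y hy hya⟩
    rcases lt_or_ge b p with hb | hb
    · exact h1 b hb
    · have : ∀ Z : Finset ℕ, Z.filter (· % p = b) = ∅ := fun Z =>
        filter_eq_empty_iff.2 fun z _ h => absurd (Nat.mod_lt z hp) (by omega)
      rw [this, this]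
  · rintro ⟨h1, h2, h3⟩
    refine ⟨fun x hx => mem_range.2 ?_, fun b _ => h1 b, h2, h3⟩
    have := single_le_sum (f := fun x : ℕ => x) (fun i _ => Nat.zero_le _) hx
    omega

theorem exists_weight (hp : 0 < p) {X₀ X : Finset ℕ} (h0 : ∀ a, GroundAt p X₀ a)
    (h : ∀ b, #(X.filter (· % p = b)) = #(X₀.filter (· % p = b))) :
    ∃ w, ∑ x ∈ X, x = ∑ x ∈ X₀, x + p * w := by
  have hinj : Function.Injective (X.orderEmbOfFin rfl) := (X.orderEmbOfFin rfl).injective
  have himg : univ.image (X.orderEmbOfFin rfl) = X := image_orderEmbOfFin_univ X rfl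
  refine ⟨weight p (X.orderEmbOfFin rfl), ?_⟩
  conv_lhs => rw [← himg]
  rw [sum_image' hinj, sum_eq (p := p) hinj, ← sum_image' (core_injective hp hinj),
    ground_unique (groundAt_core hp hinj) h0 fun a => by
      rw [card_filter_image (core_injective hp hinj), sameCnt_core hp _ a, ← card_filter_image hinj,
        himg, h a]]

/-- The bound `(p - 1) p ^ (w - 1)` on the number of configurations of weight `w`. -/
def bound (p : ℕ) : ℕ → ℕ
  | 0 => 1
  | w + 1 => (p - 1) * p ^ w

theorem sum_bound (hp : 0 < p) : ∀ w, ∑ v ∈ range (w + 1), bound p v = p ^ w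
  | 0 => by simp [bound]
  | w + 1 => by
    rw [sum_range_succ, sum_bound hp w, bound, pow_succ]
    obtain ⟨q, rfl⟩ := Nat.exists_eq_succ_of_ne_zero hp.ne'
    simp only [Nat.succ_sub_one, Nat.succ_eq_add_one]
    ring

theorem bound_lt (hp : 0 < p) : ∀ w, 0 < w → bound p w < p ^ w
  | w + 1, _ => by
    rw [bound, pow_succ']
    exact Nat.mul_lt_mul_of_pos_right (by omega) (pow_pos hp w)

theorem card_configs_le (hp : 0 < p) {X₀ : Finset ℕ} (h0 : ∀ b, GroundAt p X₀ b) {a : ℕ} (ha : a < p)
    (w : ℕ) : #(configs p X₀ a (∑ x ∈ X₀, x + p * w)) ≤ bound p w := by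
  induction w using Nat.strong_induction_on with
  | _ w ih =>
  rcases w with _ | w
  · refine card_le_one.2 fun X hX Y hY => ?_
    suffices key : ∀ Z ∈ configs p X₀ a (∑ x ∈ X₀, x + p * 0), Z = X₀ from (key X hX).trans (key Y hY).symm
    intro Z hZ
    obtain ⟨hc, hs, -⟩ := (mem_configs hp).1 hZ
    refine ground_unique (fun b => ?_) h0 hc
    by_contra hb
    obtain ⟨x, hx, g, hgx, hgm, hgX, -, -⟩ := exists_move fun h => hb (h b)
    obtain ⟨w', hw'⟩ := exists_weight hp h0 (X := insert g (Z.erase x)) fun c => by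
      rw [filter_insert, filter_erase]
      by_cases hc' : x % p = c
      · rw [if_pos (hgm.trans hc'), card_insert_of_notMem (by simp [hgX]),
          card_erase_add_one (mem_filter.2 ⟨hx, hc'⟩), hc c]
      · rw [if_neg fun e => hc' (hgm.symm.trans e), erase_eq_of_notMem (by simp [hc']), hc c]
    rw [sum_insert (by simp [hgX])] at hw'
    have := sum_erase_add Z (fun y : ℕ => y) hx
    omega
  set S₀ := ∑ x ∈ X₀, x with hS₀
  have hsub : configs p X₀ a (S₀ + p * (w + 1)) ⊆
      ((range p).erase a).biUnion fun b => (Icc 1 (w + 1)).biUnion fun s =>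
        (configs p X₀ a (S₀ + p * (w + 1 - s))).image (unmove p b s) := by
    intro X hX
    obtain ⟨hc, hs, hga⟩ := (mem_configs hp).1 hX
    have hng : ¬ ∀ b, GroundAt p X b := fun h => by
      rw [ground_unique h h0 hc] at hs
      have := Nat.mul_pos hp (Nat.succ_pos w)
      simp only [Nat.succ_eq_add_one] at this
      omega
    obtain ⟨x, hx, g, hgx, hgm, hgX, htop, hfull⟩ := exists_move hng
    have hxa : x % p ≠ a := fun e => hgX (hga x hx e g hgx (hgm.trans e))
    obtain ⟨s, hs'⟩ : ∃ s, x = g + p * s := by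
      obtain ⟨s, hs'⟩ := (Nat.modEq_iff_dvd' hgx.le).1 hgm
      exact ⟨s, by omega⟩
    have hs1 : 1 ≤ s := Nat.one_le_iff_ne_zero.2 fun e => by rw [e, mul_zero] at hs'; omega
    have hps : p ≤ p * s := Nat.le_mul_of_pos_right p hs1
    set Y := insert g (X.erase x) with hY
    have hYc : ∀ c, #(Y.filter (· % p = c)) = #(X₀.filter (· % p = c)) := fun c => by
      rw [hY, filter_insert, filter_erase]
      by_cases hc' : x % p = c
      · rw [if_pos (hgm.trans hc'), card_insert_of_notMem (by simp [hgX]),
          card_erase_add_one (mem_filter.2 ⟨hx, hc'⟩), hc c]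
      · rw [if_neg fun e => hc' (hgm.symm.trans e), erase_eq_of_notMem (by simp [hc']), hc c]
    have hYs : ∑ y ∈ Y, y + p * s = S₀ + p * (w + 1) := by
      rw [hY, sum_insert (by simp [hgX])]
      have := sum_erase_add X (fun y : ℕ => y) hx
      omega
    have hsw : s ≤ w + 1 := by
      obtain ⟨w', hw'⟩ := exists_weight hp h0 hYc
      exact Nat.le_of_mul_le_mul_left (by rw [← hS₀] at hw'; omega) hp
    have hmul : p * (w + 1 - s) + p * s = p * (w + 1) := by rw [← mul_add, Nat.sub_add_cancel hsw]
    have hYmem : Y ∈ configs p X₀ a (S₀ + p * (w + 1 - s)) := by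
      refine (mem_configs hp).2 ⟨hYc, by omega, fun z hz hza y hy hya => ?_⟩
      rcases mem_insert.1 hz with rfl | hz
      · exact absurd (hgm.symm.trans hza) hxa
      · have hyX := hga z (mem_of_mem_erase hz) hza y hy hya
        exact mem_insert_of_mem (mem_erase.2 ⟨fun e => hxa (e ▸ hya), hyX⟩)
    have hsup : (Y.filter (· % p = x % p)).sup id = x - p := by
      refine le_antisymm (Finset.sup_le fun z hz => ?_) (le_sup (f := id) (mem_filter.2 ⟨?_, ?_⟩))
      · obtain ⟨hzY, hzm⟩ := mem_filter.1 hz
        show z ≤ x - p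
        rcases mem_insert.1 hzY with rfl | hzX
        · omega
        · obtain ⟨hne, hzX⟩ := mem_erase.1 hzX
          have hlt : z < x := lt_of_le_of_ne (htop z hzX hzm) hne
          obtain ⟨d, hd⟩ := (Nat.modEq_iff_dvd' hlt.le).1 hzm
          rcases d with _ | d
          · omega
          · rw [Nat.mul_succ] at hd; omega
      · rcases eq_or_lt_of_le (show g ≤ x - p by omega) with he | hlt
        · exact he ▸ mem_insert_self _ _
        · refine mem_insert_of_mem (mem_erase.2 ⟨by omega, hfull _ hlt (by omega) ?_⟩)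
          exact (Nat.mod_eq_sub_mod (show p ≤ x by omega)).symm
      · exact (Nat.mod_eq_sub_mod (show p ≤ x by omega)).symm
    have hun : unmove p (x % p) s Y = X := by
      simp only [unmove, hsup]
      rw [Nat.sub_add_cancel (show p ≤ x by omega), show x - p * s = g by omega, hY,
        erase_insert (by simp [hgX]), insert_erase hx]
    simp only [mem_biUnion, mem_erase, mem_range, mem_Icc, mem_image]
    exact ⟨x % p, ⟨hxa, Nat.mod_lt x hp⟩, s, ⟨hs1, hsw⟩, Y, hYmem, hun⟩
  refine (card_le_card hsub).trans (card_biUnion_le.trans ?_)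
  have h1 : ∀ b ∈ (range p).erase a, #((Icc 1 (w + 1)).biUnion fun s =>
      (configs p X₀ a (S₀ + p * (w + 1 - s))).image (unmove p b s)) ≤ p ^ w := fun b _ => by
    refine card_biUnion_le.trans ?_
    refine (sum_le_sum fun s hs => card_image_le.trans (ih (w + 1 - s) ?_)).trans (le_of_eq ?_)
    · have := mem_Icc.1 hs; omega
    · rw [← sum_bound hp w]
      refine sum_nbij' (fun s => w + 1 - s) (fun v => w + 1 - v) ?_ ?_ ?_ ?_ fun _ _ => rfl <;>
        intro v hv <;> simp only [mem_Icc, mem_range] at hv ⊢ <;>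
          omega
  refine (sum_le_sum h1).trans (le_of_eq ?_)
  rw [sum_const, card_erase_of_mem (mem_range.2 ha), card_range, smul_eq_mul, bound]

theorem exists_perm {β γ : Fin N → ℕ} (hβ : Function.Injective β) (hγ : Function.Injective γ)
    (h : univ.image β = univ.image γ) : ∃ σ : Equiv.Perm (Fin N), γ = β ∘ σ := by
  have hex : ∀ i, ∃ j, β j = γ i := fun i => by
    have : γ i ∈ univ.image β := h ▸ mem_image_of_mem γ (mem_univ i)
    simpa using this
  choose f hf using hex
  have hinj : Function.Injective f := fun i j e => hγ (by rw [← hf, ← hf, e])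
  exact ⟨Equiv.ofBijective f (Finite.injective_iff_bijective.1 hinj), funext fun i => (hf i).symm⟩

/-! ### Spanning by the configurations with a pushed-down runner -/

section Span

variable {K V : Type*} [Field K] [CharZero K] [AddCommGroup V] [Module K V]

/-- The configurations of the class of `β₀` with runner `a` pushed down. -/
def groundSet (p : ℕ) (β₀ : Fin N → ℕ) (a : ℕ) : Set (Fin N → ℕ) :=
  {γ | Function.Injective γ ∧ SameCnt p γ β₀ ∧ ∑ i, γ i = ∑ i, β₀ i ∧ GroundAt p (univ.image γ) a}

/-- The beads of `T` moved by `p`. -/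
def raiseBy (p : ℕ) (δ : Fin N → ℕ) (T : Finset (Fin N)) : Fin N → ℕ :=
  fun k => δ k + if k ∈ T then p else 0

theorem raiseBy_mod (δ : Fin N → ℕ) (T : Finset (Fin N)) (k : Fin N) : raiseBy p δ T k % p = δ k % p := by
  unfold raiseBy; split <;> simp

theorem single_mul_mod (δ : Fin N → ℕ) (i : Fin N) (m : ℕ) (k : Fin N) :
    (δ + Pi.single i (p * m) : Fin N → ℕ) k % p = δ k % p := by
  rw [Pi.add_apply, Pi.single_apply]; split <;> simp [Nat.add_mul_mod_self_left]

theorem sum_raiseBy (δ : Fin N → ℕ) (T I : Finset (Fin N)) (h : T ⊆ I) :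
    ∑ k ∈ I, raiseBy p δ T k = ∑ k ∈ I, δ k + p * #T := by
  simp only [raiseBy, sum_add_distrib, sum_ite_mem, inter_eq_right.2 h, sum_const, smul_eq_mul]
  ring

theorem mem_span_ground (hp : 0 < p) (e : (Fin N → ℕ) → V) (h0 : ∀ β, ¬ Function.Injective β → e β = 0)
    (β₀ : Fin N → ℕ)
    (hrel : ∀ (δ : Fin N → ℕ) (m : ℕ), 0 < m → ∑ i, δ i + p * m = ∑ i, β₀ i → ∑ i, e (δ + Pi.single i (p * m)) = 0)
    {a : ℕ} (ha : a < p) (β : Fin N → ℕ) (hβ : Function.Injective β) (hc : SameCnt p β β₀)
    (hs : ∑ i, β i = ∑ i, β₀ i) : e β ∈ Submodule.span K (e '' groundSet p β₀ a) := by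
  classical
  set W := Submodule.span K (e '' groundSet p β₀ a)
  suffices H : ∀ s, ∀ β : Fin N → ℕ, SameCnt p β β₀ → ∑ i, β i = ∑ i, β₀ i →
      ∑ i with β i % p = a, β i = s → e β ∈ W from H _ β hc hs rfl
  intro s
  induction s using Nat.strong_induction_on with
  | _ s ih =>
  -- the moves of the beads of the runner
  have key : ∀ q, 0 < q → ∀ δ : Fin N → ℕ, SameCnt p δ β₀ → ∑ i, δ i + p * q = ∑ i, β₀ i →
      ∑ i with δ i % p = a, δ i + p * q = s →
      ∑ T ∈ powersetCard q ({i | δ i % p = a} : Finset (Fin N)), e (raiseBy p δ T) ∈ W := by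
    intro q hq δ hδc hδs hδr
    set I : Finset (Fin N) := {i | δ i % p = a} with hI
    set f : Finset (Fin N) → Fin N → ℕ → V := fun T i m => e (raiseBy p δ T + Pi.single i (p * m)) with hf
    have hB : ∀ j m, j + m = q → ∑ T ∈ powersetCard j I, ∑ i ∈ T, f T i m ∈ W := by
      intro j
      induction j with
      | zero => intro m _; simp
      | succ j ihj =>
        intro m hjm
        have hswap : ∑ T ∈ powersetCard (j + 1) I, ∑ i ∈ T, f T i m =
            ∑ T ∈ powersetCard j I, ∑ i ∈ I \ T, f T i (m + 1) := by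
          rw [sum_sigma', sum_sigma']
          refine sum_bij' (fun x _ => ⟨x.1.erase x.2, x.2⟩) (fun y _ => ⟨insert y.2 y.1, y.2⟩) ?_ ?_ ?_ ?_ ?_
          · rintro ⟨T, i⟩ hx
            simp only [mem_sigma, mem_powersetCard, mem_sdiff] at hx ⊢
            exact ⟨⟨(erase_subset _ _).trans hx.1.1, by rw [card_erase_of_mem hx.2, hx.1.2]; omega⟩,
              hx.1.1 hx.2, notMem_erase _ _⟩
          · rintro ⟨T, i⟩ hx
            simp only [mem_sigma, mem_powersetCard, mem_sdiff] at hx ⊢
            exact ⟨⟨insert_subset hx.2.1 hx.1.1, by rw [card_insert_of_notMem hx.2.2, hx.1.2]⟩,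
              mem_insert_self _ _⟩
          · rintro ⟨T, i⟩ hx
            simp only [mem_sigma] at hx
            simp [insert_erase hx.2]
          · rintro ⟨T, i⟩ hx
            simp only [mem_sigma, mem_sdiff] at hx
            simp [erase_insert hx.2.2]
          · rintro ⟨T, i⟩ hx
            simp only [mem_sigma] at hx
            simp only [hf]
            congr 1
            funext k
            simp only [raiseBy, Pi.add_apply, Pi.single_apply, mem_erase]
            by_cases hk : k = i
            · subst hk; simp [hx.2]; ring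
            · simp [hk]
        rw [hswap]
        have hrelI : ∀ T ∈ powersetCard j I, ∑ i ∈ I, f T i (m + 1) ∈ W := by
          intro T hT
          obtain ⟨hTI, hTc⟩ := mem_powersetCard.1 hT
          have hmul : p * #T + p * (m + 1) = p * q := by rw [← mul_add, hTc, ← hjm]; ring
          have hsum : ∑ i, raiseBy p δ T i = ∑ i, δ i + p * #T := sum_raiseBy δ T univ (subset_univ _)
          have hall := hrel (raiseBy p δ T) (m + 1) (Nat.succ_pos _) (by omega)
          rw [← sum_add_sum_compl I, add_eq_zero_iff_eq_neg] at hall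
          simp only [hf]
          rw [hall]
          refine W.neg_mem (sum_mem fun i hi => ?_)
          have hiI : i ∉ I := mem_compl.1 hi
          by_cases hinj : Function.Injective (raiseBy p δ T + Pi.single i (p * (m + 1)))
          · refine ih (∑ k ∈ I, raiseBy p δ T k) ?_ _ (fun b => ?_) ?_ ?_
            · have := sum_raiseBy (p := p) δ T I hTI
              have := Nat.mul_pos hp (Nat.succ_pos m)
              simp only [Nat.succ_eq_add_one] at this
              omega
            · simp only [single_mul_mod, raiseBy_mod]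
              exact hδc b
            · simp only [Pi.add_apply, sum_add_distrib, sum_pi_single', mem_univ, if_true]
              omega
            · simp only [single_mul_mod, raiseBy_mod, ← hI]
              refine sum_congr rfl fun k hk => ?_
              rw [Pi.add_apply, Pi.single_eq_of_ne fun e : k = i => hiI (e ▸ hk), add_zero]
          · rw [h0 _ hinj]; exact W.zero_mem
        have hsplit : ∀ T ∈ powersetCard j I, ∑ i ∈ I \ T, f T i (m + 1) =
            ∑ i ∈ I, f T i (m + 1) - ∑ i ∈ T, f T i (m + 1) := fun T hT =>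
          eq_sub_of_add_eq (sum_sdiff (mem_powersetCard.1 hT).1)
        rw [sum_congr rfl hsplit, sum_sub_distrib]
        exact W.sub_mem (sum_mem hrelI) (ihj (m + 1) (by omega))
    have h1 := hB q 0 (add_zero q)
    rw [sum_congr rfl (g := fun T => (q : K) • e (raiseBy p δ T)) fun T hT => ?_] at h1
    · rw [← smul_sum] at h1
      exact (W.smul_mem_iff (Nat.cast_ne_zero.2 hq.ne')).1 h1
    · simp only [hf, mul_zero, Pi.single_zero, add_zero, sum_const, (mem_powersetCard.1 hT).2,
        Nat.cast_smul_eq_nsmul]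
  -- the least empty place of the runner
  suffices H : ∀ g, ∀ β : Fin N → ℕ, SameCnt p β β₀ → ∑ i, β i = ∑ i, β₀ i →
      ∑ i with β i % p = a, β i = s → (∀ i, β i ≠ a + p * g) → e β ∈ W by
    intro β hc hs hr
    obtain ⟨g, hg⟩ : ∃ g, ∀ i, β i ≠ a + p * g := ⟨∑ i, β i + 1, fun i h => by
      have := single_le_sum (f := β) (fun _ _ => Nat.zero_le _) (mem_univ i)
      have := Nat.le_mul_of_pos_left (∑ i, β i + 1) hp
      omega⟩
    exact H g β hc hs hr hg
  intro g
  induction g using Nat.strong_induction_on with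
  | _ g ihg =>
  intro β hc hs hr hg
  by_cases hinj : Function.Injective β
  swap
  · rw [h0 β hinj]; exact W.zero_mem
  by_cases hlow : ∃ l < g, ∀ i, β i ≠ a + p * l
  · obtain ⟨l, hl, hl'⟩ := hlow
    exact ihg l hl β hc hs hr hl'
  push Not at hlow
  have hlev : ∀ i, β i % p = a → β i = a + p * (β i / p) := fun i h => by rw [← h, Nat.mod_add_div]
  set S : Finset (Fin N) := {i | β i % p = a ∧ g < β i / p} with hS
  rcases S.eq_empty_or_nonempty with hSe | hSne
  · refine Submodule.subset_span ⟨β, ⟨hinj, hc, hs, ?_⟩, rfl⟩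
    intro x hx hxa y hy hya
    simp only [mem_image, mem_univ, true_and] at hx ⊢
    obtain ⟨i, rfl⟩ := hx
    have hi : β i / p < g := by
      refine lt_of_le_of_ne (le_of_not_gt fun h => ?_) fun e => hg i (e ▸ hlev i hxa)
      exact (eq_empty_iff_forall_notMem.1 hSe) i (by simp [hS, hxa, h])
    obtain ⟨k, hk⟩ := hlow (y / p) ((div_lt_div_of_mod_eq (hya.trans hxa.symm) hy).trans hi)
    exact ⟨k, by rw [hk, ← hya, Nat.mod_add_div]⟩
  set δ : Fin N → ℕ := fun k => β k - if k ∈ S then p else 0 with hδ
  have hge : ∀ k ∈ S, p ≤ β k := fun k hk => by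
    simp only [hS, mem_filter, mem_univ, true_and] at hk
    have h1 := hlev k hk.1
    have := Nat.le_mul_of_pos_right p (show 0 < β k / p by omega)
    omega
  have hback : raiseBy p δ S = β := funext fun k => by
    simp only [raiseBy, hδ]
    split
    · exact Nat.sub_add_cancel (hge k ‹_›)
    · simp
  have hmod : ∀ k, δ k % p = β k % p := fun k => by
    rw [← congrFun hback k, raiseBy_mod]
  set I : Finset (Fin N) := {i | β i % p = a} with hI
  have hSI : S ⊆ I := fun k hk => by simp [hS, hI] at hk ⊢; exact hk.1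
  have hIδ : ({i | δ i % p = a} : Finset (Fin N)) = I := by simp only [hmod, hI]
  have hδc : SameCnt p δ β₀ := fun b => by simp only [hmod]; exact hc b
  have hδs : ∀ J, S ⊆ J → ∑ k ∈ J, δ k + p * #S = ∑ k ∈ J, β k := fun J hJ => by
    rw [← sum_raiseBy δ S J hJ, hback]
  have hmain := key #S hSne.card_pos δ hδc ((hδs univ (subset_univ _)).trans hs)
    (by rw [hIδ, hδs I hSI, hr])
  rw [hIδ] at hmain
  have hSmem : S ∈ powersetCard #S I := mem_powersetCard.2 ⟨hSI, rfl⟩
  rw [← add_sum_erase _ _ hSmem, hback] at hmain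
  refine (W.add_mem_iff_left (sum_mem fun T hT => ?_)).1 hmain
  obtain ⟨hTS, hT⟩ := mem_erase.1 hT
  obtain ⟨hTI, hTc⟩ := mem_powersetCard.1 hT
  obtain ⟨i₁, hi₁⟩ : (T \ S).Nonempty := sdiff_nonempty.2 fun h =>
    hTS (eq_of_subset_of_card_le h hTc.ge)
  obtain ⟨i, hi, hmin⟩ := exists_min_image (T \ S) (fun k => β k / p) ⟨i₁, hi₁⟩
  obtain ⟨hiT, hiS⟩ := mem_sdiff.1 hi
  have hia : β i % p = a := by simpa [hI] using hTI hiT
  have hig : β i / p < g := by
    refine lt_of_le_of_ne (le_of_not_gt fun h => hiS (by simp [hS, hia, h])) fun e => hg i (e ▸ hlev i hia)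
  have hTmod : ∀ k, raiseBy p δ T k % p = β k % p := fun k => by rw [raiseBy_mod, hmod]
  refine ihg _ hig _ (fun b => ?_) ?_ ?_ fun k hk => ?_
  · simp only [hTmod]; exact hc b
  · rw [sum_raiseBy δ T univ (subset_univ _), hTc, hδs univ (subset_univ _), hs]
  · simp only [hTmod, ← hI]
    rw [sum_raiseBy δ T I hTI, hTc, hδs I hSI, hr]
  · have hka : β k % p = a := by
      rw [← hTmod, hk, Nat.add_mul_mod_self_left, Nat.mod_eq_of_lt ha]
    have h1 := hlev k hka
    have h2 := hlev i hia
    simp only [raiseBy, hδ] at hk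
    by_cases hkS : k ∈ S
    · have hgk : g < β k / p := by simp only [hS, mem_filter] at hkS; exact hkS.2.2
      have := Nat.mul_le_mul_left p (show β i / p + 2 ≤ β k / p by omega)
      rw [mul_add] at this
      rw [if_pos hkS] at hk
      split at hk <;> omega
    · rw [if_neg hkS, Nat.sub_zero] at hk
      split at hk
      · have hle := hmin k (mem_sdiff.2 ⟨‹_›, hkS⟩)
        have := Nat.mul_le_mul_left p (show β i / p ≤ β k / p from hle)
        omega
      · obtain rfl : k = i := hinj (by omega)
        exact absurd hiT ‹_›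

/-- Fewer than `p ^ w` of them span. -/
theorem finrank_span_lt (hp : 0 < p) (e : (Fin N → ℕ) → V) (h0 : ∀ β, ¬ Function.Injective β → e β = 0)
    (hperm : ∀ β (σ : Equiv.Perm (Fin N)), e (β ∘ σ) ∈ Submodule.span K {e β})
    (β₀ : Fin N → ℕ) (hβ₀ : Function.Injective β₀) (hw : 0 < weight p β₀)
    (hrel : ∀ (δ : Fin N → ℕ) (m : ℕ), 0 < m → ∑ i, δ i + p * m = ∑ i, β₀ i → ∑ i, e (δ + Pi.single i (p * m)) = 0) :
    Module.finrank K (Submodule.span K
      (e '' {β | Function.Injective β ∧ SameCnt p β β₀ ∧ ∑ i, β i = ∑ i, β₀ i})) < p ^ weight p β₀ := by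
  classical
  set w := weight p β₀
  set X₀ := univ.image (core p β₀) with hX₀
  set t := ∑ x ∈ X₀, x + p * w with ht
  have htot : t = ∑ i, β₀ i := by
    rw [ht, hX₀, sum_image' (core_injective hp hβ₀), ← sum_eq hβ₀]
  let rep : Finset ℕ → Fin N → ℕ := fun X => if h : #X = N then X.orderEmbOfFin h else 0
  set T := ((configs p X₀ 0 t).image fun X => e (rep X)) with hT
  have hle : Submodule.span K (e '' {β | Function.Injective β ∧ SameCnt p β β₀ ∧ ∑ i, β i = ∑ i, β₀ i}) ≤
      Submodule.span K (T : Set V) := by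
    rw [Submodule.span_le]
    rintro _ ⟨β, ⟨hβ, hc, hs⟩, rfl⟩
    refine Submodule.span_le.2 ?_ (mem_span_ground hp e h0 β₀ hrel hp β hβ hc hs)
    rintro _ ⟨γ, ⟨hγ, hγc, hγs, hγg⟩, rfl⟩
    set X := univ.image γ with hX
    have hN : #X = N := by rw [hX, card_image_of_injective _ hγ, card_univ, Fintype.card_fin]
    have hmem : X ∈ configs p X₀ 0 t := by
      refine (mem_configs hp).2 ⟨fun b => ?_, by rw [hX, sum_image' hγ, hγs, htot], hγg⟩
      rw [hX, card_filter_image hγ, hX₀, card_filter_image (core_injective hp hβ₀), sameCnt_core hp β₀ b,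
        hγc b]
    have hrep : univ.image (rep X) = X := by
      simp only [rep, dif_pos hN, image_orderEmbOfFin_univ]
    have hrinj : Function.Injective (rep X) := by
      simp only [rep, dif_pos hN]; exact (X.orderEmbOfFin hN).injective
    obtain ⟨σ, hσ⟩ := exists_perm hrinj hγ hrep
    rw [hσ]
    refine Submodule.span_le.2 ?_ (hperm _ σ)
    rw [Set.singleton_subset_iff]
    exact Submodule.subset_span (mem_image_of_mem (fun X => e (rep X)) hmem)
  haveI : Module.Finite K (Submodule.span K (T : Set V)) := Module.Finite.span_of_finite K T.finite_toSet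
  calc Module.finrank K _ ≤ Module.finrank K (Submodule.span K (T : Set V)) :=
        Submodule.finrank_mono hle
    _ ≤ #T := finrank_span_finset_le_card T
    _ ≤ #(configs p X₀ 0 t) := card_image_le
    _ ≤ bound p w := card_configs_le hp (groundAt_core hp hβ₀) hp w
    _ < p ^ w := bound_lt hp w hw

end Span

/-! ### The value at `w` cycles of length `p` -/

theorem core_sub_single (hp : 0 < p) {β : Fin N → ℕ} (hβ : Function.Injective β) {i : Fin N}
    (hi : p ≤ β i) (hinj : Function.Injective (β - Pi.single i p)) :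
    core p (β - Pi.single i p) = core p β := by
  have hb : ∀ k, (β - Pi.single i p : Fin N → ℕ) k = if k = i then β i - p else β k := fun k => by
    rw [Pi.sub_apply, Pi.single_apply]
    split
    · subst_vars; rfl
    · exact Nat.sub_zero _
  have hmod : ∀ k, (β - Pi.single i p : Fin N → ℕ) k % p = β k % p := fun k => by
    rw [hb]; split
    · subst_vars; exact (Nat.mod_eq_sub_mod hi).symm
    · rfl
  funext k
  simp only [core, rank, hmod]
  congr 3
  refine filter_congr fun l _ => and_congr_right fun hlk => ?_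
  have hne : ∀ l, l ≠ i → β l ≠ β i - p := fun l hl e => hl (hinj (by rw [hb, hb, if_neg hl, if_pos rfl, e]))
  have hgap : ∀ l, l ≠ i → β l % p = β i % p → β l < β i → β l < β i - p := fun l hl hm hlt => by
    obtain ⟨d, hd⟩ := (Nat.modEq_iff_dvd' hlt.le).1 hm
    rcases d with _ | d
    · omega
    · rw [Nat.mul_succ] at hd
      have := hne l hl
      omega
  rw [hb, hb]
  by_cases hl : l = i <;> by_cases hk : k = i
  · subst hl; subst hk; simp
  · subst hl
    rw [if_pos rfl, if_neg hk]
    have hnek : β k ≠ β l := fun e => hk (hβ e)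
    exact ⟨fun h => by
      by_contra h'
      exact absurd (hgap k hk hlk.symm (by omega)) (by omega), fun h => by omega⟩
  · subst hk
    rw [if_pos rfl, if_neg hl]
    exact ⟨fun h => by omega, fun h => hgap l hl hlk h⟩
  · rw [if_neg hl, if_neg hk]

theorem sum_sub_single {β : Fin N → ℕ} {i : Fin N} (hi : p ≤ β i) :
    ∑ k, (β - Pi.single i p : Fin N → ℕ) k + p = ∑ k, β k := by
  have hk : ∀ k, β k = (β - Pi.single i p : Fin N → ℕ) k + (Pi.single i p : Fin N → ℕ) k := fun k => by
    rw [Pi.sub_apply, Pi.single_apply]; split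
    · subst_vars; omega
    · omega
  rw [sum_congr rfl fun k _ => hk k, sum_add_distrib, sum_pi_single', if_pos (mem_univ i)]

theorem exists_legal (hp : 0 < p) {β : Fin N → ℕ} (hβ : Function.Injective β) (hw : 0 < weight p β) :
    ∃ i, p ≤ β i ∧ Function.Injective (β - Pi.single i p) := by
  by_contra! h
  refine hw.ne' (sum_eq_zero fun i _ => ?_)
  suffices ∀ l, ∀ i, β i / p = l → l ≤ rank p β i by
    have := this _ i rfl
    omega
  intro l
  induction l with
  | zero => intro i _; exact Nat.zero_le _
  | succ l ih =>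
    intro i hi
    have hip : p ≤ β i := by
      by_contra hlt
      rw [Nat.div_eq_of_lt (not_le.1 hlt)] at hi
      exact Nat.succ_ne_zero l hi.symm
    obtain ⟨k, hk, hke⟩ : ∃ k, k ≠ i ∧ β k = β i - p := by
      by_contra! hno
      refine h i hip fun u v huv => ?_
      simp only [Pi.sub_apply, Pi.single_apply] at huv
      split_ifs at huv with hu hv hv
      · exact hu.trans hv.symm
      · exact absurd (show β v = β i - p by subst hu; omega) (hno v hv)
      · exact absurd (show β u = β i - p by subst hv; omega) (hno u hu)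
      · exact hβ (by omega)
    have hkm : β k % p = β i % p := by rw [hke]; exact (Nat.mod_eq_sub_mod hip).symm
    have hkd : β k / p = l := by
      rw [hke]
      have := Nat.div_eq_sub_div hp hip
      omega
    exact Nat.succ_le_of_lt ((ih k hkd).trans_lt (rank_lt_rank hkm (by omega)))

/-- A branching family is a positive multiple of its value at the core: all sequences of moves
end in the core. -/
theorem eval_eq_smul {K : Type*} [AddCommMonoid K] (hp : 0 < p)
    (F : ℕ → (Fin N → ℕ) → K) (β : Fin N → ℕ) (hβ : Function.Injective β)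
    (h0 : ∀ k γ, ¬ Function.Injective γ → F k γ = 0)
    (hrec : ∀ k < weight p β, ∀ γ, Function.Injective γ →
      ∑ i, γ i = ∑ i, core p β i + p * (k + 1) →
      F (k + 1) γ = ∑ i, if p ≤ γ i then F k (γ - Pi.single i p) else 0) :
    ∃ m, 0 < m ∧ F (weight p β) β = m • F 0 (core p β) := by
  suffices H : ∀ k ≤ weight p β, ∀ γ, Function.Injective γ → core p γ = core p β → weight p γ = k →
      ∃ m, 0 < m ∧ F k γ = m • F 0 (core p β) from H _ le_rfl β hβ rfl rfl
  intro k
  induction k with
  | zero =>
    intro _ γ hγ hc hw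
    refine ⟨1, one_pos, ?_⟩
    rw [one_smul, ← hc]
    congr 1
    funext i
    have h := (sum_eq_zero_iff.1 hw) i (mem_univ i)
    have h' := rank_le (p := p) hγ i
    rw [core, show rank p γ i = γ i / p by omega, Nat.mod_add_div]
  | succ k ih =>
    intro hk γ hγ hc hw
    have hsum : ∑ i, γ i = ∑ i, core p β i + p * (k + 1) := by rw [sum_eq (p := p) hγ, hc, hw]
    have hterm : ∀ i, ∃ m, ((if p ≤ γ i then F k (γ - Pi.single i p) else 0) = m • F 0 (core p β)) ∧
        (p ≤ γ i → Function.Injective (γ - Pi.single i p) → 0 < m) := by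
      intro i
      by_cases hi : p ≤ γ i
      · rw [if_pos hi]
        by_cases hinj : Function.Injective (γ - Pi.single i p)
        · have hc' : core p (γ - Pi.single i p) = core p β := (core_sub_single hp hγ hi hinj).trans hc
          have hw' : weight p (γ - Pi.single i p) = k := by
            have h1 := sum_eq (p := p) hinj
            have h2 := sum_sub_single (p := p) hi
            rw [hc'] at h1
            have : p * (k + 1) = p * k + p := by ring
            exact Nat.eq_of_mul_eq_mul_left hp (by omega)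
          obtain ⟨m, hm, he⟩ := ih (by omega) _ hinj hc' hw'
          exact ⟨m, he, fun _ _ => hm⟩
        · exact ⟨0, by rw [h0 _ _ hinj, zero_smul], fun _ h => absurd h hinj⟩
      · exact ⟨0, by rw [if_neg hi, zero_smul], fun h => absurd h hi⟩
    choose m hm hpos using hterm
    obtain ⟨i, hi, hinj⟩ := exists_legal hp hγ (by omega)
    refine ⟨∑ i, m i, lt_of_lt_of_le (hpos i hi hinj) (single_le_sum (fun _ _ => Nat.zero_le _) (mem_univ i)), ?_⟩
    rw [hrec k (by omega) γ hγ hsum, sum_congr rfl fun i _ => hm i, ← sum_smul]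

/-- A branching family does not vanish. -/
theorem eval_ne_zero {K : Type*} [AddCommGroup K] [IsAddTorsionFree K] (hp : 0 < p)
    (F : ℕ → (Fin N → ℕ) → K) (β : Fin N → ℕ) (hβ : Function.Injective β)
    (h0 : ∀ k γ, ¬ Function.Injective γ → F k γ = 0)
    (hrec : ∀ k < weight p β, ∀ γ, Function.Injective γ →
      ∑ i, γ i = ∑ i, core p β i + p * (k + 1) →
      F (k + 1) γ = ∑ i, if p ≤ γ i then F k (γ - Pi.single i p) else 0)
    (hcore : F 0 (core p β) ≠ 0) : F (weight p β) β ≠ 0 := by
  obtain ⟨m, hm, he⟩ := eval_eq_smul hp F β hβ h0 hrec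
  rw [he]
  exact smul_ne_zero hm.ne' hcore

end CfsgLib.SymBlock.Runner
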