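import Cfsg.Agent.Lib.SymBlock.Blocks
import Cfsg.Agent.Lib.SymBlock.Char
import Cfsg.Agent.Lib.SymBlock.Runner
import Cfsg.Agent.Lib.Block.Defect
import Cfsg.Agent.Lib.Block.RankOne
import Cfsg.Agent.S0914

/-!
# Residue classes of bead vectors are unions of blocks of symmetric groups

`isBlockUnion_countClass`, `block_subset_countClass`, `defect_eq_bot_of_weight_eq_zero`.
-/

open scoped ComplexConjugate
open Equiv Finset

namespace CfsgLib.SymBlock

open Cfsg CfsgLib.Block

variable {N n : ℕ}

/-- Number of beads in a given residue class. -/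
def resCnt (p : ℕ) (β : Fin N → ℤ) (a : ZMod p) : ℕ :=
  (Finset.univ.filter fun i => (β i : ZMod p) = a).card

/-- Equal numbers of beads in every residue class. -/
def SameRes (p : ℕ) (β β₀ : Fin N → ℤ) : Prop := ∀ a, resCnt p β a = resCnt p β₀ a

theorem sameRes_refl (p : ℕ) (β : Fin N → ℤ) : SameRes p β β := fun _ => rfl

theorem sameRes_comp (p : ℕ) (β β₀ : Fin N → ℤ) (τ : Perm (Fin N)) :
    SameRes p (β ∘ τ) β₀ ↔ SameRes p β β₀ := by
  have h : ∀ a, resCnt p (β ∘ τ) a = resCnt p β a := fun a => by
    refine Finset.card_bij (fun i _ => τ i) (fun i hi => ?_) (fun i _ j _ h => τ.injective h)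
      (fun j hj => ⟨τ.symm j, ?_, τ.apply_symm_apply j⟩)
    · simpa using hi
    · simpa using hj
  simp [SameRes, h]

theorem sameRes_add_single {p r : ℕ} (hr : p ∣ r) (β β₀ : Fin N → ℤ) (i : Fin N) :
    SameRes p (β + Pi.single i (r : ℤ)) β₀ ↔ SameRes p β β₀ := by
  have hz : ((r : ℤ) : ZMod p) = 0 := by
    rw [Int.cast_natCast, ZMod.natCast_eq_zero_iff]
    exact hr
  have h : resCnt p (β + Pi.single i (r : ℤ)) = resCnt p β := by
    funext a
    refine congrArg Finset.card (Finset.filter_congr fun j _ => ?_)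
    rcases eq_or_ne j i with rfl | hj
    · rw [Pi.add_apply, Pi.single_eq_same, Int.cast_add, hz, add_zero]
    · rw [Pi.add_apply, Pi.single_eq_of_ne hj, add_zero]
  simp only [SameRes, h]

/-- A state as a vector of natural numbers. -/
def natBead (β : St N n) : Fin N → ℕ := fun i => (β.1 i).toNat

theorem natBead_cast (β : St N n) (i : Fin N) : ((natBead β i : ℕ) : ℤ) = β.1 i :=
  Int.toNat_of_nonneg (β.2.2.1 i)

theorem natBead_strictMono (β : St N n) : StrictMono (natBead β) := fun i j h => by
  have := β.2.1 h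
  have hi := natBead_cast β i
  have hj := natBead_cast β j
  omega

theorem natBead_injective (β : St N n) : Function.Injective (natBead β) :=
  (natBead_strictMono β).injective

theorem sum_natBead (β : St N n) : ∑ i, natBead β i = n + ∑ i : Fin N, (i : ℕ) := by
  have h : ((∑ i, natBead β i : ℕ) : ℤ) = ((n + ∑ i : Fin N, (i : ℕ) : ℕ) : ℤ) := by
    push_cast
    simp only [natBead_cast]
    exact β.2.2.2
  exact_mod_cast h

theorem sameRes_iff_sameCnt {p : ℕ} [NeZero p] (β γ : St N n) :
    SameRes p β.1 γ.1 ↔ Runner.SameCnt p (natBead β) (natBead γ) := by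
  have h : ∀ (δ : St N n) (a : ZMod p),
      resCnt p δ.1 a = (Finset.univ.filter fun i => natBead δ i % p = a.val).card := fun δ a => by
    refine congrArg Finset.card (Finset.filter_congr fun i _ => ?_)
    rw [← natBead_cast δ i, Int.cast_natCast, ← ZMod.val_natCast p (natBead δ i),
      (ZMod.val_injective p).eq_iff]
  constructor
  · intro hres a
    by_cases ha : a < p
    · have := hres (a : ZMod p)
      rwa [h, h, ZMod.val_cast_of_lt ha] at this
    · have hz : ∀ δ : Fin N → ℕ, (Finset.univ.filter fun i => δ i % p = a) = ∅ := fun δ =>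
        Finset.filter_eq_empty_iff.mpr fun i _ h => ha (h ▸ Nat.mod_lt _ (NeZero.pos p))
      simp [hz]
  · intro hcnt a
    rw [h, h]
    exact hcnt a.val

/-- The irreducible characters whose bead vectors have prescribed residue counts. -/
def countClass (hN : n ≤ N) (p : ℕ) (β₀ : St N n) : Set (IrrCharacter (Perm (Fin n))) :=
  stEquiv hN '' {β | SameRes p β.1 β₀.1}

variable {p : ℕ} {M : Ideal AlgInt}

theorem isBlockUnion_countClass [Fact p.Prime] (hN : n ≤ N) (hM : IsPModular p M) (β₀ : St N n) :
    IsBlockUnion M (countClass hN p β₀) := by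
  classical
  have := hM.2.1
  refine isBlockUnion_of_orthogonal hM fun g x hg hx => ?_
  obtain ⟨y, hy⟩ := exists_cycLen_dvd x (Fact.out : p.Prime) hx
  set r := cycLen x y with hrdef
  have hr0 : 0 < r := by
    rw [hrdef, cycLen]
    have : Nonempty {z // x.SameCycle y z} := ⟨⟨y, Perm.SameCycle.refl x y⟩⟩
    exact Nat.card_pos
  have hrn : r ≤ n := by
    rw [hrdef, cycLen]
    exact le_trans (Finite.card_subtype_le _) (by rw [Nat.card_fin])
  have hnm : n - r + r = n := Nat.sub_add_cancel hrn
  have hgr : ∀ z, cycLen g z ≠ r := fun z hz =>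
    hg (dvd_trans (dvd_trans hy (dvd_of_eq hz.symm)) (cycLen_dvd_orderOf g z))
  obtain ⟨h, hh⟩ := exists_split (N := N) x y
  have key : ∑ β : St N n with SameRes p β.1 β₀.1, chi g β.1 * chi x β.1 = 0 := by
    rw [sum_shift hr0 (fun β => SameRes p β β₀.1) (fun β τ => sameRes_comp p β _ τ)
      (fun β i => sameRes_add_single hy β _ i) x h hnm hh g]
    refine Finset.sum_eq_zero fun γ _ => ?_
    rw [phi_eq_zero hN hr0 hnm g hgr γ.2.2, mul_zero]
  rw [countClass, finsum_mem_image ((stEquiv hN).injective.injOn), finsum_mem_eq_toFinset_sum]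
  have hterm : ∀ β : St N n, ((stEquiv hN β : IrrCharacter (Perm (Fin n))) : _ → ℂ) g *
      conj (((stEquiv hN β : IrrCharacter (Perm (Fin n))) : _ → ℂ) x) =
      ((chi g β.1 * chi x β.1 : ℤ) : ℂ) := fun β => by
    rw [irr_eq hN, irr_eq hN, map_mul, map_intCast, map_intCast]
    rcases eps_sq β with he | he <;> rw [he] <;> push_cast <;> ring
  simp only [hterm]
  rw [← Int.cast_sum, Int.cast_eq_zero, ← key]
  refine Finset.sum_congr ?_ fun _ _ => rfl
  ext β
  simp

theorem mem_countClass (hN : n ≤ N) {β β₀ : St N n} :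
    stEquiv hN β ∈ countClass hN p β₀ ↔ SameRes p β.1 β₀.1 :=
  (stEquiv hN).injective.mem_set_image

theorem block_subset_countClass [Fact p.Prime] (hN : n ≤ N) (hM : IsPModular p M)
    {B : Set (IrrCharacter (Perm (Fin n)))} (hB : IsPBlock M B) {β₀ : St N n}
    (h : stEquiv hN β₀ ∈ B) : B ⊆ countClass hN p β₀ := by
  have := hM.2.1
  intro χ hχ
  exact isBlockUnion_countClass hN hM β₀ _ ((mem_countClass hN).mpr (sameRes_refl p _)) χ
    ((isPBlock_sameBlock hB h).mp hχ)

/-- A weight zero bead vector is pushed down. -/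
theorem core_eq_self {b : Fin N → ℕ} (hb : Function.Injective b)
    (hw : Runner.weight p b = 0) : Runner.core p b = b := by
  funext i
  rw [Runner.weight, Finset.sum_eq_zero_iff] at hw
  have h0 := hw i (Finset.mem_univ i)
  have hr := Runner.rank_le (p := p) hb i
  rw [Runner.core, show Runner.rank p b i = b i / p by omega, Nat.mod_add_div]

theorem countClass_eq_singleton [Fact p.Prime] (hN : n ≤ N) {β₀ : St N n}
    (hw : Runner.weight p (natBead β₀) = 0) : countClass hN p β₀ = {stEquiv hN β₀} := by
  classical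
  have hp : 0 < p := (Fact.out : p.Prime).pos
  refine Set.Subset.antisymm ?_ (Set.singleton_subset_iff.mpr
    ((mem_countClass hN).mpr (sameRes_refl p _)))
  rintro _ ⟨β, hβ, rfl⟩
  rw [Set.mem_singleton_iff, (stEquiv hN).injective.eq_iff]
  have hcnt := (sameRes_iff_sameCnt β β₀).mp hβ
  have hw' : Runner.weight p (natBead β) = 0 := by
    rw [Runner.weight_eq hp (natBead_injective β) (natBead_injective β₀) hcnt
      (by rw [sum_natBead, sum_natBead]), hw]
  have himg := Runner.image_core_eq hp (natBead_injective β) (natBead_injective β₀) hcnt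
  rw [core_eq_self (natBead_injective β) hw', core_eq_self (natBead_injective β₀) hw] at himg
  have hrange : Set.range (natBead β) = Set.range (natBead β₀) := by
    simpa using congrArg (fun s : Finset ℕ => (s : Set ℕ)) himg
  have heq := (natBead_strictMono β).range_inj (natBead_strictMono β₀) |>.mp hrange
  refine Subtype.ext (funext fun i => ?_)
  rw [← natBead_cast β i, ← natBead_cast β₀ i, heq]

theorem defect_eq_bot_of_weight_eq_zero [Fact p.Prime] (hN : n ≤ N) (hM : IsPModular p M)
    {B : Set (IrrCharacter (Perm (Fin n)))} (hB : IsPBlock M B)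
    {D : Subgroup (Perm (Fin n))} (hD : IsDefectGroup p M B D) {β₀ : St N n}
    (h : stEquiv hN β₀ ∈ B) (hw : Runner.weight p (natBead β₀) = 0) : D = ⊥ := by
  have := hM.2.1
  set χ := stEquiv hN β₀ with hχdef
  have hBeq : B = {χ} := Set.Subset.antisymm
    ((block_subset_countClass hN hM hB h).trans (countClass_eq_singleton hN hw).le)
    (Set.singleton_subset_iff.mpr h)
  have hnd := (Cfsg.Agent.S0914.result p M hM χ).mpr (by rw [← isPBlock_eq_blockOf hB h, hBeq])
  obtain ⟨d, hd0, hd⟩ := CfsgLib.Char.isIrrCharacter_degree χ.2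
  have hdeg : charDegree (χ : Perm (Fin n) → ℂ) = d := by simp [charDegree, hd]
  rw [hdeg] at hnd
  obtain ⟨q, hq⟩ := CfsgLib.Char.degree_dvd_card χ hd
  rw [hq, Nat.mul_div_cancel_left _ hd0] at hnd
  have hdef : blockDefect p B = 0 := by
    rw [blockDefect, hBeq, Set.image_singleton, csInf_singleton, hdeg]
    have hq0 : q ≠ 0 := fun h0 => hnd (h0 ▸ dvd_zero p)
    rw [hq, Nat.factorization_mul hd0.ne' hq0, Finsupp.add_apply,
      Nat.factorization_eq_zero_of_not_dvd hnd, add_zero, Nat.sub_self]
  exact Subgroup.card_eq_one.mp (by rw [defectGroup_card hM hB hD, hdef, pow_zero])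

end CfsgLib.SymBlock
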