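import Cfsg.Agent.Lib.SymBlock.Char
import Cfsg.Agent.Lib.SymBlock.Runner
import Cfsg.Prelude.Def_BlockRank

/-!
# Beads as natural numbers, and a product of `w` cycles where a character does not vanish

* `exists_perm_chi_ne_zero` : a character of weight `w` does not vanish at some product of `w`
  cycles of length `p`.
* `finrank_regular_span_lt` : the regular parts of the characters with the same counts span a
  space of dimension less than `p ^ w`.
-/

open Equiv Finset

namespace CfsgLib.SymBlock

variable {N n p : ℕ}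

/-- Natural bead positions as integers. -/
def intBead (b : Fin N → ℕ) : Fin N → ℤ := fun i => (b i : ℤ)

/-- Distinct beads have at least the sum of the first `N` positions. -/
theorem sum_fin_le_of_injective {b : Fin N → ℕ} (hb : Function.Injective b) :
    ∑ i : Fin N, (i : ℕ) ≤ ∑ i, b i := by
  have hmono : StrictMono (b ∘ Tuple.sort b) :=
    (Tuple.monotone_sort b).strictMono_of_injective (hb.comp (Tuple.sort b).injective)
  rw [← Equiv.sum_comp (Tuple.sort b) b]
  refine Finset.sum_le_sum fun i _ => ?_
  have := Finset.card_le_card_of_injOn (s := Finset.Iio i) (t := Finset.range ((b ∘ Tuple.sort b) i))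
    (b ∘ Tuple.sort b) (fun j hj => by
      simpa using hmono (Finset.mem_Iio.mp (Finset.mem_coe.mp hj)))
    hmono.injective.injOn
  simpa using this

/-- The number of points of `w` cycles of length `p` and `n₀` fixed points. -/
def cycleSize (n₀ p : ℕ) : ℕ → ℕ
  | 0 => n₀
  | k + 1 => cycleSize n₀ p k + p

theorem cycleSize_eq (n₀ p : ℕ) : ∀ k, cycleSize n₀ p k = n₀ + p * k
  | 0 => rfl
  | k + 1 => by rw [cycleSize, cycleSize_eq n₀ p k, mul_add, mul_one, add_assoc]

/-- A product of `k` cycles of length `p`. -/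
def cyclePerm (n₀ p : ℕ) : (k : ℕ) → Perm (Fin (cycleSize n₀ p k))
  | 0 => 1
  | k + 1 => join (cyclePerm n₀ p k) p

theorem join_pow {m r : ℕ} (h : Perm (Fin m)) (k : ℕ) :
    join h r ^ k = finSumFinEquiv.permCongr (Equiv.sumCongr (h ^ k) (finRotate r ^ k)) := by
  induction k with
  | zero => simp [Perm.one_def, Equiv.sumCongr_refl]
  | succ k ih =>
    rw [pow_succ, ih, join, Equiv.Perm.ext_iff]
    intro x
    obtain ⟨y, rfl⟩ := finSumFinEquiv.surjective x
    rcases y with a | b <;> simp [pow_succ]

theorem cyclePerm_spec (hp : p.Prime) (n₀ : ℕ) : ∀ k,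
    cyclePerm n₀ p k ^ p = 1 ∧ (cyclePerm n₀ p k).support.card = p * k
  | 0 => ⟨one_pow p, by simp [cyclePerm]⟩
  | k + 1 => by
    obtain ⟨h1, h2⟩ := cyclePerm_spec hp n₀ k
    have hrot : finRotate p ^ p = 1 := by
      obtain ⟨q, hq⟩ : ∃ q, p = q + 2 := ⟨p - 2, by have := hp.two_le; omega⟩
      subst hq
      have := pow_orderOf_eq_one (finRotate (q + 2))
      rwa [isCycle_finRotate.orderOf, support_finRotate, Finset.card_univ, Fintype.card_fin] at this
    refine ⟨?_, ?_⟩
    · show join (cyclePerm n₀ p k) p ^ p = 1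
      rw [join_pow, h1, hrot]
      simp [Perm.one_def, Equiv.sumCongr_refl]
    · show (join (cyclePerm n₀ p k) p).support.card = p * (k + 1)
      have hs : (join (cyclePerm n₀ p k) p).support =
          ((cyclePerm n₀ p k).support.disjSum Finset.univ).map finSumFinEquiv.toEmbedding := by
        ext x
        obtain ⟨y, rfl⟩ := finSumFinEquiv.surjective x
        rw [Finset.mem_map_equiv, Equiv.symm_apply_apply, Perm.mem_support, join]
        have hne : ∀ b : Fin p, finRotate p b ≠ b := by
          obtain ⟨q, hq⟩ : ∃ q, p = q + 2 := ⟨p - 2, by have := hp.two_le; omega⟩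
          subst hq
          intro b
          exact Perm.mem_support.mp (by rw [support_finRotate]; exact Finset.mem_univ b)
        rcases y with a | b
        · simp
        · simpa using hne b
      rw [hs, Finset.card_map, Finset.card_disjSum, h2, Finset.card_univ, Fintype.card_fin, mul_add,
        mul_one]

theorem chi_intBead_eq_zero {α : Type*} (g : Perm α) {b : Fin N → ℕ} (hb : ¬ Function.Injective b) :
    chi g (intBead b) = 0 := by
  simp only [Function.Injective, not_forall] at hb
  obtain ⟨i, j, hij, hne⟩ := hb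
  exact chi_eq_zero_of_eq g _ hne (congrArg (Nat.cast : ℕ → ℤ) hij)

/-- A character of weight `w` does not vanish at some product of `w` cycles of length `p`. -/
theorem exists_perm_chi_ne_zero (hp : p.Prime) (b : Fin N → ℕ) (hb : Function.Injective b)
    (hsum : ∑ i, b i = n + ∑ i : Fin N, (i : ℕ)) :
    ∃ x : Perm (Fin n), x ^ p = 1 ∧ x.support.card = p * Runner.weight p b ∧
      chi x (intBead b) ≠ 0 := by
  set w := Runner.weight p b
  have hcinj := Runner.core_injective hp.pos hb
  obtain ⟨n₀, hn₀⟩ : ∃ n₀, ∑ i, Runner.core p b i = n₀ + ∑ i : Fin N, (i : ℕ) :=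
    ⟨_, (Nat.sub_add_cancel (sum_fin_le_of_injective hcinj)).symm⟩
  have hn : n = cycleSize n₀ p w := by
    have : ∑ i, b i = ∑ i, Runner.core p b i + p * w := Runner.sum_eq (p := p) hb
    rw [cycleSize_eq]
    omega
  subst hn
  refine ⟨cyclePerm n₀ p w, (cyclePerm_spec hp n₀ w).1, (cyclePerm_spec hp n₀ w).2, ?_⟩
  refine Runner.eval_ne_zero (K := ℤ) hp.pos (fun k c => chi (cyclePerm n₀ p k) (intBead c)) b hb
    (fun k c hc => chi_intBead_eq_zero _ hc) (fun k _ c _ _ => ?_) ?_
  · show chi (join (cyclePerm n₀ p k) p) (intBead c) = _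
    rw [chi_join _ hp.pos]
    refine Finset.sum_congr rfl fun i _ => ?_
    split_ifs with hi
    · congr 1
      funext j
      rcases eq_or_ne j i with rfl | hj
      · simp [intBead, Nat.cast_sub hi]
      · simp [intBead, Pi.single_eq_of_ne hj]
    · refine chi_eq_zero_of_neg _ _ (i := i) ?_
      simp [intBead]
      omega
  · show chi (1 : Perm (Fin n₀)) (intBead (Runner.core p b)) ≠ 0
    set τ := Tuple.sort (intBead (Runner.core p b))
    have hst : IsState n₀ (intBead (Runner.core p b) ∘ τ) := by
      refine ⟨(Tuple.monotone_sort _).strictMono_of_injective ?_, fun i => Int.natCast_nonneg _, ?_⟩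
      · exact (Nat.cast_injective.comp hcinj).comp τ.injective
      · rw [show ∑ i, (intBead (Runner.core p b) ∘ τ) i = ∑ i, intBead (Runner.core p b) i from
          Equiv.sum_comp τ _]
        simp only [intBead]
        exact_mod_cast hn₀
    intro h0
    refine chi_one_ne ⟨_, hst⟩ ?_
    show chi _ (intBead (Runner.core p b) ∘ τ) = 0
    rw [chi_comp, h0, mul_zero]

/-- The regular part of the virtual character of a bead vector. -/
noncomputable def regVec (n p : ℕ) (b : Fin N → ℕ) : Perm (Fin n) → ℂ :=
  Cfsg.pRegularPart p fun g => (chi g (intBead b) : ℂ)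

theorem regVec_eq_zero {b : Fin N → ℕ} (hb : ¬ Function.Injective b) : regVec n p b = 0 := by
  funext g
  simp [regVec, Cfsg.pRegularPart, chi_intBead_eq_zero g hb]

theorem regVec_comp_mem (b : Fin N → ℕ) (σ : Perm (Fin N)) :
    regVec n p (b ∘ σ) ∈ Submodule.span ℂ {regVec n p b} := by
  refine Submodule.mem_span_singleton.mpr ⟨((Perm.sign σ : ℤ) : ℂ), ?_⟩
  funext g
  simp only [regVec, Cfsg.pRegularPart, Pi.smul_apply, smul_eq_mul, mul_ite, mul_zero]
  split_ifs
  · rw [show intBead (b ∘ σ) = intBead b ∘ σ from rfl, chi_comp, Int.cast_mul]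
  · rfl

/-- The sum over all beads of the moves by a multiple of `p` has no regular part. -/
theorem regVec_sum_single (hp : p.Prime) (hN : n ≤ N) (b₀ : Fin N → ℕ)
    (hsum : ∑ i, b₀ i = n + ∑ i : Fin N, (i : ℕ)) (d : Fin N → ℕ) (m : ℕ) (hm : 0 < m)
    (hd : ∑ i, d i + p * m = ∑ i, b₀ i) :
    ∑ i, regVec n p (d + Pi.single i (p * m)) = 0 := by
  classical
  funext g
  simp only [regVec, Cfsg.pRegularPart, Finset.sum_apply, Pi.zero_apply]
  split_ifs with hg
  swap
  · exact Finset.sum_const_zero
  rw [← Int.cast_sum, Int.cast_eq_zero]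
  have hcast : ∀ i, intBead (d + Pi.single i (p * m)) =
      intBead d + Pi.single i ((p * m : ℕ) : ℤ) := by
    intro i
    funext j
    rcases eq_or_ne j i with rfl | hj
    · simp [intBead]
    · simp [intBead, Pi.single_eq_of_ne hj]
  simp only [hcast]
  by_cases hle : p * m ≤ n
  · refine phi_eq_zero hN (Nat.mul_pos hp.pos hm) (Nat.sub_add_cancel hle) g (fun x hx => hg ?_)
      ⟨fun i => Int.natCast_nonneg _, ?_⟩
    · exact (dvd_mul_right p m).trans (hx ▸ cycLen_dvd_orderOf g x)
    · simp only [intBead]
      rw [show ∑ i : Fin N, ((i : ℕ) : ℤ) = ((∑ i : Fin N, (i : ℕ) : ℕ) : ℤ) by push_cast; rfl,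
        ← Nat.cast_sum, ← Nat.cast_add]
      congr 1
      omega
  · -- too few points: the vector has a repeated entry
    have hni : ¬ Function.Injective d := fun h => by
      have := sum_fin_le_of_injective h
      omega
    simp only [Function.Injective, not_forall] at hni
    obtain ⟨i, j, hij, hne⟩ := hni
    rw [Finset.sum_eq_add i j hne (fun k _ hk => ?_) (by simp) (by simp)]
    · rw [show intBead d + Pi.single i ((p * m : ℕ) : ℤ) =
          (intBead d + Pi.single j ((p * m : ℕ) : ℤ)) ∘ Equiv.swap i j from ?_, chi_comp,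
        Perm.sign_swap hne]
      · push_cast
        ring
      · funext k
        rcases eq_or_ne k i with rfl | hki
        · simp [intBead, hij, Pi.single_eq_of_ne hne, hne]
        rcases eq_or_ne k j with rfl | hkj
        · simp [intBead, hij, hki, Pi.single_eq_of_ne hne]
        · simp [Equiv.swap_apply_of_ne_of_ne hki hkj, Pi.single_eq_of_ne hki, Pi.single_eq_of_ne hkj]
    · refine chi_eq_zero_of_eq g _ hne ?_
      simp [intBead, hij, Pi.single_eq_of_ne hk.1.symm, Pi.single_eq_of_ne hk.2.symm]

/-- The regular parts with the same counts span less than `p ^ w` dimensions. -/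
theorem finrank_regular_span_lt (hp : p.Prime) (hN : n ≤ N) (b₀ : Fin N → ℕ)
    (hb₀ : Function.Injective b₀) (hsum : ∑ i, b₀ i = n + ∑ i : Fin N, (i : ℕ))
    (hw : 0 < Runner.weight p b₀) :
    Module.finrank ℂ (Submodule.span ℂ (regVec n p ''
      {b | Function.Injective b ∧ Runner.SameCnt p b b₀ ∧ ∑ i, b i = ∑ i, b₀ i})) <
      p ^ Runner.weight p b₀ := by
  classical
  exact Runner.finrank_span_lt hp.pos (regVec n p) (fun b hb => regVec_eq_zero hb) regVec_comp_mem
    b₀ hb₀ hw (regVec_sum_single hp hN b₀ hsum)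

end CfsgLib.SymBlock
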