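import Cfsg.Agent.Lib.SymBlock.Char
import Cfsg.Agent.Lib.SymBlock.AltBound
import Cfsg.Agent.Lib.SymBlock.Witness
import Mathlib.GroupTheory.Perm.Fin

/-!
# Characters at reflected beads

`chi_star` : the character of the reflected complement is the sign times the character.
-/

set_option autoImplicit false

open Equiv Finset

namespace CfsgLib.SymBlock

variable {N n m r : ℕ}

/-- The cycle structure of a joined permutation. -/
theorem cycleType_join (h : Perm (Fin m)) (r : ℕ) :
    (join h r).cycleType = h.cycleType + (finRotate r).cycleType := by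
  classical
  let f₁ : Fin m ≃ {x : Fin (m + r) // (x : ℕ) < m} :=
    { toFun := fun a => ⟨Fin.castAdd r a, a.2⟩
      invFun := fun x => ⟨x.1, x.2⟩
      left_inv := fun a => rfl
      right_inv := fun x => rfl }
  let f₂ : Fin r ≃ {x : Fin (m + r) // m ≤ (x : ℕ)} :=
    { toFun := fun a => ⟨Fin.natAdd m a, Nat.le_add_right m a⟩
      invFun := fun x => ⟨x.1 - m, by have h1 := x.1.2; have h2 := x.2; omega⟩
      left_inv := fun a => Fin.ext (by simp)
      right_inv := fun x => Subtype.ext (Fin.ext (by have := x.2; simp; omega)) }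
  have hj : join h r = h.extendDomain f₁ * (finRotate r).extendDomain f₂ := by
    refine Equiv.ext fun x => ?_
    refine Fin.addCases (fun a => ?_) (fun a => ?_) x
    · rw [Perm.mul_apply, Perm.extendDomain_apply_not_subtype _ f₂ (by simp),
        show Fin.castAdd r a = ((f₁ a : {x : Fin (m + r) // (x : ℕ) < m}) : Fin (m + r)) from rfl,
        Perm.extendDomain_apply_image]
      simp [join, f₁]
    · rw [Perm.mul_apply,
        show Fin.natAdd m a = ((f₂ a : {x : Fin (m + r) // m ≤ (x : ℕ)}) : Fin (m + r)) from rfl,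
        Perm.extendDomain_apply_image, Perm.extendDomain_apply_not_subtype _ f₁ (by simp [f₂])]
      simp [join, f₂]
  have hd : Perm.Disjoint (h.extendDomain f₁) ((finRotate r).extendDomain f₂) := fun x => by
    by_cases hx : (x : ℕ) < m
    · exact Or.inr (Perm.extendDomain_apply_not_subtype _ f₂ (by omega))
    · exact Or.inl (Perm.extendDomain_apply_not_subtype _ f₁ hx)
  rw [hj, hd.cycleType_mul, Perm.cycleType_extendDomain, Perm.cycleType_extendDomain]

theorem sign_join (h : Perm (Fin m)) (r : ℕ) :
    Perm.sign (join h r) = Perm.sign h * (-1) ^ (r - 1) := by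
  rw [join, Perm.sign_permCongr, Perm.sign_sumCongr, sign_finRotate]

/-- Every permutation is conjugate to a joined one. -/
theorem exists_join (hn : 0 < n) (g : Perm (Fin n)) :
    ∃ (m r : ℕ) (e : m + r = n) (h : Perm (Fin m)), 0 < r ∧
      ∃ c, g = c * (finCongr e).permCongr (join h r) * c⁻¹ := by
  classical
  by_cases hg : g = 1
  · refine ⟨n - 1, 1, by omega, 1, one_pos, 1, ?_⟩
    subst hg
    rw [one_mul, inv_one, mul_one]
    refine Equiv.ext fun x => ?_
    have hj : join (1 : Perm (Fin (n - 1))) 1 = 1 :=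
      Perm.cycleType_eq_zero.1 (by rw [cycleType_join, Perm.cycleType_one,
        show finRotate 1 = 1 from Subsingleton.elim _ _, Perm.cycleType_one, add_zero])
    simp [hj]
  obtain ⟨r, hr⟩ := Multiset.exists_mem_of_ne_zero (mt Perm.cycleType_eq_zero.1 hg)
  have hr2 := Perm.two_le_of_mem_cycleType hr
  have hsum := Multiset.sum_erase hr
  have hle : g.cycleType.sum ≤ n := by
    rw [Perm.sum_cycleType]; exact (card_le_univ _).trans (le_of_eq (Fintype.card_fin n))
  obtain ⟨h, hh⟩ := (Perm.exists_with_cycleType_iff (α := Fin (n - r)) (m := g.cycleType.erase r)).2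
    ⟨by rw [Fintype.card_fin]; omega, fun a ha =>
      Perm.two_le_of_mem_cycleType (Multiset.mem_of_mem_erase ha)⟩
  have e : n - r + r = n := Nat.sub_add_cancel (by omega)
  refine ⟨n - r, r, e, h, by omega, ?_⟩
  have hct : ∀ {a b : ℕ} (e : a = b) (σ : Perm (Fin a)),
      ((finCongr e).permCongr σ).cycleType = σ.cycleType := by
    rintro a b rfl σ
    congr 1
  have hconj : IsConj ((finCongr e).permCongr (join h r)) g := by
    rw [Perm.isConj_iff_cycleType_eq, hct, cycleType_join, hh]
    obtain ⟨q, rfl⟩ : ∃ q, r = q + 2 := ⟨r - 2, by omega⟩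
    rw [cycleType_finRotate, add_comm, Multiset.singleton_add, Multiset.cons_erase hr]
  obtain ⟨c, hc⟩ := isConj_iff.1 hconj
  exact ⟨c, hc.symm⟩

/-- The character at the increasing listing of a set of beads. -/
noncomputable def setChi (N : ℕ) (g : Perm (Fin n)) (X : Finset ℕ) : ℤ :=
  if hX : #X = N then chi g (intBead (X.orderEmbOfFin hX : Fin N → ℕ)) else 0

theorem setChi_eq (g : Perm (Fin n)) {X : Finset ℕ} (hX : #X = N) :
    setChi N g X = chi g (intBead (X.orderEmbOfFin hX : Fin N → ℕ)) := dif_pos hX

theorem card_below (v : Fin N → ℕ) (hv : StrictMono v) (i : Fin N) :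
    #((univ.image v).filter (· < v i)) = (i : ℕ) := by
  rw [show (univ.image v).filter (· < v i) = (Iio i).image v by
    ext x
    simp only [mem_filter, mem_image, mem_univ, true_and, mem_Iio]
    constructor
    · rintro ⟨⟨j, rfl⟩, hj⟩
      exact ⟨j, hv.lt_iff_lt.1 hj, rfl⟩
    · rintro ⟨j, hj, rfl⟩
      exact ⟨⟨j, rfl⟩, hv hj⟩, card_image_of_injective _ hv.injective, Fin.card_Iio]

/-- Replacing a bead by a lower one. -/
theorem chi_update (g : Perm (Fin n)) {X : Finset ℕ} (hX : #X = N) {i : Fin N} {y : ℕ} (hy : y ∉ X)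
    (hyi : y < X.orderEmbOfFin hX i) :
    chi g (intBead (Function.update (X.orderEmbOfFin hX : Fin N → ℕ) i y)) =
      (-1) ^ #(X.filter fun z => y < z ∧ z < X.orderEmbOfFin hX i) *
        setChi N g (insert y (X.erase (X.orderEmbOfFin hX i))) := by
  obtain ⟨K, rfl⟩ : ∃ K, N = K + 1 := ⟨N - 1, by have := i.2; omega⟩
  set v : Fin (K + 1) → ℕ := ⇑(X.orderEmbOfFin hX) with hv
  set Y := insert y (X.erase (v i)) with hY
  have hvm : StrictMono v := (X.orderEmbOfFin hX).strictMono
  have hvX : univ.image v = X := image_orderEmbOfFin_univ X hX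
  have hviX : v i ∈ X := orderEmbOfFin_mem X hX i
  have hYc : #Y = K + 1 := by
    rw [hY, card_insert_of_notMem (by simp [hy]), card_erase_add_one hviX, hX]
  set w : Fin (K + 1) → ℕ := ⇑(Y.orderEmbOfFin hYc) with hw
  have hwm : StrictMono w := (Y.orderEmbOfFin hYc).strictMono
  have hwY : univ.image w = Y := image_orderEmbOfFin_univ Y hYc
  obtain ⟨i', -, hi'⟩ : ∃ i', i' ∈ univ ∧ w i' = y := by
    rw [← mem_image, hwY, hY]; exact mem_insert_self _ _
  have hcard : #(X.erase (v i)) = K := by rw [card_erase_of_mem hviX, hX]; rfl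
  have h1 : ∀ (u : Fin (K + 1) → ℕ) (j : Fin (K + 1)) (Z : Finset ℕ), StrictMono u →
      univ.image u = Z → Z.erase (u j) = X.erase (v i) →
      Fin.removeNth j u = ((X.erase (v i)).orderEmbOfFin hcard : Fin K → ℕ) := by
    intro u j Z hu hZ he
    refine orderEmbOfFin_unique hcard (fun k => ?_) (hu.comp (Fin.strictMono_succAbove j))
    rw [← he, mem_erase, ← hZ]
    exact ⟨fun e => Fin.succAbove_ne j k (hu.injective e), mem_image_of_mem _ (mem_univ _)⟩
  have hrem : Fin.removeNth i v = Fin.removeNth i' w := by
    rw [h1 v i X hvm hvX rfl, h1 w i' Y hwm hwY]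
    rw [hi', hY, erase_insert (by simp [hy])]
  have hsgn : ∀ (j : Fin (K + 1)) (u : Fin K → ℕ), chi g (intBead (Fin.insertNth j y u)) =
      (-1) ^ (j : ℕ) * chi g (intBead (Fin.cons y u)) := by
    intro j u
    have he : intBead (Fin.insertNth j y u) = intBead (Fin.cons y u) ∘ Fin.cycleRange j := by
      funext k
      refine Fin.succAboveCases j ?_ (fun a => ?_) k
      · simp [intBead, Fin.cycleRange_self]
      · simp [intBead, Fin.cycleRange_succAbove]
    rw [he, chi_comp, Fin.sign_cycleRange]
    push_cast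
    rfl
  rw [setChi_eq g hYc, ← Fin.insertNth_removeNth i y v, hrem, hsgn, ← hw,
    show w = Fin.insertNth i' y (Fin.removeNth i' w) by rw [← hi', Fin.insertNth_self_removeNth], hsgn,
    Fin.removeNth_insertNth, ← mul_assoc, ← pow_add]
  -- the parity of the positions
  have hc1 := card_below v hvm i
  have hc2 := card_below w hwm i'
  rw [hvX] at hc1
  rw [hwY, hi', hY, filter_insert, if_neg (lt_irrefl y), filter_erase,
    erase_eq_of_notMem (by simp [Nat.not_lt.2 hyi.le])] at hc2
  have hsplit : #(X.filter (· < v i)) = #(X.filter (· < y)) + #(X.filter fun z => y < z ∧ z < v i) := by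
    rw [← card_union_of_disjoint (disjoint_filter.2 fun z _ h1 h2 => by omega), ← filter_or]
    refine congrArg card (filter_congr fun z hz => ?_)
    have : z ≠ y := fun e => hy (e ▸ hz)
    omega
  congr 1
  rw [show (i : ℕ) = #(X.filter fun z => y < z ∧ z < v i) + (i' : ℕ) by omega]

/-- The branching rule for sets of beads. -/
theorem setChi_join (h : Perm (Fin m)) (hr : 0 < r) {X : Finset ℕ} (hX : #X = N) :
    setChi N (join h r) X = ∑ x ∈ X.filter (fun x => r ≤ x ∧ x - r ∉ X),
      (-1) ^ #(X.filter fun z => x - r < z ∧ z < x) * setChi N h (insert (x - r) (X.erase x)) := by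
  have key : ∀ i : Fin N, chi h (intBead (X.orderEmbOfFin hX : Fin N → ℕ) - Pi.single i (r : ℤ)) =
      if r ≤ X.orderEmbOfFin hX i ∧ X.orderEmbOfFin hX i - r ∉ X then
        (-1) ^ #(X.filter fun z => X.orderEmbOfFin hX i - r < z ∧ z < X.orderEmbOfFin hX i) *
          setChi N h (insert (X.orderEmbOfFin hX i - r) (X.erase (X.orderEmbOfFin hX i))) else 0 := by
    intro i
    by_cases hi : r ≤ X.orderEmbOfFin hX i
    · have he : intBead (X.orderEmbOfFin hX : Fin N → ℕ) - Pi.single i (r : ℤ) =
          intBead (Function.update (X.orderEmbOfFin hX : Fin N → ℕ) i (X.orderEmbOfFin hX i - r)) := by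
        funext k
        rcases eq_or_ne k i with rfl | hk
        · simp [intBead, Nat.cast_sub hi]
        · simp [intBead, Function.update_of_ne hk, Pi.single_eq_of_ne hk]
      rw [he]
      by_cases hmem : X.orderEmbOfFin hX i - r ∈ X
      · rw [if_neg (fun h => h.2 hmem)]
        refine chi_intBead_eq_zero h fun hinj => ?_
        obtain ⟨j, -, hj⟩ := mem_image.1 (by rw [image_orderEmbOfFin_univ X hX]; exact hmem :
          X.orderEmbOfFin hX i - r ∈ univ.image (X.orderEmbOfFin hX))
        have hji : j ≠ i := fun e => by rw [e] at hj; omega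
        refine hji (hinj ?_)
        rw [Function.update_of_ne hji, Function.update_self, hj]
      · rw [if_pos ⟨hi, hmem⟩, chi_update h hX hmem (by omega)]
    · rw [if_neg fun h => hi h.1]
      refine chi_eq_zero_of_neg _ _ (i := i) ?_
      simp [intBead]
      omega
  rw [setChi_eq _ hX, chi_join h hr, sum_congr rfl fun i _ => key i, sum_filter]
  conv_rhs => arg 1; rw [← image_orderEmbOfFin_univ X hX]
  rw [sum_image fun a _ b _ e => (X.orderEmbOfFin hX).injective e]

theorem eq_range_of_sum {X : Finset ℕ} (hX : #X = N) (hs : ∑ x ∈ X, x = ∑ x ∈ range N, x) :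
    X = range N := by
  have hle : ∀ i : Fin N, (i : ℕ) ≤ X.orderEmbOfFin hX i := fun i => by
    rw [← card_below _ (X.orderEmbOfFin hX).strictMono i, image_orderEmbOfFin_univ X hX]
    exact (card_le_card fun z hz => mem_range.2 (mem_filter.1 hz).2).trans (le_of_eq (card_range _))
  rw [← image_orderEmbOfFin_univ X hX, sum_image fun a _ b _ e => (X.orderEmbOfFin hX).injective e,
    ← Fin.sum_univ_eq_sum_range (fun x => x) N] at hs
  have heq := (sum_eq_sum_iff_of_le fun i _ => hle i).1 hs.symm
  rw [← image_orderEmbOfFin_univ X hX]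
  ext x
  simp only [mem_image, mem_univ, true_and, mem_range]
  exact ⟨fun ⟨i, e⟩ => e ▸ heq i (mem_univ _) ▸ i.2, fun hx => ⟨⟨x, hx⟩, (heq _ (mem_univ _)).symm⟩⟩

/-- The character of the reflected complement. -/
theorem setChi_star : ∀ (n : ℕ) (g : Perm (Fin n)) (X : Finset ℕ), #X = N → X ⊆ range (2 * N) →
    ∑ x ∈ X, x = n + ∑ x ∈ range N, x →
    setChi N g (Runner.star N X) = Perm.sign g * setChi N g X := by
  intro n
  induction n using Nat.strong_induction_on with
  | _ n ih =>
  intro g X hX hsub hsum
  rcases Nat.eq_zero_or_pos n with rfl | hn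
  · obtain rfl : X = range N := eq_range_of_sum hX (by omega)
    rw [show g = 1 from Subsingleton.elim _ _, map_one, Units.val_one, one_mul,
      show Runner.star N (range N) = range N by
        ext x; simp only [Runner.mem_star, mem_range]; omega]
  obtain ⟨m, r, e, h, hr, c, hc⟩ := exists_join hn g
  subst e
  have hg : g = c * join h r * c⁻¹ := by
    rw [hc]; congr 2
  subst hg
  have hsc : ∀ Z, setChi N (c * join h r * c⁻¹) Z = setChi N (join h r) Z := fun Z => by
    simp only [setChi, chi_conj]
  have hsgn : Perm.sign (c * join h r * c⁻¹) = Perm.sign h * (-1) ^ (r - 1) := by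
    rw [map_mul, map_mul, map_inv, mul_comm, inv_mul_cancel_left, sign_join]
  have hcY : #(Runner.star N X) = N := by have := Runner.card_star hsub; omega
  rw [hsc, hsc, hsgn, setChi_join h hr hX, setChi_join h hr hcY, mul_sum]
  refine sum_nbij' (fun x' => 2 * N - 1 - (x' - r)) (fun x => 2 * N - 1 - (x - r)) ?_ ?_ ?_ ?_ ?_
  · intro x' hx'
    simp only [mem_coe, mem_filter, Runner.mem_star, not_and, not_not] at hx' ⊢
    obtain ⟨⟨h1, h2⟩, h3, h4⟩ := hx'
    exact ⟨h4 (by omega), by omega, by rwa [show 2 * N - 1 - (x' - r) - r = 2 * N - 1 - x' by omega]⟩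
  · intro x hx
    simp only [mem_coe, mem_filter, Runner.mem_star, not_and, not_not] at hx ⊢
    obtain ⟨h1, h2, h3⟩ := hx
    have h4 := mem_range.1 (hsub h1)
    refine ⟨⟨by omega, by rwa [show 2 * N - 1 - (2 * N - 1 - (x - r)) = x - r by omega]⟩, by omega,
      fun _ => ?_⟩
    rwa [show 2 * N - 1 - (2 * N - 1 - (x - r) - r) = x by omega]
  · intro x' hx'
    simp only [mem_coe, mem_filter, Runner.mem_star] at hx' ⊢
    omega
  · intro x hx
    simp only [mem_coe, mem_filter] at hx ⊢
    have := mem_range.1 (hsub hx.1)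
    omega
  · intro x' hx'
    simp only [mem_filter, Runner.mem_star, not_and, not_not] at hx'
    obtain ⟨⟨h1, h2⟩, h3, h4⟩ := hx'
    set x := 2 * N - 1 - (x' - r) with hx
    have hxX : x ∈ X := h4 (by omega)
    have hxr : x - r = 2 * N - 1 - x' := by omega
    set Z := insert (x - r) (X.erase x) with hZ
    have hxrX : x - r ∉ X := by rw [hxr]; exact h2
    have hZc : #Z = N := by rw [hZ, card_insert_of_notMem (by simp [hxrX]), card_erase_add_one hxX, hX]
    have hZsub : Z ⊆ range (2 * N) := insert_subset (mem_range.2 (by omega))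
      ((erase_subset _ _).trans hsub)
    have hZsum : ∑ z ∈ Z, z = m + ∑ z ∈ range N, z := by
      have := Runner.sum_move (X := X) (g := x - r) hxrX hxX
      rw [← hZ] at this
      omega
    have hstar : Runner.star N Z = insert (x' - r) ((Runner.star N X).erase x') := by
      ext z
      simp only [hZ, Runner.mem_star, mem_insert, mem_erase]
      by_cases hz : z < 2 * N
      · simp only [hz, true_and]
        constructor
        · intro hno
          rcases eq_or_ne z (x' - r) with e | e
          · exact Or.inl e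
          · refine Or.inr ⟨?_, fun hm => hno (Or.inr ⟨by omega, hm⟩)⟩
            rintro rfl
            exact hno (Or.inl (by omega))
        · rintro (rfl | ⟨hne, hm⟩) (e | ⟨hne', hm'⟩)
          · omega
          · omega
          · omega
          · exact hm hm'
      · constructor
        · rintro ⟨h', -⟩; exact absurd h' hz
        · rintro (rfl | ⟨-, h', -⟩) <;> omega
    have hcount : #((Runner.star N X).filter fun z => x' - r < z ∧ z < x') +
        #(X.filter fun z => x - r < z ∧ z < x) = r - 1 := by
      rw [← show #(Ioo (x' - r) x') = r - 1 by rw [Nat.card_Ioo]; omega,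
        ← card_filter_add_card_filter_not (s := Ioo (x' - r) x') (fun z => 2 * N - 1 - z ∉ X)]
      congr 1
      · refine congrArg card (Finset.ext fun z => ?_)
        simp only [mem_filter, mem_Ioo, Runner.mem_star]
        exact ⟨fun hz => ⟨hz.2, hz.1.2⟩, fun hz => ⟨⟨by omega, hz.2⟩, hz.1⟩⟩
      · refine card_nbij' (fun z => 2 * N - 1 - z) (fun z => 2 * N - 1 - z) ?_ ?_ ?_ ?_
        · intro z hz
          simp only [mem_coe, mem_filter, mem_Ioo, not_not] at hz ⊢
          have := mem_range.1 (hsub hz.1)
          exact ⟨⟨by omega, by omega⟩, by rw [show 2 * N - 1 - (2 * N - 1 - z) = z by omega]; exact hz.1⟩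
        · intro z hz
          simp only [mem_coe, mem_filter, mem_Ioo, not_not] at hz ⊢
          exact ⟨hz.2, by omega, by omega⟩
        · intro z hz
          simp only [mem_coe, mem_filter] at hz ⊢
          have := mem_range.1 (hsub hz.1)
          omega
        · intro z hz
          simp only [mem_coe, mem_filter, mem_Ioo] at hz ⊢
          omega
    rw [← hstar, ih m (by omega) h Z hZc hZsub hZsum]
    rw [← hcount, Units.val_mul, Units.val_pow_eq_pow_val, Units.val_neg, Units.val_one, pow_add]
    have hsq : ((-1 : ℤ) ^ #(X.filter fun z => x - r < z ∧ z < x)) ^ 2 = 1 := by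
      rw [← pow_mul, mul_comm, pow_mul]; simp
    linear_combination (-(Perm.sign h : ℤ) * (-1) ^ #((Runner.star N X).filter fun z => x' - r < z ∧ z < x') *
      setChi N h Z) * hsq

/-- A bead vector is, up to a sign, the increasing listing of its set. -/
theorem exists_sign_setChi {v : Fin N → ℕ} (hv : Function.Injective v) :
    ∃ ε : ℤ, ε * ε = 1 ∧ ∀ g : Perm (Fin n), chi g (intBead v) = ε * setChi N g (univ.image v) := by
  have hc : #(univ.image v) = N := by rw [card_image_of_injective _ hv, card_univ, Fintype.card_fin]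
  obtain ⟨τ, hτ⟩ := Runner.exists_perm ((univ.image v).orderEmbOfFin hc).injective hv
    (image_orderEmbOfFin_univ _ hc)
  refine ⟨(Perm.sign τ : ℤ), by rcases Int.units_eq_one_or (Perm.sign τ) with e | e <;> simp [e],
    fun g => ?_⟩
  rw [setChi_eq g hc, ← chi_comp]
  exact congrArg (fun u => chi g (intBead u)) hτ

theorem setChi_of_strictMono (g : Perm (Fin n)) {v : Fin N → ℕ} (hv : StrictMono v) :
    setChi N g (univ.image v) = chi g (intBead v) := by
  have hc : #(univ.image v) = N := by
    rw [card_image_of_injective _ hv.injective, card_univ, Fintype.card_fin]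
  rw [setChi_eq g hc, ← orderEmbOfFin_unique hc (fun i => mem_image_of_mem _ (mem_univ i)) hv]

/-- Reflected bead vectors give the sign twist. -/
theorem exists_chi_star {β γ : Fin N → ℕ} (hβ : Function.Injective β) (hγ : Function.Injective γ)
    (hsub : univ.image β ⊆ range (2 * N)) (hs : ∑ i, β i = n + ∑ i : Fin N, (i : ℕ))
    (h : univ.image γ = Runner.star N (univ.image β)) :
    ∃ ε : ℤ, ∀ g : Perm (Fin n), chi g (intBead γ) = ε * Perm.sign g * chi g (intBead β) := by
  obtain ⟨a, ha, hA⟩ := exists_sign_setChi (n := n) hβ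
  obtain ⟨b, -, hB⟩ := exists_sign_setChi (n := n) hγ
  refine ⟨b * a, fun g => ?_⟩
  rw [hA, hB, h, setChi_star n g _ (by rw [card_image_of_injective _ hβ, card_univ, Fintype.card_fin]) hsub
    (by rw [sum_image fun x _ y _ e => hβ e, hs, ← Fin.sum_univ_eq_sum_range (fun x => x) N])]
  linear_combination (-(b * (Perm.sign g : ℤ) * setChi N g (univ.image β))) * ha

/-- Reflected states give the sign twist, with sign one. -/
theorem chi_star {β γ : Fin N → ℕ} (hβ : StrictMono β) (hγ : StrictMono γ)
    (hsub : univ.image β ⊆ range (2 * N)) (hs : ∑ i, β i = n + ∑ i : Fin N, (i : ℕ))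
    (h : univ.image γ = Runner.star N (univ.image β)) (g : Perm (Fin n)) :
    chi g (intBead γ) = Perm.sign g * chi g (intBead β) := by
  rw [← setChi_of_strictMono g hγ, ← setChi_of_strictMono g hβ, h,
    setChi_star n g _ (by rw [card_image_of_injective _ hβ.injective, card_univ, Fintype.card_fin]) hsub
      (by rw [sum_image fun x _ y _ e => hβ.injective e, hs, ← Fin.sum_univ_eq_sum_range (fun x => x) N])]

end CfsgLib.SymBlock
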