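import Cfsg.Agent.Lib.SymBlock.AltBound
import Cfsg.Agent.Lib.SymBlock.AltClass
import Cfsg.Agent.Lib.SymBlock.Classes
import Cfsg.Agent.Lib.SymBlock.Conj
import Cfsg.Agent.Lib.SymBlock.Witness

/-!
# The regular rank of a block of an alternating group

`altVec` : the regular part on the alternating group of the character at a bead vector.
`blockRank_alt_lt` : the regular rank of a block covered by a block of weight `w` is less than
`p ^ s` as soon as `s` is at least the predicted rank.
-/

set_option autoImplicit false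

namespace CfsgLib.SymBlock

open Cfsg CfsgLib.Block Equiv Finset

variable {n p : ℕ}

/-- Restriction to the alternating group. -/
noncomputable def resL (n : ℕ) : (Perm (Fin n) → ℂ) →ₗ[ℂ] (alternatingGroup (Fin n) → ℂ) :=
  LinearMap.funLeft ℂ ℂ fun a : alternatingGroup (Fin n) => (a : Perm (Fin n))

/-- The regular part on the alternating group of the character at a bead vector. -/
noncomputable def altVec (n p : ℕ) (b : Fin n → ℕ) : alternatingGroup (Fin n) → ℂ :=
  resL n (regVec n p b)

theorem altVec_apply (b : Fin n → ℕ) (a : alternatingGroup (Fin n)) :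
    altVec n p b a = pRegularPart p (fun g => (chi g (intBead b) : ℂ)) (a : Perm (Fin n)) := rfl

theorem intBead_natBead (β : St n n) : intBead (natBead β) = β.1 := funext (natBead_cast β)

/-- Every bead is below twice the number of beads. -/
theorem bead_lt {β : Fin n → ℕ} (hβ : Function.Injective β)
    (hs : ∑ i, β i = n + ∑ i : Fin n, (i : ℕ)) (i : Fin n) : β i < 2 * n := by
  obtain ⟨K, rfl⟩ : ∃ K, n = K + 1 := ⟨n - 1, by have := i.2; omega⟩
  have h1 := sum_fin_le_of_injective (hβ.comp (Fin.succAbove_right_injective (p := i)))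
  rw [Fin.sum_univ_succAbove _ i, Fin.sum_univ_castSucc (fun j : Fin (K + 1) => (j : ℕ))] at hs
  simp only [Fin.val_castSucc, Fin.val_last, Function.comp_apply] at h1 hs
  omega

theorem range_of_sum {β : Fin n → ℕ} (hβ : Function.Injective β)
    (hs : ∑ i, β i = n + ∑ i : Fin n, (i : ℕ)) : univ.image β ⊆ range (2 * n) := fun x hx => by
  obtain ⟨i, -, rfl⟩ := mem_image.1 hx
  exact mem_range.2 (bead_lt hβ hs i)

theorem altVec_star {β γ : Fin n → ℕ} (hβ : Function.Injective β) (hγ : Function.Injective γ)
    (hs : ∑ i, β i = n + ∑ i : Fin n, (i : ℕ))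
    (h : univ.image γ = Runner.star n (univ.image β)) :
    altVec n p γ ∈ Submodule.span ℂ {altVec n p β} := by
  obtain ⟨ε, hε⟩ := exists_chi_star hβ hγ (range_of_sum hβ hs) hs h
  refine Submodule.mem_span_singleton.2 ⟨(ε : ℂ), funext fun a => ?_⟩
  simp only [Pi.smul_apply, altVec_apply, pRegularPart, smul_eq_mul, hε,
    Equiv.Perm.mem_alternatingGroup.1 a.2, Units.val_one, mul_one, mul_ite, mul_zero, Int.cast_mul]

theorem pRegularPart_resAlt (β : St n n) :
    pRegularPart p (resAlt (stEquiv le_rfl β)) = (eps β : ℂ) • altVec n p (natBead β) := by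
  funext a
  simp only [Pi.smul_apply, altVec_apply, pRegularPart, smul_eq_mul, IsPRegular, Subgroup.orderOf_coe,
    resAlt, irr_eq le_rfl β, intBead_natBead, mul_ite, mul_zero]

/-- A character fixed by the sign twist has a self-conjugate bead set. -/
theorem star_of_twist_fixed {β : St n n} (h : twist (stEquiv le_rfl β) = stEquiv le_rfl β) :
    Runner.star n (univ.image (natBead β)) = univ.image (natBead β) := by
  classical
  set X := univ.image (natBead β) with hX
  have hsub : X ⊆ range (2 * n) := range_of_sum (natBead_injective β) (sum_natBead β)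
  have hXc : #X = n := by
    rw [hX, card_image_of_injective _ (natBead_injective β), card_univ, Fintype.card_fin]
  have hc : #(Runner.star n X) = n := by have := Runner.card_star hsub; omega
  set c : Fin n → ℕ := ⇑((Runner.star n X).orderEmbOfFin hc) with hcdef
  have hcm : StrictMono c := ((Runner.star n X).orderEmbOfFin hc).strictMono
  have hci : univ.image c = Runner.star n X := image_orderEmbOfFin_univ _ hc
  have hcs : ∑ i, c i = n + ∑ i : Fin n, (i : ℕ) := by
    rw [← Runner.sum_image' hcm.injective, hci, Runner.sum_star hsub hXc, hX,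
      Runner.sum_image' (natBead_injective β), sum_natBead]
  have hst : IsState n (intBead c) := by
    refine ⟨fun i j hij => by simpa [intBead] using hcm hij, fun i => Int.natCast_nonneg _, ?_⟩
    simp only [intBead]
    exact_mod_cast hcs
  set γ : St n n := ⟨intBead c, hst⟩ with hγdef
  have hchi : ∀ g : Perm (Fin n), chi g γ.1 = Perm.sign g * chi g β.1 := fun g => by
    rw [← intBead_natBead β]
    exact chi_star (natBead_strictMono β) hcm hsub (sum_natBead β) hci g
  have hdeg : eps γ = eps β := by
    obtain ⟨d, hd, h1⟩ := Char.isIrrCharacter_degree (stEquiv (le_refl n) β).2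
    obtain ⟨d', hd', h2⟩ := Char.isIrrCharacter_degree (stEquiv (le_refl n) γ).2
    rw [irr_eq le_rfl, ← Int.cast_mul, ← Int.cast_natCast, Int.cast_inj] at h1 h2
    rw [hchi 1, map_one, Units.val_one, one_mul] at h2
    rcases eps_sq β with e | e <;> rcases eps_sq γ with e' | e' <;> rw [e] at h1 ⊢ <;> rw [e'] at h2 ⊢ <;>
      omega
  have htw : twist (stEquiv le_rfl β) = stEquiv le_rfl γ := Subtype.ext (funext fun g => by
    rw [twist_apply, irr_eq le_rfl, irr_eq le_rfl, hchi, hdeg, Int.cast_mul]
    ring)
  rw [h] at htw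
  have hb : natBead β = c := by
    rw [(stEquiv le_rfl).injective htw]
    exact funext fun i => Int.toNat_natCast (c i)
  rw [← hci, hX, hb]

/-- The bound on the regular rank. -/
theorem blockRank_alt_lt [Nontrivial (Fin n)] [Fact p.Prime] {M : Ideal AlgInt} [M.IsMaximal]
    (hM : IsPModular p M) {B' : Set (IrrCharacter (Perm (Fin n)))} (hB' : IsPBlock M B')
    {B : Set (IrrCharacter (alternatingGroup (Fin n)))} (hB : IsPBlock M B) (h : Covers B' B)
    {β₀ : St n n} (hmem : stEquiv le_rfl β₀ ∈ B') (hw : 0 < Runner.weight p (natBead β₀))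
    {s : ℕ} (hs1 : 1 ≤ s)
    (hs : (if p = 2 then 2 * (Runner.weight p (natBead β₀) / 2) else Runner.weight p (natBead β₀)) ≤ s) :
    blockRank p B < p ^ s := by
  classical
  haveI : NeZero p := ⟨(Fact.out : p.Prime).ne_zero⟩
  have hp : p.Prime := Fact.out
  set b₀ := natBead β₀
  set S := (Set.toFinite (countClass (le_refl n) p β₀)).toFinset with hS
  set E := altVec n p '' {b | Function.Injective b ∧ Runner.SameCnt p b b₀ ∧ ∑ i, b i = ∑ i, b₀ i} with hE
  have hmemS : ∀ χ ∈ S, ∃ β : St n n, Runner.SameCnt p (natBead β) b₀ ∧ stEquiv le_rfl β = χ := fun χ hχ => by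
    obtain ⟨β, hβ, rfl⟩ := (Set.Finite.mem_toFinset _).1 hχ
    exact ⟨β, (sameRes_iff_sameCnt β β₀).1 hβ, rfl⟩
  have hcls : ∀ β : St n n, Runner.SameCnt p (natBead β) b₀ →
      natBead β ∈ {b : Fin n → ℕ | Function.Injective b ∧ Runner.SameCnt p b b₀ ∧ ∑ i, b i = ∑ i, b₀ i} :=
    fun β hβ => ⟨natBead_injective β, hβ, by rw [sum_natBead, sum_natBead]⟩
  refine lt_of_le_of_lt (blockRank_le_of_constituents p S B (fun θ hθ => ?_) (Submodule.span ℂ E)
    (fun χ hχ => ?_)) (lt_of_le_of_lt ?_ (Runner.alt_bound hp (altVec n p)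
      (fun b hb => by rw [altVec, regVec_eq_zero hb, map_zero]) (fun b σ => ?_) b₀
      (natBead_injective β₀) hw (fun d m hm hd => ?_)
      (fun b hb hsum i => bead_lt hb (hsum.trans (sum_natBead β₀)) i)
      (fun b c hb hc hsum himg => altVec_star hb hc (hsum.trans (sum_natBead β₀)) himg) hs1 hs))
  · obtain ⟨χ, hχ, hc⟩ := exists_mem_of_covers hM hB' hB h hθ
    exact ⟨χ, (Set.Finite.mem_toFinset _).2 (block_subset_countClass le_rfl hM hB' hmem hχ), hc⟩
  · obtain ⟨β, hβ, rfl⟩ := hmemS χ hχ
    rw [pRegularPart_resAlt]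
    exact Submodule.smul_mem _ _ (Submodule.subset_span ⟨_, hcls β hβ, rfl⟩)
  · refine Nat.add_le_add le_rfl (card_le_card_of_injOn
      (fun χ => univ.image (natBead ((stEquiv (le_refl n)).symm χ))) (fun χ hχ => ?_) ?_)
    · obtain ⟨hχS, hfix⟩ := mem_filter.1 hχ
      obtain ⟨β, hβ, rfl⟩ := hmemS χ hχS
      simp only [Equiv.symm_apply_apply, mem_coe]
      refine (Runner.mem_fixedConfigs hp.pos).2 ⟨fun a => ?_, ?_, star_of_twist_fixed hfix⟩
      · rw [Runner.card_filter_image (natBead_injective β),
          Runner.card_filter_image (Runner.core_injective hp.pos (natBead_injective β₀)),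
          Runner.sameCnt_core hp.pos b₀, hβ a]
      · rw [Runner.sum_image' (natBead_injective β), sum_natBead, sum_natBead]
    · intro χ _ χ' _ he
      refine (stEquiv (le_refl n)).symm.injective (Subtype.ext ?_)
      simp only at he
      rw [← intBead_natBead, ← intBead_natBead]
      exact congrArg intBead (((natBead_strictMono _).range_inj (natBead_strictMono _)).1 (by
        simpa [Set.image_univ] using congrArg (fun Z : Finset ℕ => (Z : Set ℕ)) he))
  · have := Submodule.mem_map_of_mem (f := resL n) (regVec_comp_mem (n := n) (p := p) b σ)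
    rwa [Submodule.map_span, Set.image_singleton] at this
  · simp only [altVec]
    rw [← map_sum, regVec_sum_single hp le_rfl b₀ (sum_natBead β₀) d m hm hd, map_zero]

end CfsgLib.SymBlock
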