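import Cfsg.Agent.Lib.SymBlock.Defect
import Cfsg.Agent.Lib.Block.CoveringDefect
import Cfsg.Agent.Lib.Char.InvariantAbove
import Cfsg.Prelude.Def_BlockRank
import Mathlib.GroupTheory.Perm.ViaEmbedding
import Mathlib.GroupTheory.SpecificGroups.Alternating

/-!
# From symmetric to alternating groups

* `sectional_of_injective`, `le_of_elementary` : sectional ranks.
* `exists_even_elementary` : for `p = 2` the defect group contains many commuting even involutions.
* `constituent_eq`, `constituent_mem_span` : constituents of restrictions to the alternating group.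
-/

set_option autoImplicit false
set_option linter.unusedSectionVars false

open scoped ComplexConjugate

namespace CfsgLib.SymBlock

open Cfsg CfsgLib.Block Equiv Equiv.Perm

universe u

/-! ### Sectional ranks -/

theorem sectional_of_injective {H H' : Type*} [Group H] [Group H'] {p k : ℕ} (f : H' →* H)
    (hf : Function.Injective f) (h : SectionalPRankLE p k H) : SectionalPRankLE p k H' := by
  intro K L hL A hA hAp
  let e : K ≃* K.map f := Subgroup.equivMapOfInjective K f hf
  haveI : (L.map e.toMonoidHom).Normal := hL.map _ e.surjective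
  let q : K ⧸ L ≃* (K.map f) ⧸ L.map e.toMonoidHom := QuotientGroup.congr L _ e rfl
  have hcomm : IsMulCommutative (A.map q.toMonoidHom) := ⟨⟨by
    rintro ⟨_, a, ha, rfl⟩ ⟨_, b, hb, rfl⟩
    refine Subtype.ext ?_
    show q a * q b = q b * q a
    rw [← map_mul, ← map_mul]
    exact congrArg q (congrArg Subtype.val (hA.is_comm.comm ⟨a, ha⟩ ⟨b, hb⟩))⟩⟩
  refine le_trans (le_of_eq (Subgroup.card_map_of_injective q.injective).symm)
    (h (K.map f) (L.map e.toMonoidHom) (A.map q.toMonoidHom) hcomm ?_)
  rintro _ ⟨a, ha, rfl⟩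
  rw [← map_pow, hAp a ha, map_one]

theorem le_of_elementary {H E : Type*} [Group H] [Group E] {p s r : ℕ} (hp : 1 < p) (f : E →* H)
    (hf : Function.Injective f) (hs : SectionalPRankLE p s H) (hcomm : ∀ a b : E, a * b = b * a)
    (hexp : ∀ a : E, a ^ p = 1) (hcard : Nat.card E = p ^ r) : r ≤ s := by
  let π : E →* (⊤ : Subgroup E) ⧸ (⊥ : Subgroup (⊤ : Subgroup E)) :=
    (QuotientGroup.mk' _).comp Subgroup.topEquiv.symm.toMonoidHom
  have hπ : Function.Injective π := fun a b h => by
    have h2 := QuotientGroup.eq.mp h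
    rw [Subgroup.mem_bot, inv_mul_eq_one] at h2
    exact Subgroup.topEquiv.symm.injective h2
  have hle := sectional_of_injective f hf hs ⊤ ⊥ π.range ⟨⟨?_⟩⟩ ?_
  · rw [← Nat.card_congr (MonoidHom.ofInjective hπ).toEquiv, hcard] at hle
    exact (Nat.pow_le_pow_iff_right hp).mp hle
  · rintro ⟨_, a, rfl⟩ ⟨_, b, rfl⟩
    exact Subtype.ext (by show π a * π b = π b * π a; rw [← map_mul, ← map_mul, hcomm])
  · rintro _ ⟨a, rfl⟩
    rw [← map_pow, hexp a, map_one]

/-! ### Even involutions in the defect group -/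

variable {p : ℕ} {M : Ideal AlgInt} [M.IsMaximal] {α : Type u} [Fintype α] [DecidableEq α]

/-- Four points for each of `j` blocks, permuted by two commuting involutions in each block. -/
def blockPerm (j : ℕ) :
    ((Fin j → Perm (Fin 2)) × (Fin j → Perm (Fin 2))) →* Perm (Fin j × (Fin 2 × Fin 2)) where
  toFun v := Equiv.prodCongrRight fun i => Equiv.prodCongr (v.1 i) (v.2 i)
  map_one' := Equiv.ext fun _ => rfl
  map_mul' _ _ := Equiv.ext fun _ => rfl

theorem blockPerm_injective (j : ℕ) : Function.Injective (blockPerm j) := by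
  intro u v h
  refine Prod.ext (funext fun i => Equiv.ext fun a => ?_) (funext fun i => Equiv.ext fun a => ?_)
  · exact congrArg (fun e : Fin j × (Fin 2 × Fin 2) => e.2.1) (DFunLike.congr_fun h (i, (a, 0)))
  · exact congrArg (fun e : Fin j × (Fin 2 × Fin 2) => e.2.2) (DFunLike.congr_fun h (i, (0, a)))

theorem sign_blockPerm (j : ℕ) (v : (Fin j → Perm (Fin 2)) × (Fin j → Perm (Fin 2))) :
    sign (blockPerm j v) = 1 := by
  show sign (Equiv.prodCongrRight fun i => Equiv.prodCongr (v.1 i) (v.2 i)) = 1
  rw [sign_prodCongrRight]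
  refine Finset.prod_eq_one fun i _ => ?_
  have key : ∀ a b : Perm (Fin 2), sign (Equiv.prodCongr a b) = 1 := by decide
  exact key _ _

theorem exists_even_elementary (hM : IsPModular 2 M) {B : Set (IrrCharacter (Perm α))}
    (hB : IsPBlock M B) {D : Subgroup (Perm α)} (hD : IsDefectGroup 2 M B D) {x : Perm α}
    (hx : x ^ 2 = 1) {w : ℕ} (hw : x.support.card = 2 * w) {χ : IrrCharacter (Perm α)}
    (hχ : χ ∈ B) (hne : (χ : Perm α → ℂ) x ≠ 0) :
    ∃ E : Subgroup (Perm α), E ≤ D ∧ E ≤ alternatingGroup α ∧ Nat.card E = 2 ^ (2 * (w / 2)) ∧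
      (∀ a ∈ E, a ^ 2 = 1) ∧ ∀ a ∈ E, ∀ b ∈ E, a * b = b * a := by
  classical
  haveI : Fact (Nat.Prime 2) := ⟨Nat.prime_two⟩
  letI := Fintype.ofFinite (IrrCharacter (Perm α))
  obtain ⟨g, hg, hgc, -⟩ := exists_isSylowCent_of_isDefectGroup hM hB hD
  have hreg := regular_of_coeffRes_ne_zero hM (.of_isPBlock hB) hgc
  obtain ⟨c, hc⟩ : ∃ c, c * x * c⁻¹ ∈ D := by
    by_contra! h
    refine hne (irr_eq_zero_of_not_mem_defect hM hB hD (isPPart_one_mul ?_ hM.1.ne_one) h hχ)
    rcases (Nat.dvd_prime hM.1).mp (orderOf_dvd_of_pow_eq_one hx) with e | e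
    · exact ⟨0, by rw [e, pow_zero]⟩
    · exact ⟨1, by rw [e, pow_one]⟩
  set x' := c * x * c⁻¹ with hx'
  have hsupp : x'.support.card = 2 * w := by rw [hx', Perm.card_support_conj, hw]
  obtain ⟨ι⟩ : Nonempty (Fin (w / 2) × (Fin 2 × Fin 2) ↪ {t // t ∈ x'.support}) :=
    Function.Embedding.nonempty_of_card_le (by
      simp only [Fintype.card_prod, Fintype.card_fin, Fintype.card_coe, hsupp]; omega)
  set ι' := ι.trans (Function.Embedding.subtype _) with hι'
  set f := (Perm.viaEmbeddingHom ι').comp (blockPerm (w / 2)) with hf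
  have hfinj : Function.Injective f :=
    (Perm.viaEmbeddingHom_injective ι').comp (blockPerm_injective _)
  have hcard : Nat.card f.range = 2 ^ (2 * (w / 2)) := by
    rw [← Nat.card_congr (MonoidHom.ofInjective hfinj).toEquiv]
    simp only [Nat.card_eq_fintype_card, Fintype.card_prod, Fintype.card_fun, Fintype.card_perm,
      Fintype.card_fin, Nat.factorial_two, ← pow_add, two_mul]
  have hsign : ∀ a ∈ f.range, sign a = 1 := by
    rintro _ ⟨v, rfl⟩
    show sign (Perm.viaEmbedding (blockPerm _ v) ι') = 1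
    rw [Perm.viaEmbedding, sign_extendDomain, sign_blockPerm]
  have key : ∀ v : Perm (Fin 2), v ^ 2 = 1 := by decide
  have key' : ∀ u v : Perm (Fin 2), u * v = v * u := by decide
  have hexp : ∀ a ∈ f.range, a ^ 2 = 1 := by
    rintro _ ⟨v, rfl⟩
    rw [← map_pow, show v ^ 2 = 1 from Prod.ext (funext fun i => key _) (funext fun i => key _), map_one]
  have hab : ∀ a ∈ f.range, ∀ b ∈ f.range, a * b = b * a := by
    rintro _ ⟨u, rfl⟩ _ ⟨v, rfl⟩
    rw [← map_mul, ← map_mul,
      show u * v = v * u from Prod.ext (funext fun i => key' _ _) (funext fun i => key' _ _)]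
  have hcomm : ∀ a ∈ f.range, Commute a g := by
    rintro _ ⟨v, rfl⟩
    refine Perm.Disjoint.commute fun t => ?_
    by_cases ht : x' t = t
    · left
      refine Perm.viaEmbedding_apply_of_notMem _ ι' t ?_
      rintro ⟨z, rfl⟩
      exact (mem_support.1 (ι z).2) ht
    · exact Or.inr (defect_class_fixes hM hB hD hg hreg hc ht)
  obtain ⟨c', hc'⟩ := hg.conjLE (IsPGroup.of_card hcard) hcomm
  refine ⟨f.range.map (MulAut.conj c').toMonoidHom, hc', ?_, ?_, ?_, ?_⟩
  · rintro _ ⟨a, ha, rfl⟩
    rw [mem_alternatingGroup]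
    show sign (c' * a * c'⁻¹) = 1
    rw [map_mul, map_mul, map_inv, hsign a ha, mul_one, mul_inv_cancel]
  · rw [Subgroup.card_map_of_injective (MulAut.conj c').injective, hcard]
  · rintro _ ⟨a, ha, rfl⟩
    rw [← map_pow, hexp a ha, map_one]
  · rintro _ ⟨a, ha, rfl⟩ _ ⟨b, hb, rfl⟩
    rw [← map_mul, ← map_mul, hab a ha b hb]

/-! ### Constituents of restrictions -/

/-- The sign as a linear character. -/
noncomputable def signLin (α : Type u) [Fintype α] [DecidableEq α] : Perm α →* ℂˣ :=
  (Units.map (Int.castRingHom ℂ).toMonoidHom).comp sign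

theorem signLin_apply (g : Perm α) : ((signLin α g : ℂˣ) : ℂ) = ((sign g : ℤ) : ℂ) := rfl

/-- The sign twist. -/
noncomputable def twist (χ : IrrCharacter (Perm α)) : IrrCharacter (Perm α) :=
  Char.linMul (signLin α) χ

theorem twist_apply (χ : IrrCharacter (Perm α)) (g : Perm α) :
    (twist χ : Perm α → ℂ) g = ((sign g : ℤ) : ℂ) * (χ : Perm α → ℂ) g := rfl

/-- The restriction to the alternating group. -/
noncomputable def resAlt (χ : IrrCharacter (Perm α)) : alternatingGroup α → ℂ :=
  fun a => (χ : Perm α → ℂ) a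

theorem norm_resAlt [Nontrivial α] (χ : IrrCharacter (Perm α)) [Decidable (twist χ = χ)] :
    classInner (resAlt χ) (resAlt χ) = if twist χ = χ then 2 else 1 := by
  classical
  have hcard : (Nat.card (Perm α) : ℂ) = 2 * Nat.card (alternatingGroup α) := by
    rw [Nat.card_eq_fintype_card, ← two_mul_card_alternatingGroup, Nat.card_eq_fintype_card]
    push_cast
    ring
  have h1 := Char.classInner_irr_self χ
  have h2 : classInner (twist χ : Perm α → ℂ) χ = if twist χ = χ then 1 else 0 :=
    Char.classInner_irr (twist χ) χ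
  have key : classInner (resAlt χ) (resAlt χ) =
      classInner (χ : Perm α → ℂ) χ + classInner (twist χ : Perm α → ℂ) χ := by
    simp only [classInner, resAlt]
    rw [← mul_add, ← Finset.sum_add_distrib, hcard, mul_inv]
    have hsum : ∑ g : Perm α, ((χ : Perm α → ℂ) g * conj ((χ : Perm α → ℂ) g) +
        (twist χ : Perm α → ℂ) g * conj ((χ : Perm α → ℂ) g)) =
        2 * ∑ a : alternatingGroup α, (χ : Perm α → ℂ) a * conj ((χ : Perm α → ℂ) a) := by
      rw [Finset.mul_sum, ← Finset.sum_subtype (Finset.univ.filter fun g : Perm α => sign g = 1)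
        (fun g => by simp)
        (fun g => 2 * ((χ : Perm α → ℂ) g * conj ((χ : Perm α → ℂ) g))), Finset.sum_filter]
      refine Finset.sum_congr rfl fun g _ => ?_
      rw [twist_apply]
      rcases Int.units_eq_one_or (sign g) with e | e <;> simp [e] <;> ring
    rw [hsum]
    ring
  rw [h1, h2] at key
  split_ifs with h <;> simp only [h, if_true, if_false] at key <;> linear_combination key

theorem isClassFunction_resAlt (χ : IrrCharacter (Perm α)) : IsClassFunction (alternatingGroup α) (resAlt χ) :=
  fun a b => Char.isClassFunction_irr χ (a : Perm α) (b : Perm α)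

/-- Multiplicities in the restriction. -/
theorem exists_mult [Nontrivial α] (χ : IrrCharacter (Perm α)) [Fintype (IrrCharacter (alternatingGroup α))]
    [Decidable (twist χ = χ)] :
    ∃ a : IrrCharacter (alternatingGroup α) → ℕ,
      (∀ θ : IrrCharacter (alternatingGroup α), classInner (resAlt χ) (θ : alternatingGroup α → ℂ) = a θ) ∧
      resAlt χ = ∑ θ, (a θ : ℂ) • (θ : alternatingGroup α → ℂ) ∧
      ∑ θ, a θ * a θ = if twist χ = χ then 2 else 1 := by
  classical
  choose a ha using fun θ : IrrCharacter (alternatingGroup α) =>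
    Char.classInner_char_irr_nat (Char.isCharacter_comp (Char.isCharacter_irr χ) (alternatingGroup α).subtype) θ
  have ha' : ∀ θ : IrrCharacter (alternatingGroup α), classInner (resAlt χ) (θ : alternatingGroup α → ℂ) = a θ := ha
  refine ⟨a, ha', ?_, ?_⟩
  · conv_lhs => rw [Char.classFun_expand (isClassFunction_resAlt χ)]
    exact Finset.sum_congr rfl fun θ _ => by rw [ha']
  · have h := norm_resAlt χ
    rw [Char.classInner_expand (isClassFunction_resAlt χ)] at h
    simp only [ha', map_natCast] at h
    split_ifs at h ⊢ <;> exact_mod_cast h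

/-- Without sign invariance the restriction is irreducible. -/
theorem constituent_eq [Nontrivial α] {χ : IrrCharacter (Perm α)} (hne : twist χ ≠ χ)
    {θ : IrrCharacter (alternatingGroup α)} (hθ : classInner (resAlt χ) (θ : alternatingGroup α → ℂ) ≠ 0) :
    (θ : alternatingGroup α → ℂ) = resAlt χ := by
  classical
  letI := Fintype.ofFinite (IrrCharacter (alternatingGroup α))
  obtain ⟨a, ha, hexp, hn⟩ := exists_mult χ
  rw [if_neg hne, ← Finset.add_sum_erase _ _ (Finset.mem_univ θ)] at hn
  have hpos : 0 < a θ := Nat.pos_of_ne_zero fun e => hθ (by rw [ha, e, Nat.cast_zero])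
  have h1 := Nat.le_mul_of_pos_left (a θ) hpos
  have h2 : a θ = 1 := by omega
  have h3 : ∀ η ∈ (Finset.univ : Finset (IrrCharacter (alternatingGroup α))).erase θ, a η = 0 := by
    intro η hη
    have := Finset.single_le_sum (f := fun η => a η * a η) (fun _ _ => Nat.zero_le _) hη
    have h4 : a η * a η = 0 := by omega
    exact mul_self_eq_zero.1 h4
  rw [hexp, ← Finset.add_sum_erase _ _ (Finset.mem_univ θ), h2,
    Finset.sum_eq_zero fun η hη => by rw [h3 η hη, Nat.cast_zero, zero_smul]]
  simp

/-- With sign invariance two constituents span the others. -/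
theorem constituent_mem_span [Nontrivial α] {χ : IrrCharacter (Perm α)} {θ θ₁ : IrrCharacter (alternatingGroup α)}
    (hθ : classInner (resAlt χ) (θ : alternatingGroup α → ℂ) ≠ 0)
    (hθ₁ : classInner (resAlt χ) (θ₁ : alternatingGroup α → ℂ) ≠ 0) :
    (θ : alternatingGroup α → ℂ) ∈ Submodule.span ℂ {resAlt χ, (θ₁ : alternatingGroup α → ℂ)} := by
  classical
  by_cases he : θ = θ₁
  · exact Submodule.subset_span (by simp [he])
  letI := Fintype.ofFinite (IrrCharacter (alternatingGroup α))
  obtain ⟨a, ha, hexp, hn⟩ := exists_mult χ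
  have hmem : θ₁ ∈ (Finset.univ : Finset (IrrCharacter (alternatingGroup α))).erase θ := by
    simp [Ne.symm he]
  rw [← Finset.add_sum_erase _ _ (Finset.mem_univ θ), ← Finset.add_sum_erase _ _ hmem] at hn
  have hpos : ∀ η : IrrCharacter (alternatingGroup α), classInner (resAlt χ) (η : alternatingGroup α → ℂ) ≠ 0 → a η ≤ a η * a η ∧ 0 < a η :=
    fun η hη => ⟨Nat.le_mul_of_pos_left _ (Nat.pos_of_ne_zero fun e => hη (by rw [ha, e, Nat.cast_zero])),
      Nat.pos_of_ne_zero fun e => hη (by rw [ha, e, Nat.cast_zero])⟩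
  obtain ⟨p1, p2⟩ := hpos θ hθ
  obtain ⟨q1, q2⟩ := hpos θ₁ hθ₁
  have hb : a θ = 1 ∧ a θ₁ = 1 ∧
      ∑ η ∈ ((Finset.univ : Finset (IrrCharacter (alternatingGroup α))).erase θ).erase θ₁, a η * a η = 0 := by
    split_ifs at hn <;> exact ⟨by omega, by omega, by omega⟩
  obtain ⟨h1, h2, h3⟩ := hb
  have hsum : resAlt χ = (θ : alternatingGroup α → ℂ) + (θ₁ : alternatingGroup α → ℂ) := by
    rw [hexp, ← Finset.add_sum_erase _ _ (Finset.mem_univ θ), ← Finset.add_sum_erase _ _ hmem, h1, h2,
      Finset.sum_eq_zero fun η hη => by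
        rw [mul_self_eq_zero.1 (Finset.sum_eq_zero_iff.1 h3 η hη), Nat.cast_zero, zero_smul]]
    simp
  rw [show (θ : alternatingGroup α → ℂ) = resAlt χ - (θ₁ : alternatingGroup α → ℂ) by rw [hsum, add_sub_cancel_right]]
  exact Submodule.sub_mem _ (Submodule.subset_span (by simp)) (Submodule.subset_span (by simp))

/-- The `p`-regular parts of constituents of a family: restrictions and one extra per fixed member. -/
theorem blockRank_le_of_constituents [Nontrivial α] (p : ℕ) (S : Finset (IrrCharacter (Perm α)))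
    [DecidablePred fun χ : IrrCharacter (Perm α) => twist χ = χ]
    (B : Set (IrrCharacter (alternatingGroup α)))
    (hB : ∀ θ ∈ B, ∃ χ ∈ S, classInner (resAlt χ) (θ : alternatingGroup α → ℂ) ≠ 0)
    (V : Submodule ℂ (alternatingGroup α → ℂ)) [FiniteDimensional ℂ V]
    (hV : ∀ χ ∈ S, pRegularPart p (resAlt χ) ∈ V) :
    blockRank p B ≤ Module.finrank ℂ V + (S.filter fun χ => twist χ = χ).card := by
  classical
  set F := S.filter fun χ => twist χ = χ
  let L : (alternatingGroup α → ℂ) →ₗ[ℂ] (alternatingGroup α → ℂ) :=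
    { toFun := pRegularPart p
      map_add' := fun u v => funext fun a => by simp only [pRegularPart, Pi.add_apply]; split <;> simp
      map_smul' := fun c u => funext fun a => by
        simp only [pRegularPart, Pi.smul_apply, RingHom.id_apply, smul_eq_mul]; split <;> simp }
  have hex : ∀ χ : IrrCharacter (Perm α), ∃ θ : IrrCharacter (alternatingGroup α),
      classInner (resAlt χ) (θ : alternatingGroup α → ℂ) ≠ 0 := fun χ =>
    exists_constituent (N := alternatingGroup α) χ
  choose first hfirst using hex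
  set T := F.image fun χ => pRegularPart p (first χ : alternatingGroup α → ℂ) with hT
  rw [blockRank]
  refine (Submodule.finrank_mono (t := V ⊔ Submodule.span ℂ (T : Set _)) ?_).trans ?_
  · rw [Submodule.span_le]
    rintro _ ⟨θ, hθ, rfl⟩
    obtain ⟨χ, hχ, hc⟩ := hB θ hθ
    by_cases ht : twist χ = χ
    · have h := Submodule.mem_map_of_mem (f := L) (constituent_mem_span hc (hfirst χ))
      rw [Submodule.map_span, Set.image_pair] at h
      refine Submodule.span_le.2 ?_ h
      rintro _ (rfl | rfl)
      · exact Submodule.mem_sup_left (hV χ hχ)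
      · exact Submodule.mem_sup_right
          (Submodule.subset_span (Finset.mem_image_of_mem _ (Finset.mem_filter.2 ⟨hχ, ht⟩)))
    · show pRegularPart p (θ : alternatingGroup α → ℂ) ∈ _
      rw [constituent_eq ht hc]
      exact Submodule.mem_sup_left (hV χ hχ)
  · refine (Submodule.finrank_add_le_finrank_add_finrank _ _).trans ?_
    exact add_le_add le_rfl ((finrank_span_finset_le_card T).trans Finset.card_image_le)

end CfsgLib.SymBlock
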