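import Cfsg.Agent.Lib.Block.Orthogonality
import Cfsg.Agent.Lib.Char.Integrality

/-!
# Unions of blocks from orthogonality between regular and singular elements

`isBlockUnion_of_orthogonal` : a set of irreducible characters whose column inner products between
`p`-regular and `p`-singular elements vanish is a union of `p`-blocks.
-/

open scoped ComplexConjugate

namespace CfsgLib.SymBlock

open Cfsg CfsgLib.Block

universe u

variable {p : ℕ} {M : Ideal AlgInt} [M.IsMaximal] {G : Type u} [Group G] [Finite G]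

/-- The idempotent coefficients are local integers if regular and singular columns are orthogonal. -/
theorem blockCoeff_mem_of_orthogonal [Fact p.Prime] (hM : IsPModular p M)
    {S : Set (IrrCharacter G)}
    (h : ∀ g x : G, ¬ p ∣ orderOf g → p ∣ orderOf x →
      ∑ᶠ χ ∈ S, (χ : G → ℂ) g * conj ((χ : G → ℂ) x) = 0) (g₀ : G) :
    blockCoeff S g₀ ∈ locRing M := by
  classical
  obtain ⟨g, rfl⟩ : ∃ g, g⁻¹ = g₀ := ⟨g₀⁻¹, inv_inv g₀⟩
  letI := Fintype.ofFinite G
  letI := Fintype.ofFinite (IrrCharacter G)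
  by_cases hg : p ∣ orderOf g
  · rw [blockCoeff, h 1 g⁻¹ (by simp [hM.1.ne_one]) (by rwa [orderOf_inv]), mul_zero]
    exact Subring.zero_mem _
  obtain ⟨P⟩ : Nonempty (Sylow p G) := inferInstance
  letI := Fintype.ofFinite (P : Subgroup G)
  set f : G → ℂ := fun x => ∑ χ ∈ S.toFinset, (χ : G → ℂ) g * conj ((χ : G → ℂ) x) with hfdef
  have hfin : ∀ x : G, ∑ᶠ χ ∈ S, (χ : G → ℂ) g * conj ((χ : G → ℂ) x) = f x := fun x => by
    rw [hfdef, finsum_mem_eq_toFinset_sum]
  -- on the Sylow subgroup only the identity contributes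
  have hone : ∑ u : (P : Subgroup G), f (u : G) = f 1 := by
    rw [Finset.sum_eq_single 1 _ (fun h1 => absurd (Finset.mem_univ _) h1)]
    · rfl
    · intro u _ hu
      have hdvd : p ∣ orderOf (u : G) := by
        obtain ⟨k, hk⟩ := (IsPGroup.iff_orderOf.mp P.2) u
        rw [Subgroup.orderOf_coe, hk]
        rcases Nat.eq_zero_or_pos k with rfl | hk0
        · rw [pow_zero, orderOf_eq_one_iff] at hk
          exact absurd hk hu
        · exact dvd_pow_self p hk0.ne'
      rw [← hfin, h g u hg hdvd]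
  -- multiplicities of the trivial character
  have hmul : ∀ χ : IrrCharacter G, ∃ m : ℕ,
      ∑ u : (P : Subgroup G), conj ((χ : G → ℂ) (u : G)) = (Nat.card (P : Subgroup G) : ℂ) * m := by
    intro χ
    obtain ⟨m, hm⟩ := CfsgLib.Char.classInner_isCharacter
      (CfsgLib.Char.isCharacter_comp (CfsgLib.Char.isCharacter_irr χ) (P : Subgroup G).subtype)
      (CfsgLib.Char.isCharacter_of_isIrr CfsgLib.Char.isIrrCharacter_one)
    refine ⟨m, ?_⟩
    have := congrArg conj hm
    rw [map_natCast, classInner, map_mul, map_inv₀, map_natCast, map_sum] at this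
    rw [← this, ← mul_assoc, mul_inv_cancel₀ (Nat.cast_ne_zero.mpr Nat.card_pos.ne'), one_mul]
    refine Finset.sum_congr rfl fun u _ => ?_
    simp
  choose m hm using hmul
  have hf1 : f 1 = (Nat.card (P : Subgroup G) : ℂ) * ∑ χ ∈ S.toFinset, (χ : G → ℂ) g * m χ := by
    rw [← hone, hfdef, Finset.sum_comm, Finset.mul_sum]
    refine Finset.sum_congr rfl fun χ _ => ?_
    rw [← Finset.mul_sum, hm]
    ring
  have hint : (∑ χ ∈ S.toFinset, (χ : G → ℂ) g * m χ) ∈ locRing M :=
    Subring.sum_mem _ fun χ _ => Subring.mul_mem _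
      (integral_mem M (CfsgLib.Char.isCharacter_isIntegral (CfsgLib.Char.isCharacter_irr χ) _))
      (natCast_mem _ _)
  have hindex : ¬ p ∣ (P : Subgroup G).index := Sylow.not_dvd_index P
  have hval : blockCoeff S g⁻¹ =
      (((P : Subgroup G).index : ℕ) : ℂ)⁻¹ * ∑ χ ∈ S.toFinset, (χ : G → ℂ) g * m χ := by
    have h1 : ∑ᶠ χ ∈ S, (χ : G → ℂ) 1 * conj ((χ : G → ℂ) g⁻¹) = f 1 := by
      rw [hfdef, finsum_mem_eq_toFinset_sum]
      refine Finset.sum_congr rfl fun χ _ => ?_
      obtain ⟨d, -, hd⟩ := CfsgLib.Char.isIrrCharacter_degree χ.2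
      rw [CfsgLib.Char.irr_inv, Complex.conj_conj, hd, map_natCast, mul_comm]
    rw [blockCoeff, h1, hf1, ← Subgroup.index_mul_card (P : Subgroup G)]
    have h2 : (Nat.card (P : Subgroup G) : ℂ) ≠ 0 := Nat.cast_ne_zero.mpr Nat.card_pos.ne'
    have h3 : ((P : Subgroup G).index : ℂ) ≠ 0 :=
      Nat.cast_ne_zero.mpr Subgroup.index_ne_zero_of_finite
    push_cast
    field_simp
  exact hval ▸ Subring.mul_mem _ (inv_natCast_mem hM hindex) hint

/-- Orthogonality between regular and singular elements characterizes unions of blocks. -/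
theorem isBlockUnion_of_orthogonal [Fact p.Prime] (hM : IsPModular p M)
    {S : Set (IrrCharacter G)}
    (h : ∀ g x : G, ¬ p ∣ orderOf g → p ∣ orderOf x →
      ∑ᶠ χ ∈ S, (χ : G → ℂ) g * conj ((χ : G → ℂ) x) = 0) : IsBlockUnion M S := by
  classical
  letI := Fintype.ofFinite G
  exact isBlockUnion_of_blockCoeff_mem fun g => blockCoeff_mem_of_orthogonal hM h g

end CfsgLib.SymBlock
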