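import Mathlib

/-!
# The functions `χ_β` on permutations

`col g a` counts the colourings constant on the cycles of `g` with given colour multiplicities and `chi g β` is
the alternating sum of these numbers attached to a vector of bead positions.
-/

set_option autoImplicit false
set_option linter.unusedSectionVars false

namespace CfsgLib.SymBlock

open Equiv Finset

variable {N : ℕ} {α γ : Type*}

/-- The colourings invariant under `g` with multiplicities `a`. -/
def Fixed (g : Perm α) (a : Fin N → ℤ) : Type _ :=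
  {f : α → Fin N // (∀ x, f (g x) = f x) ∧ ∀ i, (Nat.card {x // f x = i} : ℤ) = a i}

/-- Their number. -/
noncomputable def col (g : Perm α) (a : Fin N → ℤ) : ℕ := Nat.card (Fixed g a)

/-- The alternating sum of the colouring numbers. -/
noncomputable def chi (g : Perm α) (β : Fin N → ℤ) : ℤ :=
  ∑ σ : Perm (Fin N), (Perm.sign σ : ℤ) * (col g fun i => β i - ((σ i : ℕ) : ℤ) : ℕ)

theorem col_eq_zero_of_neg (g : Perm α) {a : Fin N → ℤ} {i : Fin N} (h : a i < 0) : col g a = 0 := by
  rw [col, Nat.card_eq_zero]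
  exact Or.inl ⟨fun f => absurd (f.2.2 i) (by omega)⟩

theorem col_congr (e : α ≃ γ) (g : Perm α) (a : Fin N → ℤ) : col (e.permCongr g) a = col g a := by
  have hf : ∀ (f : α → Fin N) (i : Fin N), Nat.card {y // f (e.symm y) = i} = Nat.card {x // f x = i} :=
    fun f i => Nat.card_congr (e.symm.subtypeEquiv fun _ => Iff.rfl)
  refine Nat.card_congr
    { toFun := fun f => ⟨fun x => f.1 (e x), fun x => by simpa [Equiv.permCongr_apply] using f.2.1 (e x),
        fun i => by rw [← hf (fun x => f.1 (e x)) i]; simpa using f.2.2 i⟩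
      invFun := fun f => ⟨fun y => f.1 (e.symm y), fun y => by simpa [Equiv.permCongr_apply] using f.2.1 (e.symm y),
        fun i => by rw [hf f.1 i]; exact f.2.2 i⟩
      left_inv := fun f => Subtype.ext (funext fun y => congrArg f.1 (e.apply_symm_apply y))
      right_inv := fun f => Subtype.ext (funext fun x => congrArg f.1 (e.symm_apply_apply x)) }

theorem col_comp (g : Perm α) (a : Fin N → ℤ) (τ : Perm (Fin N)) : col g (fun i => a (τ i)) = col g a := by
  refine Nat.card_congr
    { toFun := fun f => ⟨fun x => τ (f.1 x), fun x => congrArg τ (f.2.1 x), fun i => ?_⟩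
      invFun := fun f => ⟨fun x => τ.symm (f.1 x), fun x => congrArg τ.symm (f.2.1 x), fun i => ?_⟩
      left_inv := fun f => Subtype.ext (funext fun x => τ.symm_apply_apply _)
      right_inv := fun f => Subtype.ext (funext fun x => τ.apply_symm_apply _) }
  · rw [show Nat.card {x // τ (f.1 x) = i} = Nat.card {x // f.1 x = τ.symm i} from
      Nat.card_congr (Equiv.subtypeEquivRight fun x => τ.apply_eq_iff_eq_symm_apply), f.2.2]
    simp
  · rw [show Nat.card {x // τ.symm (f.1 x) = i} = Nat.card {x // f.1 x = τ i} from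
      Nat.card_congr (Equiv.subtypeEquivRight fun x => τ.symm_apply_eq), f.2.2]

theorem chi_comp (g : Perm α) (β : Fin N → ℤ) (τ : Perm (Fin N)) :
    chi g (β ∘ τ) = (Perm.sign τ : ℤ) * chi g β := by
  rw [chi, chi, Finset.mul_sum, ← Equiv.sum_comp (Equiv.mulRight τ)]
  refine Finset.sum_congr rfl fun σ _ => ?_
  rw [show (fun i => (β ∘ τ) i - (((Equiv.mulRight τ σ) i : ℕ) : ℤ)) =
      fun i => (fun j => β j - ((σ j : ℕ) : ℤ)) (τ i) from rfl, col_comp g (fun j => β j - ((σ j : ℕ) : ℤ)) τ,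
    Equiv.coe_mulRight, Perm.sign_mul, Units.val_mul]
  ring

theorem chi_eq_zero_of_eq (g : Perm α) (β : Fin N → ℤ) {i j : Fin N} (hij : i ≠ j) (h : β i = β j) :
    chi g β = 0 := by
  have := chi_comp g β (Equiv.swap i j)
  rw [show β ∘ Equiv.swap i j = β from funext fun k => by
      simp only [Function.comp_apply, Equiv.swap_apply_def]
      split_ifs with h1 h2
      · rw [h1, h]
      · rw [h2, h]
      · rfl,
    Perm.sign_swap hij] at this
  push_cast at this
  linarith

theorem chi_eq_zero_of_neg (g : Perm α) (β : Fin N → ℤ) {i : Fin N} (h : β i < 0) : chi g β = 0 :=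
  Finset.sum_eq_zero fun σ _ => by
    rw [col_eq_zero_of_neg (a := fun i => β i - ((σ i : ℕ) : ℤ)) g (i := i) (by omega), Nat.cast_zero, mul_zero]

theorem chi_congr (e : α ≃ γ) (g : Perm α) (β : Fin N → ℤ) : chi (e.permCongr g) β = chi g β :=
  Finset.sum_congr rfl fun σ _ => by rw [col_congr]

theorem chi_conj (g c : Perm α) (β : Fin N → ℤ) : chi (c * g * c⁻¹) β = chi g β := by
  rw [← chi_congr c g β]
  congr 1

theorem col_eq_zero_of_sum [Finite α] (g : Perm α) {a : Fin N → ℤ} (h : ∑ i, a i ≠ Nat.card α) : col g a = 0 := by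
  rw [col, Nat.card_eq_zero]
  refine Or.inl ⟨fun f => h ?_⟩
  rw [← Finset.sum_congr rfl fun i _ => f.2.2 i, ← Nat.cast_sum, ← Nat.card_sigma,
    Nat.card_congr (Equiv.sigmaFiberEquiv f.1)]

theorem sum_perm_val (σ : Perm (Fin N)) : ∑ i, ((σ i : ℕ) : ℤ) = ∑ i : Fin N, ((i : ℕ) : ℤ) :=
  Equiv.sum_comp σ fun j => ((j : ℕ) : ℤ)

/-! ### A single cycle -/

theorem apply_eq_of_sameCycle {k : Perm γ} {f : γ → Fin N} (hf : ∀ y, f (k y) = f y) {y z : γ}
    (h : k.SameCycle y z) : f y = f z := by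
  obtain ⟨t, rfl⟩ := h
  induction t generalizing y with
  | zero => simp
  | succ t ih => rw [zpow_add, zpow_one, Perm.mul_apply, ← ih, hf]
  | pred t ih =>
    rw [zpow_sub, zpow_one, Perm.mul_apply, ← ih]
    simpa using hf (k⁻¹ y)

theorem col_sumCongr [Finite α] [Finite γ] [Nonempty γ] (g : Perm α) (k : Perm γ)
    (hk : ∀ y z, k.SameCycle y z) (a : Fin N → ℤ) :
    col (Equiv.sumCongr g k) a = ∑ i, col g (a - Pi.single i (Nat.card γ : ℤ)) := by
  classical
  have : ∀ a' : Fin N → ℤ, Finite (Fixed g a') := fun a' => Subtype.finite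
  simp only [col]
  rw [← Nat.card_sigma]
  let y₀ : γ := Classical.arbitrary γ
  have hc : ∀ (f : α ⊕ γ → Fin N) (j : Fin N), (∀ y, f (.inr y) = f (.inr y₀)) →
      (Nat.card {x // f x = j} : ℤ) = Nat.card {x // f (.inl x) = j} + (Pi.single (f (.inr y₀)) (Nat.card γ : ℤ) : Fin N → ℤ) j := by
    intro f j hf
    rw [Nat.card_congr Equiv.subtypeSum, Nat.card_sum, Nat.cast_add]
    congr 1
    simp only [hf]
    by_cases hj : f (.inr y₀) = j
    · rw [hj, Pi.single_eq_same]
      simp
    · rw [Pi.single_eq_of_ne (Ne.symm hj)]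
      simp [hj]
  refine Nat.card_congr
    { toFun := fun f => ⟨f.1 (.inr y₀), fun x => f.1 (.inl x), fun x => f.2.1 (.inl x), fun j => ?_⟩
      invFun := fun s => ⟨Sum.elim s.2.1 fun _ => s.1, ?_, fun j => ?_⟩
      left_inv := fun f => Subtype.ext (funext ?_)
      right_inv := fun s => rfl }
  · have hinv := f.2.1
    rw [Pi.sub_apply, ← f.2.2 j, hc f.1 j fun y =>
      (apply_eq_of_sameCycle (k := k) (f := fun y => f.1 (.inr y)) (fun y => hinv (.inr y)) (hk y₀ y)).symm]
    ring
  · rintro (x | y)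
    · exact s.2.2.1 x
    · rfl
  · rw [hc _ j fun _ => rfl]
    exact (add_comm _ _).trans (eq_sub_iff_add_eq'.1 (s.2.2.2 j))
  · rintro (x | y)
    · rfl
    · exact apply_eq_of_sameCycle (k := k) (f := fun y => f.1 (.inr y)) (fun y => f.2.1 (.inr y)) (hk y₀ y)

theorem chi_sumCongr [Finite α] [Finite γ] [Nonempty γ] (g : Perm α) (k : Perm γ)
    (hk : ∀ y z, k.SameCycle y z) (β : Fin N → ℤ) :
    chi (Equiv.sumCongr g k) β = ∑ i, chi g (β - Pi.single i (Nat.card γ : ℤ)) := by
  simp only [chi]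
  rw [Finset.sum_comm]
  refine Finset.sum_congr rfl fun σ _ => ?_
  rw [col_sumCongr g k hk, Nat.cast_sum, Finset.mul_sum]
  refine Finset.sum_congr rfl fun i _ => ?_
  congr 3
  funext j
  simp only [Pi.sub_apply]
  ring

/-! ### Cycles -/

/-- The length of the cycle through a point, fixed points having length one. -/
noncomputable def cycLen (g : Perm α) (x : α) : ℕ := Nat.card {y // g.SameCycle x y}

theorem cycLen_eq_period [Finite α] (g : Perm α) (x : α) : cycLen g x = MulAction.period g x := by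
  classical
  have := Fintype.ofFinite α
  rw [MulAction.period_eq_minimalPeriod, MulAction.minimalPeriod_eq_card, ← Nat.card_eq_fintype_card, cycLen]
  refine Nat.card_congr (Equiv.subtypeEquivRight fun y => ?_)
  constructor
  · rintro ⟨t, rfl⟩
    exact ⟨⟨g ^ t, Subgroup.zpow_mem_zpowers g t⟩, rfl⟩
  · rintro ⟨⟨_, t, rfl⟩, rfl⟩
    exact ⟨t, rfl⟩

theorem cycLen_dvd_orderOf [Finite α] (g : Perm α) (x : α) : cycLen g x ∣ orderOf g :=
  cycLen_eq_period g x ▸ MulAction.period_dvd_orderOf g x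

theorem pow_cycLen_apply [Finite α] (g : Perm α) (x : α) : (g ^ cycLen g x) x = x :=
  cycLen_eq_period g x ▸ MulAction.pow_period_smul g x

theorem exists_cycLen_dvd [Finite α] (g : Perm α) {p : ℕ} (hp : p.Prime) (h : p ∣ orderOf g) :
    ∃ x, p ∣ cycLen g x := by
  classical
  have := Fintype.ofFinite α
  have h1 : g ^ (∏ x, cycLen g x) = 1 := by
    ext y
    have : g ^ (∏ x, cycLen g x) • y = y :=
      MulAction.pow_smul_eq_iff_period_dvd.2 (cycLen_eq_period g y ▸ Finset.dvd_prod_of_mem _ (mem_univ y))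
    exact this
  obtain ⟨x, -, hx⟩ := (hp.prime.dvd_finset_prod_iff _).1 (h.trans (orderOf_dvd_of_pow_eq_one h1))
  exact ⟨x, hx⟩

theorem finRotate_pow_zero {r : ℕ} (hr : 0 < r) {t : ℕ} (ht : t < r) : ((finRotate r) ^ t) ⟨0, hr⟩ = ⟨t, ht⟩ := by
  induction t with
  | zero => rfl
  | succ t ih =>
    rw [pow_succ', Perm.mul_apply, ih (by omega)]
    obtain ⟨r, rfl⟩ : ∃ s, r = s + 1 := ⟨r - 1, by omega⟩
    exact finRotate_of_lt (by omega)

theorem finRotate_sameCycle {r : ℕ} (y z : Fin r) : (finRotate r).SameCycle y z := by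
  have hr : 0 < r := y.pos
  have h : ∀ y : Fin r, (finRotate r).SameCycle ⟨0, hr⟩ y :=
    fun y => ⟨y.val, by rw [zpow_natCast, finRotate_pow_zero hr y.isLt]⟩
  exact (h y).symm.trans (h z)

/-- Adding an `r`-cycle on new points. -/
def join {m : ℕ} (h : Perm (Fin m)) (r : ℕ) : Perm (Fin (m + r)) :=
  finSumFinEquiv.permCongr (Equiv.sumCongr h (finRotate r))

/-- Murnaghan–Nakayama, adding a cycle. -/
theorem chi_join {m r : ℕ} (h : Perm (Fin m)) (hr : 0 < r) (β : Fin N → ℤ) :
    chi (join h r) β = ∑ i, chi h (β - Pi.single i (r : ℤ)) := by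
  have : Nonempty (Fin r) := ⟨⟨0, hr⟩⟩
  rw [join, chi_congr, chi_sumCongr h _ finRotate_sameCycle β, Nat.card_fin]

theorem join_pow_natAdd {m r : ℕ} (h : Perm (Fin m)) (c : Fin r) (t : ℕ) :
    (join h r ^ t) (Fin.natAdd m c) = Fin.natAdd m ((finRotate r ^ t) c) := by
  induction t with
  | zero => rfl
  | succ t ih =>
    rw [pow_succ', Perm.mul_apply, ih, pow_succ', Perm.mul_apply, join, Equiv.permCongr_apply,
      finSumFinEquiv_symm_apply_natAdd]
    rfl

theorem cycLen_join {m r : ℕ} (h : Perm (Fin m)) (hr : 0 < r) :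
    cycLen (join h r) (Fin.natAdd m ⟨0, hr⟩) = r := by
  rw [cycLen]
  refine (Nat.card_congr (Equiv.ofBijective (fun c : Fin r => (⟨Fin.natAdd m c, ?_⟩ :
    {y // (join h r).SameCycle (Fin.natAdd m ⟨0, hr⟩) y})) ⟨?_, ?_⟩)).symm.trans (Nat.card_fin r)
  · exact ⟨c.val, by rw [zpow_natCast, join_pow_natAdd, finRotate_pow_zero hr c.isLt]⟩
  · intro c d e
    exact Fin.natAdd_injective r m (congrArg Subtype.val e)
  · rintro ⟨y, hy⟩
    obtain ⟨t, ht⟩ := hy.exists_nat_pow_eq
    exact ⟨(finRotate r ^ t) ⟨0, hr⟩, Subtype.ext ((join_pow_natAdd h _ t).symm.trans ht)⟩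

/-- Murnaghan–Nakayama, removing a cycle. -/
theorem exists_split {n : ℕ} (g : Perm (Fin n)) (x : Fin n) :
    ∃ h : Perm (Fin (n - cycLen g x)),
      ∀ β : Fin N → ℤ, chi g β = ∑ i, chi h (β - Pi.single i (cycLen g x : ℤ)) := by
  classical
  have hp : ∀ y, ¬ g.SameCycle x (g y) ↔ ¬ g.SameCycle x y := fun y => not_congr Perm.sameCycle_apply_right
  have hp' : ∀ y, g.SameCycle x (g y) ↔ g.SameCycle x y := fun y => Perm.sameCycle_apply_right
  have hcard : Fintype.card {y // ¬ g.SameCycle x y} = Fintype.card (Fin (n - cycLen g x)) := by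
    rw [Fintype.card_subtype_compl, Fintype.card_fin, Fintype.card_fin, cycLen, Nat.card_eq_fintype_card]
  let e := Fintype.equivOfCardEq hcard
  refine ⟨e.permCongr (g.subtypePerm hp), fun β => ?_⟩
  let k : Perm {y // g.SameCycle x y} := g.subtypePerm hp'
  have : Nonempty {y // g.SameCycle x y} := ⟨⟨x, Perm.SameCycle.refl g x⟩⟩
  have hk : ∀ y z, k.SameCycle y z := fun y z => Perm.sameCycle_subtypePerm.2 (y.2.symm.trans z.2)
  have hg : ((Equiv.sumComm _ _).trans (Equiv.sumCompl fun y => g.SameCycle x y)).permCongr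
      (Equiv.sumCongr (g.subtypePerm hp) k) = g := by
    ext y
    rw [Equiv.permCongr_apply]
    by_cases h : g.SameCycle x y
    · simp [Equiv.sumCompl_symm_apply_of_pos, h, k]
    · simp [Equiv.sumCompl_symm_apply_of_neg, h, k]
  conv_lhs => rw [← hg, chi_congr, chi_sumCongr _ k hk β]
  exact Finset.sum_congr rfl fun i _ => by rw [chi_congr]; rfl

end CfsgLib.SymBlock
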