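import Cfsg.Agent.Lib.Block.FirstMain
import Cfsg.Agent.Lib.Block.Sections
import Cfsg.Agent.Lib.Block.SubsectionCount
import Cfsg.Prelude.Def_CaseTheorems
import Mathlib.GroupTheory.Perm.Centralizer

/-!
# Defect groups of blocks of symmetric groups

* `le_defectGroup_of_normalized` : defect groups are radical.
* `defect_class_fixes` : a defect class representative fixes every point moved by the defect group.
* `le_rank_of_irr_ne_zero` : if a character of the block does not vanish at a product of `w`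
  cycles of length `p`, then the defect group has `p`-rank at least `w`.
-/

set_option linter.unusedSectionVars false

namespace CfsgLib.SymBlock

open Cfsg CfsgLib.Block Equiv Equiv.Perm

universe u

variable {p : ℕ} {M : Ideal AlgInt} [M.IsMaximal]

section General

variable {G : Type u} [Group G] [Fintype G] [DecidableEq G]

/-- A `p`-subgroup of the normalizer of a defect group that is normal there lies in the
defect group. -/
theorem le_defectGroup_of_normalized (hM : IsPModular p M) {B : Set (IrrCharacter G)}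
    (hB : IsPBlock M B) {D : Subgroup G} (hD : IsDefectGroup p M B D) {A : Subgroup G}
    (hA : IsPGroup p A) (hAN : A ≤ Subgroup.normalizer (D : Set G))
    (hnorm : ∀ c ∈ Subgroup.normalizer (D : Set G), ∀ a ∈ A, c * a * c⁻¹ ∈ A) : A ≤ D := by
  letI := Fintype.ofFinite (Subgroup.normalizer (D : Set G))
  obtain ⟨b, ⟨hb, hbD, -⟩, -⟩ := existsUnique_normalizer_block hM hB hD
  haveI : (A.subgroupOf (Subgroup.normalizer (D : Set G))).Normal :=
    ⟨fun a ha c => hnorm c c.2 a ha⟩
  have h := normal_le_defectGroup hM hb hbD (hA.of_equiv (Subgroup.subgroupOfEquivOfLe hAN).symm)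
  intro a ha
  exact h (x := ⟨a, hAN ha⟩) ha

end General

variable {α : Type u} [Fintype α] [DecidableEq α]

/-- The permutations commuting with `D` and preserving each of its orbits. -/
def orbitCentralizer (D : Subgroup (Perm α)) : Subgroup (Perm α) where
  carrier := {a | (∀ d ∈ D, a * d = d * a) ∧ ∀ x, ∃ d ∈ D, a x = d x}
  one_mem' := ⟨fun d _ => by rw [one_mul, mul_one], fun x => ⟨1, D.one_mem, rfl⟩⟩
  mul_mem' := by
    rintro a b ⟨ha, ha'⟩ ⟨hb, hb'⟩
    refine ⟨fun d hd => by rw [mul_assoc, hb d hd, ← mul_assoc, ha d hd, mul_assoc], fun x => ?_⟩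
    obtain ⟨d, hd, e⟩ := hb' x
    obtain ⟨d', hd', e'⟩ := ha' x
    refine ⟨d * d', D.mul_mem hd hd', ?_⟩
    rw [Perm.mul_apply, e, ← Perm.mul_apply, ha d hd, Perm.mul_apply, e', Perm.mul_apply]
  inv_mem' := by
    rintro a ⟨ha, ha'⟩
    refine ⟨fun d hd => (Commute.inv_left (ha d hd : Commute a d)).eq, fun x => ?_⟩
    obtain ⟨d, hd, e⟩ := ha' x
    refine ⟨d⁻¹, D.inv_mem hd, ?_⟩
    rw [Perm.inv_eq_iff_eq, ← Perm.mul_apply, ha _ (D.inv_mem hd), Perm.mul_apply, e]
    simp

theorem isPGroup_orbitCentralizer {D : Subgroup (Perm α)} (hD : IsPGroup p D) [Fact p.Prime] :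
    IsPGroup p (orbitCentralizer D) := by
  obtain ⟨k, hk⟩ := hD.exists_card_eq
  rintro ⟨a, ha, ha'⟩
  refine ⟨k, Subtype.ext (Perm.ext fun x => ?_)⟩
  obtain ⟨d, hd, e⟩ := ha' x
  have hpow : ∀ m : ℕ, (a ^ m) x = (d ^ m) x := by
    intro m
    induction m with
    | zero => rfl
    | succ m ih =>
      rw [pow_succ', Perm.mul_apply, ih, ← Perm.mul_apply, ha _ (D.pow_mem hd m), Perm.mul_apply, e,
        ← Perm.mul_apply, ← pow_succ]
  have hdk : d ^ p ^ k = 1 := by
    have h1 : (⟨d, hd⟩ : D) ^ Nat.card D = 1 := pow_card_eq_one'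
    rw [hk] at h1
    exact congrArg Subtype.val h1
  show (a ^ p ^ k) x = x
  rw [hpow, hdk, Perm.one_apply]

theorem orbitCentralizer_le (hM : IsPModular p M) {B : Set (IrrCharacter (Perm α))}
    (hB : IsPBlock M B) {D : Subgroup (Perm α)} (hD : IsDefectGroup p M B D) :
    orbitCentralizer D ≤ D := by
  classical
  haveI : Fact p.Prime := ⟨hM.1⟩
  refine le_defectGroup_of_normalized hM hB hD
    (isPGroup_orbitCentralizer (isPGroup_defectGroup hM hB hD)) ?_ ?_
  · rintro a ⟨ha, -⟩
    rw [Subgroup.mem_normalizer_iff]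
    intro d
    constructor
    · intro hd
      rwa [ha d hd, mul_inv_cancel_right]
    · intro hd
      have := ha _ hd
      have e : a * d * a⁻¹ = d := mul_left_cancel
        (a := a) (by rw [this]; group)
      rwa [e] at hd
  · rintro c hc a ⟨ha, ha'⟩
    rw [Subgroup.mem_normalizer_iff] at hc
    refine ⟨fun d hd => ?_, fun x => ?_⟩
    · have h1 : c⁻¹ * d * c ∈ D := (hc _).2 (by rwa [show c * (c⁻¹ * d * c) * c⁻¹ = d by group])
      have h2 := ha _ h1
      calc c * a * c⁻¹ * d = c * (a * (c⁻¹ * d * c)) * c⁻¹ := by group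
        _ = c * ((c⁻¹ * d * c) * a) * c⁻¹ := by rw [h2]
        _ = d * (c * a * c⁻¹) := by group
    · obtain ⟨d, hd, e⟩ := ha' (c⁻¹ x)
      exact ⟨c * d * c⁻¹, (hc d).1 hd, by simp only [Perm.mul_apply, e]⟩

/-- A defect class representative fixes every point moved by the defect group. -/
theorem defect_class_fixes (hM : IsPModular p M) {B : Set (IrrCharacter (Perm α))}
    (hB : IsPBlock M B) {D : Subgroup (Perm α)} (hD : IsDefectGroup p M B D) {g : Perm α}
    (hg : IsSylowCent p g D) (hreg : ¬ p ∣ orderOf g) {d₀ : Perm α} (hd₀ : d₀ ∈ D) {y : α}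
    (hy : d₀ y ≠ y) : g y = y := by
  classical
  haveI : Fact p.Prime := ⟨hM.1⟩
  have hDp := isPGroup_defectGroup hM hB hD
  let O : Set α := {x | ∃ d ∈ D, d y = x}
  have hO : ∀ d ∈ D, ∀ x, d x ∈ O ↔ x ∈ O := by
    intro d hd x
    constructor
    · rintro ⟨e, he, h⟩
      exact ⟨d⁻¹ * e, D.mul_mem (D.inv_mem hd) he, by simp [h]⟩
    · rintro ⟨e, he, h⟩
      exact ⟨d * e, D.mul_mem hd he, by simp [h]⟩
  by_cases hgy : g y ∈ O
  · -- coprime orders
    obtain ⟨d, hd, e⟩ := hgy
    have hpow : ∀ m : ℕ, (g ^ m) y = (d ^ m) y := by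
      intro m
      induction m with
      | zero => rfl
      | succ m ih =>
        rw [pow_succ', Perm.mul_apply, ih, ← Perm.mul_apply,
          (hg.commute _ (D.pow_mem hd m)).symm.eq, Perm.mul_apply, ← e, ← Perm.mul_apply, ← pow_succ]
    have hm : (d ^ orderOf g) y = y := by rw [← hpow, pow_orderOf_eq_one, Perm.one_apply]
    have hcop : (orderOf g).Coprime (orderOf d) := by
      obtain ⟨k, hk⟩ := (IsPGroup.iff_orderOf.mp hDp) ⟨d, hd⟩
      rw [← Subgroup.orderOf_coe] at hk
      rw [show orderOf d = p ^ k from hk]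
      exact ((hM.1.coprime_iff_not_dvd.mpr hreg).symm).pow_right k
    obtain ⟨m, hm'⟩ := exists_pow_eq_self_of_coprime hcop
    have : d y = y := by
      rw [← hm']
      exact Perm.pow_apply_eq_self_of_apply_eq_self hm m
    rw [← e, this]
  · exfalso
    let φ : D →* Perm {x // x ∈ O} :=
      { toFun := fun d => (d : Perm α).subtypePerm (hO d d.2)
        map_one' := Perm.ext fun x => Subtype.ext rfl
        map_mul' := fun d e => Perm.ext fun x => Subtype.ext rfl }
    have hne : φ ⟨d₀, hd₀⟩ ≠ 1 := fun h =>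
      hy (congrArg Subtype.val (DFunLike.congr_fun h (⟨y, 1, D.one_mem, rfl⟩ : {x // x ∈ O})))
    haveI : Nontrivial φ.range :=
      ⟨⟨⟨_, ⟨_, rfl⟩⟩, 1, fun h => hne (congrArg Subtype.val h)⟩⟩
    haveI := (hDp.of_surjective φ.rangeRestrict φ.rangeRestrict_surjective).center_nontrivial
    obtain ⟨⟨⟨_, d, rfl⟩, hz⟩, hz1⟩ := exists_ne (1 : Subgroup.center φ.range)
    have hcen : ∀ e ∈ D, ∀ x ∈ O, (d : Perm α) (e x) = e ((d : Perm α) x) := fun e he x hx => by
      have h1 : φ ⟨e, he⟩ * φ d = φ d * φ ⟨e, he⟩ :=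
        congrArg Subtype.val (Subgroup.mem_center_iff.mp hz ⟨φ ⟨e, he⟩, _, rfl⟩)
      have h2 := congrArg Subtype.val (DFunLike.congr_fun h1 (⟨x, hx⟩ : {x // x ∈ O}))
      exact h2.symm
    let a : Perm α := Perm.ofSubtype (φ d)
    have hin : ∀ x ∈ O, a x = (d : Perm α) x := fun x hx => by
      simp only [a]
      rw [Perm.ofSubtype_apply_of_mem _ hx]
      rfl
    have hout : ∀ x, x ∉ O → a x = x := fun x hx => Perm.ofSubtype_apply_of_not_mem _ hx
    have haD : a ∈ D := orbitCentralizer_le hM hB hD ⟨fun e he => Perm.ext fun x => by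
      rw [Perm.mul_apply, Perm.mul_apply]
      by_cases hx : x ∈ O
      · rw [hin _ ((hO e he x).2 hx), hin _ hx, hcen e he x hx]
      · rw [hout _ (mt (hO e he x).1 hx), hout _ hx], fun x => by
      by_cases hx : x ∈ O
      · exact ⟨d, d.2, hin x hx⟩
      · exact ⟨1, D.one_mem, hout x hx⟩⟩
    have hyO : y ∈ O := ⟨1, D.one_mem, rfl⟩
    have hfix : (d : Perm α) y = y := by
      have h1 : a (g y) = g (a y) := DFunLike.congr_fun (hg.commute a haD).eq y
      rw [hout _ hgy, hin y hyO] at h1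
      exact (g.injective h1).symm
    refine hz1 (Subtype.ext (Subtype.ext (Perm.ext fun x => Subtype.ext ?_)))
    obtain ⟨x, e, he, rfl⟩ := x
    show (d : Perm α) (e y) = e y
    rw [hcen e he y hyO, hfix]

/-- The defect group contains an elementary abelian subgroup of rank `w`. -/
theorem exists_elementary (hM : IsPModular p M) {B : Set (IrrCharacter (Perm α))}
    (hB : IsPBlock M B) {D : Subgroup (Perm α)} (hD : IsDefectGroup p M B D) {x : Perm α}
    (hx : x ^ p = 1) {w : ℕ} (hw : x.support.card = p * w) {χ : IrrCharacter (Perm α)}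
    (hχ : χ ∈ B) (hne : (χ : Perm α → ℂ) x ≠ 0) :
    ∃ E : Subgroup (Perm α), E ≤ D ∧ Nat.card E = p ^ w ∧ (∀ a ∈ E, a ^ p = 1) ∧
      (∀ a ∈ E, ∀ b ∈ E, a * b = b * a) ∧ (p = 2 → 0 < w → ∃ a ∈ E, Perm.sign a = -1) := by
  classical
  haveI : Fact p.Prime := ⟨hM.1⟩
  letI := Fintype.ofFinite (IrrCharacter (Perm α))
  obtain ⟨g, hg, hgc, -⟩ := exists_isSylowCent_of_isDefectGroup hM hB hD
  have hreg := regular_of_coeffRes_ne_zero hM (.of_isPBlock hB) hgc
  -- `x` is conjugate into `D`
  obtain ⟨c, hc⟩ : ∃ c, c * x * c⁻¹ ∈ D := by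
    by_contra! h
    refine hne (irr_eq_zero_of_not_mem_defect hM hB hD (isPPart_one_mul ?_ hM.1.ne_one) h hχ)
    rcases (Nat.dvd_prime hM.1).mp (orderOf_dvd_of_pow_eq_one hx) with e | e
    · exact ⟨0, by rw [e, pow_zero]⟩
    · exact ⟨1, by rw [e, pow_one]⟩
  set x' := c * x * c⁻¹ with hx'
  have hx'p : x' ^ p = 1 := by rw [hx', conj_pow, hx, mul_one, mul_inv_cancel]
  have hsupp : x'.support.card = p * w := by rw [hx', Perm.card_support_conj, hw]
  -- the elementary group of the cycles of `x'`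
  have hlen : ∀ e ∈ x'.cycleFactorsFinset, orderOf e = p := by
    intro e he
    have hc := mem_cycleFactorsFinset_iff.mp he
    have hmem : e.support.card ∈ x'.cycleType := by
      rw [cycleType_def]
      exact Multiset.mem_map_of_mem _ he
    have h2 := two_le_of_mem_cycleType hmem
    rcases (Nat.dvd_prime hM.1).mp ((dvd_of_mem_cycleType hmem).trans
      (orderOf_dvd_of_pow_eq_one hx'p)) with h | h
    · omega
    · rw [hc.1.orderOf, h]
  have hcount : x'.cycleFactorsFinset.card = w := by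
    have h1 : x'.cycleType.sum = p * w := by rw [sum_cycleType, hsupp]
    rw [cycleType_def] at h1
    have h2 : (x'.cycleFactorsFinset.1.map (Finset.card ∘ Perm.support)).sum
        = x'.cycleFactorsFinset.card * p := by
      show ∑ e ∈ x'.cycleFactorsFinset, e.support.card = _
      rw [Finset.sum_congr rfl fun e he =>
        (mem_cycleFactorsFinset_iff.mp he).1.orderOf.symm.trans (hlen e he), Finset.sum_const,
        smul_eq_mul]
    rw [h2, mul_comm] at h1
    exact Nat.eq_of_mul_eq_mul_left hM.1.pos h1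
  let f : ((e : x'.cycleFactorsFinset) → Subgroup.zpowers (e : Perm α)) →* Perm α :=
    (OnCycleFactors.kerParam x').comp (MonoidHom.inr _ _)
  have hf : Function.Injective f := fun u v h =>
    (Prod.ext_iff.mp (OnCycleFactors.kerParam_injective x' h)).2
  have hcard : Nat.card f.range = p ^ w := by
    rw [← Nat.card_congr (MonoidHom.ofInjective hf).toEquiv, Nat.card_pi]
    simp only [Nat.card_zpowers]
    rw [Finset.prod_congr rfl fun (e : x'.cycleFactorsFinset) _ => hlen e e.2, Finset.prod_const,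
      Finset.card_univ, Fintype.card_coe, hcount]
  have hexp : ∀ a ∈ f.range, a ^ p = 1 := by
    rintro _ ⟨v, rfl⟩
    rw [← map_pow, show v ^ p = 1 from funext fun e => Subtype.ext ?_, map_one]
    obtain ⟨i, hi⟩ := Subgroup.mem_zpowers_iff.mp (v e).2
    show ((v e : Perm α)) ^ p = 1
    rw [← hi, ← zpow_natCast, ← zpow_mul, mul_comm, zpow_mul, zpow_natCast, ← hlen e e.2,
      pow_orderOf_eq_one, one_zpow]
  have hEp : IsPGroup p f.range := IsPGroup.of_card hcard
  -- it centralizes `g`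
  have hcomm : ∀ a ∈ f.range, Commute a g := by
    rintro _ ⟨v, rfl⟩
    refine Disjoint.commute fun t => ?_
    by_cases ht : x' t = t
    · left
      show OnCycleFactors.kerParam x' (1, v) t = t
      rw [OnCycleFactors.kerParam_apply, dif_neg, map_one, Perm.one_apply]
      rw [cycleOf_mem_cycleFactorsFinset_iff, mem_support, not_not]
      exact ht
    · exact Or.inr (defect_class_fixes hM hB hD hg hreg hc ht)
  obtain ⟨c', hc'⟩ := hg.conjLE hEp hcomm
  set E := f.range.map (MulAut.conj c').toMonoidHom with hE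
  have hEc : Nat.card E = p ^ w := by
    rw [hE, Subgroup.card_map_of_injective (MulAut.conj c').injective, hcard]
  have hab : ∀ a ∈ E, ∀ b ∈ E, a * b = b * a := by
    rintro _ ⟨_, ⟨u, rfl⟩, rfl⟩ _ ⟨_, ⟨v, rfl⟩, rfl⟩
    rw [← map_mul, ← map_mul, ← map_mul, ← map_mul]
    refine congrArg _ (congrArg _ (funext fun e => Subtype.ext ?_))
    obtain ⟨i, hi⟩ := Subgroup.mem_zpowers_iff.mp (u e).2
    obtain ⟨j, hj⟩ := Subgroup.mem_zpowers_iff.mp (v e).2
    show (u e : Perm α) * (v e : Perm α) = (v e : Perm α) * (u e : Perm α)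
    rw [← hi, ← hj, ← zpow_add, ← zpow_add, add_comm]
  refine ⟨E, hc', hEc, ?_, hab, fun hp2 hw0 => ?_⟩
  · rintro _ ⟨a, ha, rfl⟩
    rw [← map_pow, hexp a ha, map_one]
  · obtain ⟨e, he⟩ := Finset.card_pos.mp (hcount.symm ▸ hw0 : 0 < x'.cycleFactorsFinset.card)
    have hmem : e ∈ f.range := by
      refine ⟨Pi.mulSingle ⟨e, he⟩ ⟨e, Subgroup.mem_zpowers e⟩, ?_⟩
      show Perm.OnCycleFactors.kerParam x' _ = e
      simp [Perm.OnCycleFactors.kerParam, Subgroup.noncommPiCoprod]
      exact MonoidHom.noncommPiCoprod_mulSingle _ _ _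
    have hcyc := (mem_cycleFactorsFinset_iff.mp he).1
    refine ⟨(MulAut.conj c').toMonoidHom e, ⟨e, hmem, rfl⟩, ?_⟩
    show Perm.sign (c' * e * c'⁻¹) = -1
    rw [map_mul, map_mul, map_inv, mul_comm, inv_mul_cancel_left, hcyc.sign, ← hcyc.orderOf,
      hlen e he, hp2]
    rfl

/-- The sectional rank of the defect group is at least `w`. -/
theorem le_rank_of_irr_ne_zero (hM : IsPModular p M) {B : Set (IrrCharacter (Perm α))}
    (hB : IsPBlock M B) {D : Subgroup (Perm α)} (hD : IsDefectGroup p M B D) {x : Perm α}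
    (hx : x ^ p = 1) {w : ℕ} (hw : x.support.card = p * w) {χ : IrrCharacter (Perm α)}
    (hχ : χ ∈ B) (hne : (χ : Perm α → ℂ) x ≠ 0) {s : ℕ} (hs : SectionalPRankLE p s D) :
    w ≤ s := by
  haveI : Fact p.Prime := ⟨hM.1⟩
  obtain ⟨E, hc', hEc, hexpE, hab, -⟩ := exists_elementary hM hB hD hx hw hχ hne
  let π : E →* (⊤ : Subgroup D) ⧸ (⊥ : Subgroup (⊤ : Subgroup D)) :=
    (QuotientGroup.mk' _).comp ((Subgroup.topEquiv.symm.toMonoidHom).comp (Subgroup.inclusion hc'))
  have hπ : Function.Injective π := fun a b h => by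
    have h2 := QuotientGroup.eq.mp h
    rw [Subgroup.mem_bot, inv_mul_eq_one] at h2
    exact Subgroup.inclusion_injective hc' (Subgroup.topEquiv.symm.injective h2)
  have hle := hs ⊤ ⊥ π.range ⟨⟨fun a b => ?_⟩⟩ ?_
  · rw [← Nat.card_congr (MonoidHom.ofInjective hπ).toEquiv, hEc] at hle
    exact (Nat.pow_le_pow_iff_right hM.1.one_lt).mp hle
  · obtain ⟨_, u, rfl⟩ := a
    obtain ⟨_, v, rfl⟩ := b
    exact Subtype.ext (by
      show π u * π v = π v * π u
      rw [← map_mul, ← map_mul]
      exact congrArg π (Subtype.ext (hab _ u.2 _ v.2)))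
  · rintro _ ⟨u, rfl⟩
    rw [← map_pow]
    exact (congrArg π (Subtype.ext (hexpE _ u.2))).trans π.map_one

end CfsgLib.SymBlock
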