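import Cfsg.Agent.Lib.SymBlock.Hooks
import Cfsg.Agent.Lib.SymBlock.Witness
import Mathlib.LinearAlgebra.Vandermonde

/-!
# The degree of a bead vector by hooks
-/

set_option autoImplicit false
set_option linter.unusedSectionVars false
set_option linter.style.haveILetI false

namespace CfsgLib.SymBlock

open Equiv Finset
open scoped Nat

variable {N : ℕ}

/-- The colouring number at the identity is the multinomial coefficient. -/
theorem col_one_mul : ∀ (n : ℕ) (a : Fin N → ℕ), ∑ i, a i = n →
    col (1 : Perm (Fin n)) (fun i => (a i : ℤ)) * ∏ i, (a i)! = n ! := by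
  intro n
  induction n with
  | zero =>
    intro a ha
    have h0 : ∀ i, a i = 0 := fun i => (sum_eq_zero_iff.1 ha) i (mem_univ i)
    haveI : Unique (Fixed (1 : Perm (Fin 0)) (fun i => (a i : ℤ))) :=
      { default := ⟨Fin.elim0, fun x => x.elim0, fun i => by simp [h0 i]⟩
        uniq := fun f => Subtype.ext (funext fun x => x.elim0) }
    rw [col, Nat.card_unique, one_mul, Nat.factorial_zero, prod_eq_one fun i _ => by rw [h0 i]; rfl]
  | succ n ih =>
    intro a ha
    have hrec : col (1 : Perm (Fin (n + 1))) (fun i => (a i : ℤ)) =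
        ∑ i, col (1 : Perm (Fin n)) ((fun i => (a i : ℤ)) - Pi.single i ((1 : ℕ) : ℤ)) := by
      have h := col_congr (finSumFinEquiv (m := n) (n := 1))
        (Equiv.sumCongr (1 : Perm (Fin n)) (1 : Perm (Fin 1))) (fun i => (a i : ℤ))
      rw [col_sumCongr _ _ (fun y z => by rw [Subsingleton.elim y z]), Nat.card_fin] at h
      rw [← h]
      congr 1
      ext x
      simp [Equiv.permCongr_apply]
    rw [hrec, sum_mul, sum_congr rfl fun i _ => ?_, ← sum_mul, ha, Nat.factorial_succ]
    rcases Nat.eq_zero_or_pos (a i) with h0 | hpos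
    · rw [col_eq_zero_of_neg _ (i := i) (by simp [h0]), zero_mul]
      exact (by rw [h0, zero_mul] : 0 = a i * n !)
    · set a' : Fin N → ℕ := Function.update a i (a i - 1) with ha'
      have e1 : (fun j => (a j : ℤ)) - Pi.single i ((1 : ℕ) : ℤ) = fun j => (a' j : ℤ) := by
        funext j
        rcases eq_or_ne j i with rfl | hj
        · simp [ha', Nat.cast_sub (show 1 ≤ a j by omega)]
        · simp [ha', hj]
      have e2 : ∑ j, a' j = n := by
        rw [ha', sum_update_of_mem (mem_univ i)]
        have := add_sum_erase univ a (mem_univ i)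
        rw [sdiff_singleton_eq_erase]
        omega
      have e3 : ∏ j, (a j)! = a i * ∏ j, (a' j)! := by
        rw [← mul_prod_erase univ (fun j => (a j)!) (mem_univ i),
          ← mul_prod_erase univ (fun j => (a' j)!) (mem_univ i), ← mul_assoc]
        congr 1
        · rw [ha', Function.update_self, Nat.mul_factorial_pred (by omega)]
        · exact prod_congr rfl fun j hj => by rw [ha', Function.update_of_ne (ne_of_mem_erase hj)]
      rw [e1, e3, mul_left_comm, ih a' e2]

/-- The degree formula with the factorials. -/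
theorem chi_one_mul_prod {n : ℕ} (b : Fin N → ℕ) (hs : ∑ i, b i = n + ∑ i : Fin N, (i : ℕ)) :
    chi (1 : Perm (Fin n)) (intBead b) * ∏ i, ((b i)! : ℤ) =
      (n ! : ℤ) * (Matrix.vandermonde fun i => (b i : ℤ)).det := by
  rw [Matrix.det_eval_matrixOfPolynomials_eq_det_vandermonde (fun i => (b i : ℤ))
    (fun j : Fin N => descPochhammer ℤ (j : ℕ))
    (fun j => descPochhammer_natDegree ℤ _) (fun j => monic_descPochhammer ℤ _),
    ← Matrix.det_transpose, Matrix.det_apply', chi, sum_mul, mul_sum]
  refine sum_congr rfl fun σ _ => ?_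
  simp only [Matrix.transpose_apply, Matrix.of_apply, descPochhammer_eval_eq_descFactorial]
  by_cases h : ∀ i, (σ i : ℕ) ≤ b i
  · have hcol := col_one_mul n (fun i => b i - (σ i : ℕ)) (by
      have hsum : ∑ i, (b i - (σ i : ℕ)) + ∑ i, (σ i : ℕ) = ∑ i, b i := by
        rw [← sum_add_distrib]; exact sum_congr rfl fun i _ => Nat.sub_add_cancel (h i)
      rw [Equiv.sum_comp σ (fun i : Fin N => (i : ℕ))] at hsum
      omega)
    have hprod : ∏ i, (b i)! = (∏ i, (b i - (σ i : ℕ))!) * ∏ i, (b i).descFactorial (σ i : ℕ) := by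
      rw [← prod_mul_distrib]
      exact prod_congr rfl fun i _ => (Nat.factorial_mul_descFactorial (h i)).symm
    rw [show (fun i => intBead b i - ((σ i : ℕ) : ℤ)) = fun i => ((b i - (σ i : ℕ) : ℕ) : ℤ) from
      funext fun i => by simp [intBead, Nat.cast_sub (h i)]]
    rw [← hcol, show (∏ i, ((b i)! : ℤ)) = ((∏ i, (b i)! : ℕ) : ℤ) by push_cast; rfl, hprod]
    push_cast
    ring
  · push Not at h
    obtain ⟨i, hi⟩ := h
    rw [col_eq_zero_of_neg _ (i := i) (by simp [intBead]; omega), Nat.cast_zero, mul_zero, zero_mul,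
      prod_eq_zero (mem_univ i) (by rw [Nat.descFactorial_eq_zero_iff_lt.2 hi, Nat.cast_zero]),
      mul_zero, mul_zero]

/-- The degree times the product of the hook lengths is `n!`. -/
theorem natAbs_chi_one_mul_hooks {n : ℕ} (b : Fin N → ℕ) (hb : Function.Injective b)
    (hs : ∑ i, b i = n + ∑ i : Fin N, (i : ℕ)) :
    (chi (1 : Perm (Fin n)) (intBead b)).natAbs *
      ∏ q ∈ Hooks.hooks (univ.image b), (q.1 - q.2) = n ! := by
  set τ := Tuple.sort b
  set c := b ∘ τ with hc
  have hcm : StrictMono c := (Tuple.monotone_sort b).strictMono_of_injective (hb.comp τ.injective)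
  have himg : univ.image c = univ.image b := by
    rw [hc, ← image_image, image_univ_of_surjective τ.surjective]
  have hcs : ∑ i, c i = n + ∑ i : Fin N, (i : ℕ) := hs ▸ Equiv.sum_comp τ b
  have habs : (chi (1 : Perm (Fin n)) (intBead c)).natAbs = (chi (1 : Perm (Fin n)) (intBead b)).natAbs := by
    rw [show intBead c = intBead b ∘ τ from rfl, chi_comp, Int.natAbs_mul, Int.units_natAbs, one_mul]
  rw [← habs, ← himg]
  have hdet : ((Matrix.vandermonde fun i => (c i : ℤ)).det).natAbs =
      ∏ x ∈ univ.image c, ∏ y ∈ (univ.image c).filter (· < x), (x - y) := by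
    rw [Matrix.det_vandermonde, prod_image fun _ _ _ _ h => hcm.injective h]
    have : ∀ i, ((univ.image c).filter (· < c i)) = (Iio i).image c := fun i => by
      ext y
      simp only [mem_filter, mem_image, mem_univ, true_and, mem_Iio]
      exact ⟨fun ⟨⟨j, hj⟩, hy⟩ => ⟨j, hcm.lt_iff_lt.1 (hj ▸ hy), hj⟩,
        fun ⟨j, hj, hjy⟩ => ⟨⟨j, hjy⟩, hjy ▸ hcm hj⟩⟩
    simp only [this, prod_image fun _ _ _ _ h => hcm.injective h]
    rw [prod_comm' (t' := univ) (s' := fun j => Iio j) (by simp)]
    rw [show (∏ j, ∏ i ∈ Iio j, ((c j : ℤ) - c i)) = ((∏ j, ∏ i ∈ Iio j, (c j - c i) : ℕ) : ℤ) by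
      push_cast
      exact prod_congr rfl fun j _ => prod_congr rfl fun i hi => by
        rw [Nat.cast_sub (hcm (mem_Iio.1 hi)).le]]
    exact Int.natAbs_natCast _
  have h := congrArg Int.natAbs (chi_one_mul_prod c hcs)
  rw [Int.natAbs_mul, Int.natAbs_mul, Int.natAbs_natCast, hdet,
    show (∏ i, ((c i)! : ℤ)) = ((∏ i, (c i)! : ℕ) : ℤ) by push_cast; rfl, Int.natAbs_natCast,
    ← prod_image (f := fun x : ℕ => x !) (fun _ _ _ _ h => hcm.injective h),
    ← Hooks.prod_hooks_mul, ← mul_assoc] at h
  refine Nat.eq_of_mul_eq_mul_right ?_ h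
  exact prod_pos fun x _ => prod_pos fun y hy => by
    have := (mem_filter.1 hy).2
    omega

/-- The valuation of the degree. -/
theorem factorization_chi_one {n p : ℕ} (hp : p.Prime) (b : Fin N → ℕ) (hb : Function.Injective b)
    (hs : ∑ i, b i = n + ∑ i : Fin N, (i : ℕ)) :
    (chi (1 : Perm (Fin n)) (intBead b)).natAbs.factorization p + Hooks.hookVal p (univ.image b) =
      (n !).factorization p := by
  have h := natAbs_chi_one_mul_hooks b hb hs
  have h0 : (chi (1 : Perm (Fin n)) (intBead b)).natAbs *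
      ∏ q ∈ Hooks.hooks (univ.image b), (q.1 - q.2) ≠ 0 := h ▸ Nat.factorial_ne_zero n
  rw [← h, Nat.factorization_mul (left_ne_zero_of_mul h0) (right_ne_zero_of_mul h0),
    Finsupp.add_apply, Hooks.factorization_prod_hooks hp]

end CfsgLib.SymBlock
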