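import Cfsg.Agent.Lib.SymBlock.Witness

/-!
# Values at a product of `w` cycles times a permutation of the remaining points

`exists_factor` : for a product `x` of `w` cycles of length `p` and `v` fixing its support, every
character with the same counts takes at `x * v` a multiple of one function of `v`.
-/

open Equiv Finset

namespace CfsgLib.SymBlock

variable {N n p : ℕ}

/-- A permutation of the first points, fixing the added ones. -/
def padPerm (n₀ p : ℕ) : (k : ℕ) → Perm (Fin n₀) → Perm (Fin (cycleSize n₀ p k))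
  | 0, u => u
  | k + 1, u => finSumFinEquiv.permCongr (Equiv.sumCongr (padPerm n₀ p k u) 1)

/-- Cycles added to a permutation. -/
def withPerm (n₀ p : ℕ) : (k : ℕ) → Perm (Fin n₀) → Perm (Fin (cycleSize n₀ p k))
  | 0, u => u
  | k + 1, u => join (withPerm n₀ p k u) p

theorem join_mul {m r : ℕ} (h u : Perm (Fin m)) :
    join (h * u) r = join h r * finSumFinEquiv.permCongr (Equiv.sumCongr u 1) := by
  ext x
  obtain ⟨y, rfl⟩ := finSumFinEquiv.surjective x
  rcases y with a | b <;> simp [join]

theorem permCongr_one {m r : ℕ} :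
    finSumFinEquiv.permCongr (Equiv.sumCongr (1 : Perm (Fin m)) (1 : Perm (Fin r))) = 1 := by
  ext x
  obtain ⟨y, rfl⟩ := finSumFinEquiv.surjective x
  rcases y with a | b <;> simp

theorem permCongr_injective {m r : ℕ} : Function.Injective
    fun a : Perm (Fin m) => finSumFinEquiv.permCongr (Equiv.sumCongr a (1 : Perm (Fin r))) := by
  intro a b h
  ext t
  have h2 := DFunLike.congr_fun h (finSumFinEquiv (.inl t))
  exact congrArg Fin.val (by simpa using h2)

theorem exists_split_fix {m r : ℕ} (h : Perm (Fin m)) (hr : ∀ b : Fin r, finRotate r b ≠ b)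
    (v : Perm (Fin (m + r))) (hv : ∀ t ∈ (join h r).support, v t = t) :
    ∃ a, v = finSumFinEquiv.permCongr (Equiv.sumCongr a 1) ∧ ∀ t ∈ h.support, a t = t := by
  classical
  set v' : Perm (Fin m ⊕ Fin r) := finSumFinEquiv.symm.permCongr v with hv'
  have hmem : ∀ y, join h r (finSumFinEquiv y) ≠ finSumFinEquiv y → v' y = y := by
    intro y hy
    rw [hv', Equiv.permCongr_apply, Equiv.symm_symm]
    exact (congrArg finSumFinEquiv.symm (hv (finSumFinEquiv y) (Perm.mem_support.mpr hy))).trans
      (Equiv.symm_apply_apply _ _)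
  have hinr : ∀ b, v' (.inr b) = .inr b := fun b => hmem _ (by simpa [join] using hr b)
  obtain ⟨⟨a, b⟩, hab⟩ := Perm.mem_sumCongrHom_range_of_perm_mapsTo_inl (σ := v') (by
    rintro _ ⟨c, rfl⟩
    rcases h' : v' (.inl c) with d | d
    · exact ⟨d, rfl⟩
    · exact absurd (v'.injective (h'.trans (hinr d).symm)) Sum.inl_ne_inr)
  have hb : b = 1 := Perm.ext fun c => by
    have h1 := hinr c
    rw [← hab] at h1
    simpa using h1
  refine ⟨a, ?_, fun t ht => ?_⟩
  · have h2 : v = finSumFinEquiv.permCongr v' := by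
      ext t
      simp [hv']
    rw [h2, ← hab, hb]
    rfl
  · have h1 := hmem (.inl t) (by simpa [join] using Perm.mem_support.mp ht)
    rw [← hab] at h1
    simpa using h1

theorem withPerm_eq (n₀ p : ℕ) (u : Perm (Fin n₀)) :
    ∀ k, withPerm n₀ p k u = cyclePerm n₀ p k * padPerm n₀ p k u
  | 0 => (one_mul u).symm
  | k + 1 => (congrArg (fun h => join h p) (withPerm_eq n₀ p u k)).trans (join_mul _ _)

theorem padPerm_one (n₀ p : ℕ) : ∀ k, padPerm n₀ p k 1 = 1
  | 0 => rfl
  | k + 1 => (congrArg (fun a : Perm (Fin (cycleSize n₀ p k)) =>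
      finSumFinEquiv.permCongr (Equiv.sumCongr a 1)) (padPerm_one n₀ p k)).trans permCongr_one

theorem padPerm_injective (n₀ p : ℕ) : ∀ k, Function.Injective (padPerm n₀ p k)
  | 0 => fun _ _ h => h
  | k + 1 => fun _ _ h => padPerm_injective n₀ p k (permCongr_injective h)

theorem exists_padPerm (hp : p.Prime) (n₀ : ℕ) : ∀ k, ∀ v : Perm (Fin (cycleSize n₀ p k)),
    (∀ t ∈ (cyclePerm n₀ p k).support, v t = t) → ∃ u, v = padPerm n₀ p k u
  | 0, v, _ => ⟨v, rfl⟩
  | k + 1, v, hv => by
    have hne : ∀ b : Fin p, finRotate p b ≠ b := by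
      obtain ⟨q, hq⟩ : ∃ q, p = q + 2 := ⟨p - 2, by have := hp.two_le; omega⟩
      subst hq
      intro b
      exact Perm.mem_support.mp (by rw [support_finRotate]; exact Finset.mem_univ b)
    obtain ⟨a, ha, hfix⟩ := exists_split_fix (cyclePerm n₀ p k) hne v hv
    obtain ⟨u, rfl⟩ := exists_padPerm hp n₀ k a hfix
    exact ⟨u, ha⟩

/-- Values at `x * v` for the vectors with the same counts are multiples of one function of `v`. -/
theorem exists_factor (hp : p.Prime) (b₀ : Fin N → ℕ) (hb₀ : Function.Injective b₀)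
    (hsum : ∑ i, b₀ i = n + ∑ i : Fin N, (i : ℕ)) :
    ∃ x : Perm (Fin n), x ^ p = 1 ∧ x.support.card = p * Runner.weight p b₀ ∧
      ∃ φ : Perm (Fin n) → ℤ, ∀ b : Fin N → ℕ, Function.Injective b → Runner.SameCnt p b b₀ →
        ∑ i, b i = ∑ i, b₀ i → chi x (intBead b) ≠ 0 ∧
          ∃ c : ℤ, ∀ v : Perm (Fin n), (∀ t ∈ x.support, v t = t) →
            chi (x * v) (intBead b) = c * φ v := by
  classical
  set w := Runner.weight p b₀
  have hcinj := Runner.core_injective hp.pos hb₀
  obtain ⟨n₀, hn₀⟩ : ∃ n₀, ∑ i, Runner.core p b₀ i = n₀ + ∑ i : Fin N, (i : ℕ) :=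
    ⟨_, (Nat.sub_add_cancel (sum_fin_le_of_injective hcinj)).symm⟩
  have hn : n = cycleSize n₀ p w := by
    have : ∑ i, b₀ i = ∑ i, Runner.core p b₀ i + p * w := Runner.sum_eq (p := p) hb₀
    rw [cycleSize_eq]
    omega
  subst hn
  refine ⟨cyclePerm n₀ p w, (cyclePerm_spec hp n₀ w).1, (cyclePerm_spec hp n₀ w).2,
    fun v => if h : ∃ u, v = padPerm n₀ p w u
      then chi h.choose (intBead (Runner.core p b₀)) else 0, ?_⟩
  intro b hb hcnt hsb
  have hwb : Runner.weight p b = w := Runner.weight_eq hp.pos hb hb₀ hcnt hsb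
  obtain ⟨m, hm, hF⟩ := Runner.eval_eq_smul (K := Perm (Fin n₀) → ℤ) hp.pos
    (fun k c u => chi (withPerm n₀ p k u) (intBead c)) b hb
    (fun k c hc => funext fun u => chi_intBead_eq_zero _ hc) (fun k _ c _ _ => funext fun u => by
      rw [Finset.sum_apply]
      show chi (join (withPerm n₀ p k u) p) (intBead c) = _
      rw [chi_join _ hp.pos]
      refine Finset.sum_congr rfl fun i _ => ?_
      split_ifs with hi
      · congr 1
        funext j
        rcases eq_or_ne j i with rfl | hj
        · simp [intBead, Nat.cast_sub hi]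
        · simp [intBead, Pi.single_eq_of_ne hj]
      · refine chi_eq_zero_of_neg _ _ (i := i) ?_
        simp [intBead]
        omega)
  rw [hwb] at hF
  obtain ⟨τ, hτ⟩ := Runner.exists_perm (Runner.core_injective hp.pos hb₀)
    (Runner.core_injective hp.pos hb) (Runner.image_core_eq hp.pos hb₀ hb fun a => (hcnt a).symm)
  have hval : ∀ u, chi (cyclePerm n₀ p w * padPerm n₀ p w u) (intBead b) =
      ((m : ℤ) * (Perm.sign τ : ℤ)) * chi u (intBead (Runner.core p b₀)) := by
    intro u
    rw [← withPerm_eq]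
    have h1 := congrFun hF u
    simp only [Pi.smul_apply, nsmul_eq_mul] at h1
    rw [h1, hτ, mul_assoc]
    exact congrArg ((m : ℤ) * ·) (chi_comp (α := Fin n₀) u (intBead (Runner.core p b₀)) τ)
  refine ⟨?_, (m : ℤ) * (Perm.sign τ : ℤ), fun v hv => ?_⟩
  · have h1 := hval 1
    rw [padPerm_one, mul_one] at h1
    rw [h1]
    refine mul_ne_zero (mul_ne_zero (by exact_mod_cast hm.ne') (Units.ne_zero _)) ?_
    set σ := Tuple.sort (intBead (Runner.core p b₀))
    have hst : IsState n₀ (intBead (Runner.core p b₀) ∘ σ) := by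
      refine ⟨(Tuple.monotone_sort _).strictMono_of_injective ?_, fun i => Int.natCast_nonneg _, ?_⟩
      · exact (Nat.cast_injective.comp hcinj).comp σ.injective
      · rw [show ∑ i, (intBead (Runner.core p b₀) ∘ σ) i = ∑ i, intBead (Runner.core p b₀) i from
          Equiv.sum_comp σ _]
        simp only [intBead]
        exact_mod_cast hn₀
    intro h0
    refine chi_one_ne ⟨_, hst⟩ ?_
    show chi _ (intBead (Runner.core p b₀) ∘ σ) = 0
    rw [chi_comp, h0, mul_zero]
  · obtain ⟨u, rfl⟩ := exists_padPerm hp n₀ w v hv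
    have hex : ∃ u', padPerm n₀ p w u = padPerm n₀ p w u' := ⟨u, rfl⟩
    rw [hval]
    simp only [dif_pos hex]
    rw [← padPerm_injective n₀ p w hex.choose_spec]

end CfsgLib.SymBlock
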