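import Cfsg.Agent.Lib.SymBlock.Single
import Cfsg.Agent.Lib.SymBlock.Degree
import Cfsg.Agent.Lib.SymBlock.AltTools
import Cfsg.Agent.Lib.SymBlock.AltClass
import Cfsg.Agent.Lib.SymBlock.Conj
import Cfsg.Agent.Lib.Block.BrauerFeit
import Cfsg.Agent.Lib.Block.Cartan
import Cfsg.Agent.Lib.Char.DegreeRatio

/-!
# Heights in blocks of symmetric and alternating groups
-/

open Equiv Finset Cfsg CfsgLib.Block
open scoped Nat

set_option linter.unusedSectionVars false

namespace CfsgLib.SymBlock

variable {N n p : ℕ}

/-- The set of beadFin of a state. -/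
def beadFin (β : St N n) : Finset ℕ := univ.image (natBead β)

theorem exists_state {b : Fin N → ℕ} (hb : Function.Injective b)
    (hs : ∑ i, b i = n + ∑ i : Fin N, (i : ℕ)) : ∃ β : St N n, beadFin β = univ.image b := by
  set τ := Tuple.sort b
  have hmono : StrictMono (b ∘ τ) :=
    (Tuple.monotone_sort b).strictMono_of_injective (hb.comp τ.injective)
  have hst : IsState n (intBead (b ∘ τ)) := by
    refine ⟨fun i j hij => by simpa [intBead] using hmono hij, fun i => Int.natCast_nonneg _, ?_⟩
    have h1 : ∑ i, (b ∘ τ) i = n + ∑ i : Fin N, (i : ℕ) := (Equiv.sum_comp τ b).trans hs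
    simp only [intBead]
    exact_mod_cast h1
  refine ⟨⟨_, hst⟩, ?_⟩
  rw [beadFin, show natBead (⟨_, hst⟩ : St N n) = b ∘ τ from funext fun i => Int.toNat_natCast _,
    ← image_image, image_univ_equiv]

theorem beadFin_subset (hN : n ≤ N) (β : St N n) : beadFin β ⊆ range (2 * N) := fun x hx => by
  obtain ⟨i, -, rfl⟩ := mem_image.1 hx
  obtain ⟨K, rfl⟩ : ∃ K, N = K + 1 := ⟨N - 1, by have := i.2; omega⟩
  have h1 := sum_fin_le_of_injective ((natBead_injective β).comp (Fin.succAbove_right_injective (p := i)))
  have hs := sum_natBead β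
  rw [Fin.sum_univ_succAbove _ i, Fin.sum_univ_castSucc (fun j : Fin (K + 1) => (j : ℕ))] at hs
  simp only [Fin.val_castSucc, Fin.val_last, Function.comp_apply] at h1 hs
  rw [mem_range]
  omega

theorem card_beadFin (β : St N n) : #(beadFin β) = N := by
  rw [beadFin, card_image_of_injective _ (natBead_injective β), card_univ, Fintype.card_fin]

theorem beadFin_injective : Function.Injective (beadFin : St N n → Finset ℕ) := by
  intro β γ h
  refine Subtype.ext (funext fun i => ?_)
  have he : natBead β = natBead γ := ((natBead_strictMono β).range_inj (natBead_strictMono γ)).1 (by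
    simpa [beadFin, Set.image_univ] using congrArg (fun Z : Finset ℕ => (Z : Set ℕ)) h)
  rw [← natBead_cast β i, ← natBead_cast γ i, he]

/-- The valuation of a degree. -/
theorem degVal_add_hookVal (hN : n ≤ N) (hp : p.Prime) (β : St N n) :
    degVal p (stEquiv hN β) + Hooks.hookVal p (beadFin β) = (n !).factorization p :=
  by
  have h := factorization_chi_one hp (natBead β) (natBead_injective β) (sum_natBead β)
  rw [show intBead (natBead β) = β.1 from funext (natBead_cast β)] at h
  obtain ⟨hd, -⟩ := charDegree_eq (stEquiv hN β)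
  rw [irr_eq hN, ← Int.cast_mul, ← Int.cast_natCast, Int.cast_inj] at hd
  show (charDegree (stEquiv hN β : Perm (Fin n) → ℂ)).factorization p +
    Hooks.hookVal p (univ.image (natBead β)) = _
  rw [show charDegree (stEquiv hN β : Perm (Fin n) → ℂ) = (chi (1 : Perm (Fin n)) β.1).natAbs by
    rcases eps_sq β with e | e <;> rw [e] at hd <;> omega]
  exact h

/-- The sign twist reflects the beadFin. -/
theorem exists_twist_beadFin (hN : n ≤ N) (β : St N n) :
    ∃ γ : St N n, stEquiv hN γ = twist (stEquiv hN β) ∧ beadFin γ = Runner.star N (beadFin β) := by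
  classical
  have hsub := beadFin_subset hN β
  have hXc := card_beadFin β
  have hc : #(Runner.star N (beadFin β)) = N := by have := Runner.card_star hsub; omega
  set c : Fin N → ℕ := ⇑((Runner.star N (beadFin β)).orderEmbOfFin hc) with hcdef
  have hcm : StrictMono c := ((Runner.star N (beadFin β)).orderEmbOfFin hc).strictMono
  have hci : univ.image c = Runner.star N (beadFin β) := image_orderEmbOfFin_univ _ hc
  have hcs : ∑ i, c i = n + ∑ i : Fin N, (i : ℕ) := by
    rw [← Runner.sum_image' hcm.injective, hci, Runner.sum_star hsub hXc, beadFin,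
      Runner.sum_image' (natBead_injective β), sum_natBead]
  have hst : IsState n (intBead c) := by
    refine ⟨fun i j hij => by simpa [intBead] using hcm hij, fun i => Int.natCast_nonneg _, ?_⟩
    simp only [intBead]
    exact_mod_cast hcs
  set γ : St N n := ⟨intBead c, hst⟩ with hγdef
  have hint : intBead (natBead β) = β.1 := funext (natBead_cast β)
  have hchi : ∀ g : Perm (Fin n), chi g γ.1 = Perm.sign g * chi g β.1 := fun g => by
    rw [← hint]
    exact chi_star (natBead_strictMono β) hcm hsub (sum_natBead β) hci g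
  have hdeg : eps γ = eps β := by
    obtain ⟨d, hd, h1⟩ := Char.isIrrCharacter_degree (stEquiv hN β).2
    obtain ⟨d', hd', h2⟩ := Char.isIrrCharacter_degree (stEquiv hN γ).2
    rw [irr_eq hN, ← Int.cast_mul, ← Int.cast_natCast, Int.cast_inj] at h1 h2
    rw [hchi 1, map_one, Units.val_one, one_mul] at h2
    rcases eps_sq β with e | e <;> rcases eps_sq γ with e' | e' <;> rw [e] at h1 ⊢ <;> rw [e'] at h2 ⊢ <;>
      omega
  refine ⟨γ, Subtype.ext (funext fun g => ?_), ?_⟩
  · rw [twist_apply, irr_eq hN, irr_eq hN, hchi, hdeg, Int.cast_mul]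
    ring
  · rw [← hci, beadFin, show natBead γ = c from funext fun i => Int.toNat_natCast (c i)]

/-- For two runners a fixed character has equally many hooks on both. -/
theorem card_runner_eq_of_twist (hN : n ≤ N) {β : St N n}
    (h : twist (stEquiv hN β) = stEquiv hN β) :
    (Hooks.hooks (Hooks.runner 2 0 (beadFin β))).card = (Hooks.hooks (Hooks.runner 2 1 (beadFin β))).card := by
  obtain ⟨γ, hγ, hb⟩ := exists_twist_beadFin hN β
  rw [h] at hγ
  rw [(stEquiv hN).injective hγ] at hb
  have h1 := Hooks.card_hooks_runner_star (a := 0) (beadFin_subset hN β) two_pos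
  rw [← hb] at h1
  exact h1.symm

/-- For two runners a fixed character does not attain the maximal valuation. -/
theorem hookVal_lt_of_twist (hN : n ≤ N) {β : St N n} (h : twist (stEquiv hN β) = stEquiv hN β)
    (hw : 0 < Runner.weight 2 (natBead β)) :
    Hooks.hookVal 2 (beadFin β) < ((2 * Runner.weight 2 (natBead β))!).factorization 2 := by
  haveI := Fact.mk Nat.prime_two
  have he := card_runner_eq_of_twist hN h
  have hsum := Hooks.weight_eq_sum_runner (p := 2) two_pos (natBead_injective β)
  rw [Hooks.hookVal_eq_runner Nat.prime_two]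
  simp only [Hooks.sum_two] at hsum ⊢
  have hb : univ.image (natBead β) = beadFin β := rfl
  rw [hb] at hsum
  set k := (Hooks.hooks (Hooks.runner 2 0 (beadFin β))).card with hk
  rw [← he] at hsum ⊢
  have hle : ∀ X : Finset ℕ, Hooks.hookVal 2 X ≤ padicValNat 2 ((Hooks.hooks X).card)! := fun X => by
    rw [Hooks.hookVal_eq_hval Nat.prime_two, Hooks.card_hooks]
    exact Hooks.hval_le 2 X
  have h0 := hle (Hooks.runner 2 0 (beadFin β))
  have h1 := hle (Hooks.runner 2 1 (beadFin β))
  rw [← hk] at h0
  rw [← he] at h1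
  rw [Nat.factorization_def _ Nat.prime_two, padicValNat_factorial_mul, hsum,
    show k + k = 2 * k by omega, padicValNat_factorial_mul]
  have hlt : padicValNat 2 k ! < k := by
    have h2 := sub_one_mul_padicValNat_factorial (p := 2) k
    have hpos : 0 < k := by omega
    have h3 : 0 < (Nat.digits 2 k).sum := by
      by_contra h4
      have h5 : ∀ d ∈ Nat.digits 2 k, d = 0 := fun d hd =>
        Nat.le_zero.1 (le_trans (List.le_sum_of_mem hd) (not_lt.1 h4))
      exact Nat.getLast_digit_ne_zero 2 hpos.ne' (h5 _ (List.getLast_mem _))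
    have h6 := Nat.digit_sum_le 2 k
    omega
  omega

section Block

variable {M : Ideal AlgInt} [M.IsMaximal] [Fact p.Prime]

theorem mem_block_iff (hN : n ≤ N) (hM : IsPModular p M) {B : Set (IrrCharacter (Perm (Fin n)))}
    (hB : IsPBlock M B) {β₀ : St N n} (h : stEquiv hN β₀ ∈ B) (β : St N n) :
    stEquiv hN β ∈ B ↔ Runner.SameCnt p (natBead β) (natBead β₀) := by
  haveI : NeZero p := ⟨hM.1.ne_zero⟩
  rw [← sameRes_iff_sameCnt, block_eq_countClass hN hM hB h]
  constructor
  · rintro ⟨γ, hγ, he⟩
    rwa [(stEquiv hN).injective he] at hγ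
  · exact fun hβ => ⟨β, hβ, rfl⟩

theorem weight_eq_of_mem (hN : n ≤ N) (hM : IsPModular p M) {B : Set (IrrCharacter (Perm (Fin n)))}
    (hB : IsPBlock M B) {β₀ : St N n} (h : stEquiv hN β₀ ∈ B) {β : St N n}
    (hβ : stEquiv hN β ∈ B) : Runner.weight p (natBead β) = Runner.weight p (natBead β₀) :=
  Runner.weight_eq hM.1.pos (natBead_injective β) (natBead_injective β₀)
    ((mem_block_iff hN hM hB h β).1 hβ) (by rw [sum_natBead, sum_natBead])

theorem hookVal_le_of_mem (hN : n ≤ N) (hM : IsPModular p M) {B : Set (IrrCharacter (Perm (Fin n)))}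
    (hB : IsPBlock M B) {β₀ : St N n} (h : stEquiv hN β₀ ∈ B) {β : St N n}
    (hβ : stEquiv hN β ∈ B) :
    Hooks.hookVal p (beadFin β) ≤ ((p * Runner.weight p (natBead β₀))!).factorization p :=
  weight_eq_of_mem hN hM hB h hβ ▸ Hooks.hookVal_le hM.1 (natBead_injective β)

/-- A bead vector with the counts of the block gives a member. -/
theorem exists_mem_of_config (hN : n ≤ N) (hM : IsPModular p M) {B : Set (IrrCharacter (Perm (Fin n)))}
    (hB : IsPBlock M B) {β₀ : St N n} (h : stEquiv hN β₀ ∈ B) {b : Fin N → ℕ}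
    (hb : Function.Injective b) (hc : Runner.SameCnt p b (natBead β₀))
    (hs : ∑ i, b i = ∑ i, natBead β₀ i) :
    ∃ β : St N n, beadFin β = univ.image b ∧ stEquiv hN β ∈ B := by
  obtain ⟨β, hβ⟩ := exists_state hb (hs.trans (sum_natBead β₀))
  refine ⟨β, hβ, (mem_block_iff hN hM hB h β).2 fun a => ?_⟩
  rw [← Runner.card_filter_image (natBead_injective β) a,
    show univ.image (natBead β) = univ.image b from hβ, Runner.card_filter_image hb]
  exact hc a

theorem minDeg_add (hN : n ≤ N) (hM : IsPModular p M) {B : Set (IrrCharacter (Perm (Fin n)))}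
    (hB : IsPBlock M B) {β₀ : St N n} (h : stEquiv hN β₀ ∈ B)
    (hbig : p * (n + 1) + n ≤ N) :
    minDeg p B + ((p * Runner.weight p (natBead β₀))!).factorization p = (n !).factorization p := by
  have hwn : Runner.weight p (natBead β₀) ≤ n := by
    have h1 := Runner.sum_eq (p := p) (natBead_injective β₀)
    have h2 := sum_fin_le_of_injective (Runner.core_injective hM.1.pos (natBead_injective β₀))
    have h3 := sum_natBead β₀
    have h4 := Nat.le_mul_of_pos_left (Runner.weight p (natBead β₀)) hM.1.pos
    omega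
  obtain ⟨b, hb, hc, hs, hv⟩ := Hooks.exists_config_max hM.1 (natBead β₀) (natBead_injective β₀)
    fun a ha => hwn.trans (Hooks.count_ge (natBead_injective β₀) (sum_natBead β₀) hbig a ha)
  obtain ⟨β, hβ, hmem⟩ := exists_mem_of_config hN hM hB h hb hc hs
  rw [← hβ] at hv
  have h1 := degVal_add_hookVal hN hM.1 β
  have h2 := minDeg_le (p := p) hmem
  obtain ⟨χ, hχ, hmin⟩ := exists_minDeg (p := p) (CfsgLib.Block.isPBlock_nonempty hB)
  obtain ⟨γ, rfl⟩ := (stEquiv hN).surjective χ
  have h3 := degVal_add_hookVal hN hM.1 γ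
  have h4 := hookVal_le_of_mem hN hM hB h hχ
  omega

theorem defect_card (hN : n ≤ N) (hM : IsPModular p M) {B : Set (IrrCharacter (Perm (Fin n)))}
    (hB : IsPBlock M B) {β₀ : St N n} (h : stEquiv hN β₀ ∈ B) (hbig : p * (n + 1) + n ≤ N)
    {D : Subgroup (Perm (Fin n))} (hD : IsDefectGroup p M B D) :
    Nat.card D = p ^ ((p * Runner.weight p (natBead β₀))!).factorization p := by
  have h1 := minDeg_add hN hM hB h hbig
  rw [defectGroup_card hM hB hD]
  congr 1
  show (Nat.card (Perm (Fin n))).factorization p - minDeg p B = _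
  rw [Nat.card_eq_fintype_card, Fintype.card_perm, Fintype.card_fin]
  omega

end Block

/-- The twist stays in a `2`-block. -/
theorem twist_mem_two {M : Ideal AlgInt} [M.IsMaximal] (hM : IsPModular 2 M)
    {B : Set (IrrCharacter (Perm (Fin n)))} (hB : IsPBlock M B) {χ : IrrCharacter (Perm (Fin n))}
    (hχ : χ ∈ B) : twist χ ∈ B := by
  haveI := charP_resField hM
  refine (isPBlock_sameBlock hB hχ).2 (sameBlock_iff_centralRes.2 fun g => ?_)
  rw [centralRes_twist]
  rcases Int.units_eq_one_or (Perm.sign g) with e | e <;> simp [e, CharTwo.neg_eq]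

section Alt

variable [Nontrivial (Fin n)]

/-- The valuation of a constituent of a restriction. -/
theorem degVal_constituent (hp : p.Prime) {χ : IrrCharacter (Perm (Fin n))}
    [Decidable (twist χ = χ)] {θ : IrrCharacter (alternatingGroup (Fin n))}
    (h : classInner (resAlt χ) (θ : alternatingGroup (Fin n) → ℂ) ≠ 0) :
    degVal p θ + (if p = 2 ∧ twist χ = χ then 1 else 0) = degVal p χ := by
  classical
  obtain ⟨hc, hc0⟩ := charDegree_eq χ
  obtain ⟨hd, hd0⟩ := charDegree_eq θ
  have h' : classInner (fun a : alternatingGroup (Fin n) => (χ : Perm (Fin n) → ℂ) a)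
      (θ : alternatingGroup (Fin n) → ℂ) ≠ 0 := h
  obtain ⟨hdvd, hidx⟩ := Char.ratio_dvd_index (alternatingGroup (Fin n)) χ.2 θ.2 h' hc hd
  rw [alternatingGroup.index_eq_two] at hidx
  set c := charDegree (χ : Perm (Fin n) → ℂ)
  set d := charDegree (θ : alternatingGroup (Fin n) → ℂ)
  obtain ⟨e, he⟩ := hdvd
  rw [he, Nat.mul_div_cancel_left _ (Nat.pos_of_ne_zero hd0)] at hidx
  by_cases htw : twist χ = χ
  · -- two constituents
    have he2 : e = 2 := by
      rcases (Nat.dvd_prime Nat.prime_two).1 hidx with e1 | e2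
      · exfalso
        letI := Fintype.ofFinite (IrrCharacter (alternatingGroup (Fin n)))
        obtain ⟨a, ha, hexp, hn⟩ := exists_mult χ
        rw [if_pos htw, ← Finset.add_sum_erase _ _ (Finset.mem_univ θ)] at hn
        have hpos : 0 < a θ := Nat.pos_of_ne_zero fun e0 => h (by rw [ha, e0, Nat.cast_zero])
        have h1 : (c : ℂ) = ∑ η, (a η : ℂ) * (charDegree (η : alternatingGroup (Fin n) → ℂ) : ℂ) := by
          have h0 := congrFun hexp 1
          simp only [resAlt, Finset.sum_apply, Pi.smul_apply, smul_eq_mul, OneMemClass.coe_one, hc] at h0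
          rw [h0]
          exact Finset.sum_congr rfl fun η _ => by rw [(charDegree_eq η).1]
        have h2 : c = ∑ η, a η * charDegree (η : alternatingGroup (Fin n) → ℂ) := by exact_mod_cast h1
        rw [← Finset.add_sum_erase _ _ (Finset.mem_univ θ), he, e1, mul_one] at h2
        have hsum : ∑ η ∈ univ.erase θ, a η * charDegree (η : alternatingGroup (Fin n) → ℂ) = 0 := by
          have h5 : charDegree (θ : alternatingGroup (Fin n) → ℂ) ≤
              a θ * charDegree (θ : alternatingGroup (Fin n) → ℂ) := Nat.le_mul_of_pos_left _ hpos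
          change charDegree (θ : alternatingGroup (Fin n) → ℂ) = _ at h2
          omega
        have h3 : ∀ η ∈ univ.erase θ, a η = 0 := fun η hη =>
          (mul_eq_zero.1 (Finset.sum_eq_zero_iff.1 hsum η hη)).resolve_right (charDegree_eq η).2
        rw [Finset.sum_eq_zero fun η hη => by rw [h3 η hη, mul_zero], add_zero] at hn
        exact Nat.prime_two.not_isSquare ⟨a θ, hn.symm⟩
      · exact e2
    show d.factorization p + _ = c.factorization p
    rw [he, he2, Nat.factorization_mul hd0 two_ne_zero, Finsupp.add_apply]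
    by_cases h2 : p = 2
    · subst h2
      rw [if_pos ⟨rfl, htw⟩, Nat.prime_two.factorization_self]
    · rw [if_neg fun h => h2 h.1, Nat.factorization_eq_zero_of_not_dvd
        fun h => h2 ((Nat.prime_dvd_prime_iff_eq hp Nat.prime_two).1 h)]
  · rw [if_neg fun h => htw h.2, add_zero]
    show d.factorization p = c.factorization p
    have heq := congrFun (constituent_eq htw h) 1
    simp only [resAlt, OneMemClass.coe_one, hc, hd] at heq
    rw [show d = c by exact_mod_cast heq]

end Alt

end CfsgLib.SymBlock
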