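import Cfsg.Agent.Lib.SymBlock.Runner

/-!
# Reflected configurations of beads

`star N X` is the reflected complement of `X` in `[0, 2N)`.  The pushed-down configurations at the middle
runner are invariant under it, the configurations fixed by it are few, and for two runners the bound on the
pushed-down configurations is strict from weight three on.
-/

set_option autoImplicit false

open Finset

namespace CfsgLib.SymBlock.Runner

variable {N p : ℕ}

/-- The reflected complement in `[0, 2N)`. -/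
def star (N : ℕ) (X : Finset ℕ) : Finset ℕ := (range (2 * N)).filter fun x => 2 * N - 1 - x ∉ X

theorem mem_star {X : Finset ℕ} {x : ℕ} : x ∈ star N X ↔ x < 2 * N ∧ 2 * N - 1 - x ∉ X := by
  simp [star]

theorem star_star {X : Finset ℕ} (h : X ⊆ range (2 * N)) : star N (star N X) = X := by
  ext x
  simp only [mem_star, not_and, not_not]
  refine ⟨fun hx => ?_, fun hx => ?_⟩
  · have := hx.2 (by omega)
    rwa [show 2 * N - 1 - (2 * N - 1 - x) = x by omega] at this
  · have := mem_range.1 (h hx)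
    exact ⟨this, fun _ => by rwa [show 2 * N - 1 - (2 * N - 1 - x) = x by omega]⟩

theorem star_eq_self_iff {X : Finset ℕ} (h : star N X = X) {x : ℕ} (hx : x < 2 * N) :
    2 * N - 1 - x ∈ X ↔ x ∉ X := by
  conv_rhs => rw [← h, mem_star]
  simp [hx]

theorem lt_of_mem_fixed {X : Finset ℕ} (h : star N X = X) {x : ℕ} (hx : x ∈ X) : x < 2 * N := by
  rw [← h] at hx
  exact (mem_star.1 hx).1

/-- If runner `a` is pushed down, so is the reflected runner of the reflected configuration. -/
theorem groundAt_star {X : Finset ℕ} {a b : ℕ}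
    (hab : ∀ x < 2 * N, x % p = b → (2 * N - 1 - x) % p = a) (h : GroundAt p X a) :
    GroundAt p (star N X) b := by
  intro x hx hxb y hy hyb
  obtain ⟨hx2, hxX⟩ := mem_star.1 hx
  exact mem_star.2 ⟨by omega, fun hyX =>
    hxX (h _ hyX (hab y (by omega) hyb) _ (by omega) (hab x hx2 hxb))⟩

theorem card_reps_le {α : Type*} [DecidableEq α] [Encodable α] (T F : Finset α) (f : α → α)
    (hf : ∀ x ∈ T, f x ∈ T) (hinv : ∀ x ∈ T, f (f x) = x) (hfix : ∀ x ∈ T, f x = x → x ∈ F) :
    2 * #(T.filter fun x => Encodable.encode x ≤ Encodable.encode (f x)) ≤ #T + #F := by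
  set R := T.filter fun x => Encodable.encode x ≤ Encodable.encode (f x) with hR
  have hRT : R ⊆ T := filter_subset _ _
  have hcard : #(R.image f) = #R := card_image_of_injOn fun x hx y hy h => by
    rw [← hinv x (hRT hx), ← hinv y (hRT hy)]
    exact congrArg f h
  have hsub : R ∪ R.image f ⊆ T := union_subset hRT fun y hy => by
    obtain ⟨x, hx, rfl⟩ := mem_image.1 hy
    exact hf x (hRT hx)
  have hint : R ∩ R.image f ⊆ F := fun y hy => by
    obtain ⟨hyR, hyI⟩ := mem_inter.1 hy
    obtain ⟨x, hx, rfl⟩ := mem_image.1 hyI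
    obtain ⟨hxT, hle⟩ := mem_filter.1 hx
    have hle' := (mem_filter.1 hyR).2
    rw [hinv x hxT] at hle'
    have he : f x = x := Encodable.encode_injective (le_antisymm hle' hle)
    rw [he]
    exact hfix x hxT he
  have := card_union_add_card_inter R (R.image f)
  have := card_le_card hsub
  have := card_le_card hint
  omega

theorem card_filter_move {X : Finset ℕ} {x g : ℕ} (hgm : g % p = x % p) (hgX : g ∉ X) (hx : x ∈ X)
    (c : ℕ) : #((insert g (X.erase x)).filter (· % p = c)) = #(X.filter (· % p = c)) := by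
  rw [filter_insert, filter_erase]
  by_cases hc : x % p = c
  · rw [if_pos (hgm.trans hc), card_insert_of_notMem (by simp [hgX]),
      card_erase_add_one (mem_filter.2 ⟨hx, hc⟩)]
  · rw [if_neg fun e => hc (hgm.symm.trans e), erase_eq_of_notMem (by simp [hc])]

theorem sum_move {X : Finset ℕ} {x g : ℕ} (hgX : g ∉ X) (hx : x ∈ X) :
    ∑ y ∈ insert g (X.erase x), y + x = ∑ y ∈ X, y + g := by
  rw [sum_insert (by simp [hgX])]
  have := sum_erase_add X (fun y : ℕ => y) hx
  omega

/-- The top move on a runner that is not pushed down, with the weight left. -/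
theorem exists_step (hp : 0 < p) {X₀ X : Finset ℕ} (h0 : ∀ b, GroundAt p X₀ b) {a w : ℕ}
    (hc : ∀ b, #(X.filter (· % p = b)) = #(X₀.filter (· % p = b)))
    (hs : ∑ x ∈ X, x = ∑ x ∈ X₀, x + p * w) (ha : ¬ GroundAt p X a) :
    ∃ x g s, x ∈ X ∧ g ∉ X ∧ x = g + p * s ∧ 1 ≤ s ∧ s ≤ w ∧ x % p = a ∧ g % p = x % p ∧ g < x ∧
      (∀ z ∈ X, z % p = x % p → z ≤ x) ∧ (∀ z, g < z → z < x → z % p = x % p → z ∈ X) := by
  have hne : ¬ ∀ b, GroundAt p (X.filter (· % p = a)) b := fun h => ha fun x hx hxa y hy hya =>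
    (mem_filter.1 (h a x (mem_filter.2 ⟨hx, hxa⟩) hxa y hy hya)).1
  obtain ⟨x, hx, g, hgx, hgm, hgX, htop, hfull⟩ := exists_move hne
  obtain ⟨hxX, hxa⟩ := mem_filter.1 hx
  have hgX' : g ∉ X := fun h => hgX (mem_filter.2 ⟨h, hgm.trans hxa⟩)
  obtain ⟨s, hs'⟩ : ∃ s, x = g + p * s := by
    obtain ⟨s, hs'⟩ := (Nat.modEq_iff_dvd' hgx.le).1 hgm
    exact ⟨s, by omega⟩
  have hs1 : 1 ≤ s := Nat.one_le_iff_ne_zero.2 fun e => by rw [e, mul_zero] at hs'; omega
  obtain ⟨w', hw'⟩ := exists_weight hp h0 (X := insert g (X.erase x)) fun c =>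
    (card_filter_move hgm hgX' hxX c).trans (hc c)
  have := sum_move hgX' hxX
  refine ⟨x, g, s, hxX, hgX', hs', hs1, ?_, hxa, hgm, hgx,
    fun z hz hzm => htop z (mem_filter.2 ⟨hz, hzm.trans hxa⟩) hzm,
    fun z h1 h2 h3 => (mem_filter.1 (hfull z h1 h2 h3)).1⟩
  exact Nat.le_of_mul_le_mul_left (by omega) hp

theorem sup_runner {Y : Finset ℕ} {x : ℕ} (hxp : p ≤ x) (hmem : x - p ∈ Y)
    (hle : ∀ z ∈ Y, z % p = x % p → z < x) : (Y.filter (· % p = x % p)).sup id = x - p := by
  refine le_antisymm (Finset.sup_le fun z hz => ?_)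
    (le_sup (f := id) (mem_filter.2 ⟨hmem, (Nat.mod_eq_sub_mod hxp).symm⟩))
  obtain ⟨hzY, hzm⟩ := mem_filter.1 hz
  have hlt := hle z hzY hzm
  obtain ⟨d, hd⟩ := (Nat.modEq_iff_dvd' hlt.le).1 hzm
  show z ≤ x - p
  rcases d with _ | d
  · omega
  · rw [Nat.mul_succ] at hd; omega

theorem top_lt {X : Finset ℕ} {x g : ℕ} (hgx : g < x) (htop : ∀ z ∈ X, z % p = x % p → z ≤ x) :
    ∀ z ∈ insert g (X.erase x), z % p = x % p → z < x := fun z hz hzm => by
  rcases mem_insert.1 hz with rfl | hz
  · exact hgx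
  · obtain ⟨hne, hzX⟩ := mem_erase.1 hz
    exact lt_of_le_of_ne (htop z hzX hzm) hne

theorem top_mem (hp : 0 < p) {X : Finset ℕ} {x g s : ℕ} (hxs : x = g + p * s) (hs1 : 1 ≤ s)
    (hgm : g % p = x % p) (hfull : ∀ z, g < z → z < x → z % p = x % p → z ∈ X) :
    p ≤ x ∧ x - p ∈ insert g (X.erase x) := by
  have hps : p ≤ p * s := Nat.le_mul_of_pos_right p hs1
  refine ⟨by omega, ?_⟩
  rcases eq_or_lt_of_le (show g ≤ x - p by omega) with he | hlt
  · exact he ▸ mem_insert_self _ _
  · refine mem_insert_of_mem (mem_erase.2 ⟨by omega, hfull _ hlt (by omega) ?_⟩)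
    exact (Nat.mod_eq_sub_mod (by omega)).symm

/-! ### Two runners -/

theorem card_configs_two_lt {X₀ : Finset ℕ} (h0 : ∀ b, GroundAt 2 X₀ b) {w : ℕ} (hw : 3 ≤ w) :
    #(configs 2 X₀ 0 (∑ x ∈ X₀, x + 2 * w)) < 2 ^ (w - 1) := by
  set S₀ := ∑ x ∈ X₀, x with hS₀
  have hsub : configs 2 X₀ 0 (S₀ + 2 * w) ⊆
      ((Icc 1 w).erase (w - 1)).biUnion fun s =>
        (configs 2 X₀ 0 (S₀ + 2 * (w - s))).image (unmove 2 1 s) := by
    intro X hX
    obtain ⟨hc, hs, hga⟩ := (mem_configs two_pos).1 hX
    have hng : ¬ GroundAt 2 X 1 := fun h => by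
      rw [ground_unique (p := 2) (fun b => ?_) h0 hc] at hs
      · omega
      · rcases lt_trichotomy b 1 with hb | rfl | hb
        · obtain rfl : b = 0 := by omega
          exact hga
        · exact h
        · intro x _ hxb
          omega
    obtain ⟨x, g, s, hx, hgX, hxs, hs1, hsw, hx1, hgm, hgx, htop, hfull⟩ := exists_step two_pos h0 hc hs hng
    set Y := insert g (X.erase x) with hY
    have hYc : ∀ c, #(Y.filter (· % 2 = c)) = #(X₀.filter (· % 2 = c)) := fun c =>
      (card_filter_move hgm hgX hx c).trans (hc c)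
    have hYs : ∑ y ∈ Y, y = S₀ + 2 * (w - s) := by have := sum_move hgX hx; rw [← hY] at this; omega
    have hne : s ≠ w - 1 := by
      intro he
      -- two beads above an empty place cannot have weight one
      by_cases hY1 : GroundAt 2 Y 1
      · have := ground_unique (p := 2) (X := Y) (fun b => ?_) h0 hYc
        · rw [this] at hYs; omega
        · rcases lt_trichotomy b 1 with hb | rfl | hb
          · obtain rfl : b = 0 := by omega
            intro z hz hz0 y hy hy0
            rcases mem_insert.1 hz with rfl | hz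
            · omega
            · exact mem_insert_of_mem (mem_erase.2 ⟨by omega, hga z (mem_of_mem_erase hz) hz0 y hy hy0⟩)
          · exact hY1
          · intro z _ hzb
            omega
      obtain ⟨x', g', s', hx', hgX', hxs', hs1', hsw', hx1', hgm', hgx', htop', -⟩ :=
        exists_step two_pos h0 hYc hYs hY1
      obtain rfl : s' = 1 := by omega
      have hY0 : insert g' (Y.erase x') = X₀ := by
        obtain ⟨w', hw'⟩ := exists_weight two_pos h0 (X := insert g' (Y.erase x')) fun c =>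
          (card_filter_move hgm' hgX' hx' c).trans (hYc c)
        refine ground_unique (fun b => ?_) h0 fun c => (card_filter_move hgm' hgX' hx' c).trans (hYc c)
        by_contra hb
        obtain ⟨u, v, t, hu, hv, huv, ht, htw, -⟩ := exists_step two_pos h0
          (fun c => (card_filter_move hgm' hgX' hx' c).trans (hYc c)) hw' hb
        have := sum_move hgX' hx'
        omega
      have hlow : ∀ z ∈ Y, z % 2 = 1 → z ≠ x' → ∀ y < z, y % 2 = 1 → y ≠ g' → y ∈ Y := by
        intro z hz hz1 hzx y hy hy1 hyg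
        have := h0 1 z (hY0 ▸ mem_insert_of_mem (mem_erase.2 ⟨hzx, hz⟩)) hz1 y hy hy1
        rw [← hY0] at this
        exact mem_of_mem_erase ((mem_insert.1 this).resolve_left hyg)
      obtain ⟨y₀, hy₀, hy₀1, hy₀Y⟩ : ∃ y₀ < g, y₀ % 2 = 1 ∧ y₀ ∉ Y := by
        by_contra! hno
        refine hY1 fun z hz hz1 y hy hy1 => ?_
        rcases lt_trichotomy y g with hl | rfl | hl
        · exact hno y hl hy1
        · exact mem_insert_self _ _
        · have hzlt := top_lt hgx htop z hz (hz1.trans hx1.symm)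
          exact mem_insert_of_mem (mem_erase.2 ⟨by omega, hfull y hl (by omega) (hy1.trans hx1.symm)⟩)
      have h1 : g = x' := by
        by_contra hgx'
        obtain rfl : y₀ = g' := by
          by_contra hne
          exact hy₀Y (hlow g (mem_insert_self _ _) (by omega) hgx' y₀ hy₀ hy₀1 hne)
        have := htop' g (mem_insert_self _ _) (by omega)
        omega
      have h2 : x - 2 ∈ Y := (top_mem two_pos hxs hs1 hgm hfull).2
      have := htop' (x - 2) h2 (by omega)
      omega
    have hYmem : Y ∈ configs 2 X₀ 0 (S₀ + 2 * (w - s)) := by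
      refine (mem_configs two_pos).2 ⟨hYc, hYs, fun z hz hza y hy hya => ?_⟩
      rcases mem_insert.1 hz with rfl | hz
      · omega
      · exact mem_insert_of_mem (mem_erase.2 ⟨by omega, hga z (mem_of_mem_erase hz) hza y hy hya⟩)
    have hun : unmove 2 1 s Y = X := by
      obtain ⟨hxp, hmem⟩ := top_mem two_pos hxs hs1 hgm hfull
      simp only [unmove]
      rw [← hx1, sup_runner hxp hmem (top_lt hgx htop), Nat.sub_add_cancel hxp,
        show x - 2 * s = g by omega, hY, erase_insert (by simp [hgX]), insert_erase hx]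
    simp only [mem_biUnion, mem_erase, mem_Icc, mem_image]
    exact ⟨s, ⟨hne, hs1, hsw⟩, Y, hYmem, hun⟩
  refine (card_le_card hsub).trans_lt (card_biUnion_le.trans_lt ?_)
  refine lt_of_le_of_lt (sum_le_sum (g := fun s => bound 2 (w - s)) fun s hs =>
    card_image_le.trans (card_configs_le two_pos h0 two_pos (w - s))) ?_
  have hfull : ∑ s ∈ Icc 1 w, bound 2 (w - s) = 2 ^ (w - 1) := by
    obtain ⟨u, rfl⟩ : ∃ u, w = u + 1 := ⟨w - 1, by omega⟩
    rw [add_tsub_cancel_right, ← sum_bound two_pos u]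
    refine sum_nbij' (fun s => u + 1 - s) (fun v => u + 1 - v) ?_ ?_ ?_ ?_ fun _ _ => rfl <;>
      intro v hv <;> simp only [mem_Icc, mem_range] at hv ⊢ <;> omega
  rw [← hfull, ← add_sum_erase (Icc 1 w) (fun s => bound 2 (w - s)) (mem_Icc.2 ⟨by omega, by omega⟩ :
    w - 1 ∈ Icc 1 w), show w - (w - 1) = 1 by omega]
  have h1 : bound 2 1 = 1 := rfl
  omega

/-! ### Fixed configurations -/

/-- The configurations fixed by the reflection. -/
def fixedConfigs (N p : ℕ) (X₀ : Finset ℕ) (t : ℕ) : Finset (Finset ℕ) :=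
  ((range (2 * N)).powerset).filter fun X =>
    (∀ b ∈ range p, #(X.filter (· % p = b)) = #(X₀.filter (· % p = b))) ∧ ∑ x ∈ X, x = t ∧ star N X = X

theorem mem_fixedConfigs (hp : 0 < p) {X₀ X : Finset ℕ} {t : ℕ} :
    X ∈ fixedConfigs N p X₀ t ↔
      (∀ b, #(X.filter (· % p = b)) = #(X₀.filter (· % p = b))) ∧ ∑ x ∈ X, x = t ∧ star N X = X := by
  simp only [fixedConfigs, mem_filter, mem_powerset, mem_range]
  constructor
  · rintro ⟨-, h1, h2, h3⟩
    refine ⟨fun b => ?_, h2, h3⟩
    rcases lt_or_ge b p with hb | hb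
    · exact h1 b hb
    · have : ∀ Z : Finset ℕ, Z.filter (· % p = b) = ∅ := fun Z =>
        filter_eq_empty_iff.2 fun z _ h => absurd (Nat.mod_lt z hp) (by omega)
      rw [this, this]
  · rintro ⟨h1, h2, h3⟩
    exact ⟨fun x hx => mem_range.2 (lt_of_mem_fixed h3 hx), fun b _ => h1 b, h2, h3⟩

/-- The reflected pair of moves. -/
def unpair (N p a s : ℕ) (Y : Finset ℕ) : Finset ℕ :=
  let x := (Y.filter (· % p = a)).sup id + p
  insert x ((insert (2 * N - 1 - (x - p * s)) (Y.erase (2 * N - 1 - x))).erase (x - p * s))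

/-- The move across the middle. -/
def unmid (N p s : ℕ) (Y : Finset ℕ) : Finset ℕ :=
  let x := (2 * N - 1 + p * s) / 2
  insert x (Y.erase (2 * N - 1 - x))

theorem star_move {X : Finset ℕ} (h : star N X = X) {x : ℕ} (hx : x ∈ X) :
    star N (insert (2 * N - 1 - x) (X.erase x)) = insert (2 * N - 1 - x) (X.erase x) := by
  have hx2 := lt_of_mem_fixed h hx
  ext z
  simp only [mem_star, mem_insert, mem_erase]
  by_cases hz : z < 2 * N
  · have hiff := star_eq_self_iff h hz
    constructor
    · rintro ⟨-, hz'⟩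
      rcases eq_or_ne z (2 * N - 1 - x) with e | e
      · exact Or.inl e
      · refine Or.inr ⟨?_, ?_⟩
        · rintro rfl
          exact hz' (Or.inl rfl)
        · by_contra hzX
          exact hz' (Or.inr ⟨by omega, hiff.2 hzX⟩)
    · rintro (rfl | ⟨hne, hzX⟩)
      · refine ⟨hz, ?_⟩
        rintro (e | ⟨hne, -⟩)
        · omega
        · omega
      · refine ⟨hz, ?_⟩
        rintro (e | ⟨-, hm⟩)
        · omega
        · exact hiff.1 hm hzX
  · constructor
    · rintro ⟨h', -⟩
      exact absurd h' hz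
    · rintro (rfl | ⟨-, hzX⟩)
      · omega
      · exact absurd (lt_of_mem_fixed h hzX) hz

theorem star_pair {X : Finset ℕ} (h : star N X = X) {x g : ℕ} (hx : x ∈ X) (hgX : g ∉ X)
    (hg : g < 2 * N) (hne : g ≠ 2 * N - 1 - x) :
    star N (insert g ((insert (2 * N - 1 - x) (X.erase (2 * N - 1 - g))).erase x)) =
      insert g ((insert (2 * N - 1 - x) (X.erase (2 * N - 1 - g))).erase x) := by
  have hx2 := lt_of_mem_fixed h hx
  have hgx : g ≠ x := fun e => hgX (e ▸ hx)
  ext z
  simp only [mem_star, mem_insert, mem_erase]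
  by_cases hz : z < 2 * N
  · have hiff := star_eq_self_iff h hz
    rcases eq_or_ne z x with rfl | hzx
    · constructor
      · rintro ⟨-, hz'⟩
        exact absurd (Or.inr ⟨by omega, Or.inl rfl⟩) hz'
      · rintro (e | ⟨hne', -⟩)
        · exact absurd e.symm hgx
        · exact absurd rfl hne'
    rcases eq_or_ne z g with rfl | hzg
    · refine ⟨fun _ => Or.inl rfl, fun _ => ⟨hz, ?_⟩⟩
      rintro (e | ⟨-, e | ⟨hne', -⟩⟩) <;> omega
    rcases eq_or_ne z (2 * N - 1 - x) with rfl | hzx'
    · refine ⟨fun _ => Or.inr ⟨hzx, Or.inl rfl⟩, fun _ => ⟨hz, ?_⟩⟩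
      rintro (e | ⟨hne', -⟩) <;> omega
    rcases eq_or_ne z (2 * N - 1 - g) with rfl | hzg'
    · constructor
      · rintro ⟨-, hz'⟩
        exact absurd (Or.inl (by omega)) hz'
      · rintro (e | ⟨-, e | ⟨hne', -⟩⟩) <;> omega
    · constructor
      · rintro ⟨-, hz'⟩
        refine Or.inr ⟨hzx, Or.inr ⟨hzg', ?_⟩⟩
        by_contra hzX
        exact hz' (Or.inr ⟨by omega, Or.inr ⟨by omega, hiff.2 hzX⟩⟩)
      · rintro (e | ⟨-, e | ⟨-, hzX⟩⟩)
        · exact absurd e hzg
        · exact absurd e hzx'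
        · refine ⟨hz, ?_⟩
          rintro (e | ⟨-, e | ⟨-, hm⟩⟩)
          · omega
          · omega
          · exact hiff.1 hm hzX
  · constructor
    · rintro ⟨h', -⟩
      exact absurd h' hz
    · rintro (rfl | ⟨-, rfl | ⟨-, hzX⟩⟩)
      · omega
      · omega
      · exact absurd (lt_of_mem_fixed h hzX) hz

theorem card_fixedConfigs_le (hp : 2 ≤ p) {X₀ : Finset ℕ} (h0 : ∀ b, GroundAt p X₀ b) {a₀ : ℕ}
    (ha₀ : a₀ < p)
    (hsel : ∀ X : Finset ℕ, star N X = X → ¬ (∀ b, GroundAt p X b) →
      ∃ a, ¬ GroundAt p X a ∧ (a = a₀ → ∀ x < 2 * N, x % p = a → (2 * N - 1 - x) % p = a))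
    (f : ℕ → ℕ) (hf0 : 1 ≤ f 0)
    (hrec : ∀ n, ∑ v ∈ range (n + 1), (if (n + 1 - v) % 2 = 1 then p % 2 else p - 1) * f v ≤ f (n + 1))
    (w : ℕ) : #(fixedConfigs N p X₀ (∑ x ∈ X₀, x + p * w)) ≤ f w := by
  have hp0 : 0 < p := by omega
  induction w using Nat.strong_induction_on with
  | _ w ih =>
  rcases w with _ | n
  · refine le_trans (card_le_one.2 fun X hX Y hY => ?_) hf0
    suffices key : ∀ Z ∈ fixedConfigs N p X₀ (∑ x ∈ X₀, x + p * 0), Z = X₀ from
      (key X hX).trans (key Y hY).symm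
    intro Z hZ
    obtain ⟨hc, hs, -⟩ := (mem_fixedConfigs hp0).1 hZ
    refine ground_unique (fun b => ?_) h0 hc
    by_contra hb
    obtain ⟨x, g, s, -, -, -, hs1, hsw, -⟩ := exists_step hp0 h0 hc hs hb
    omega
  set S₀ := ∑ x ∈ X₀, x with hS₀
  let F : ℕ → Finset (Finset ℕ) := fun v => fixedConfigs N p X₀ (S₀ + p * v)
  have hsub : F (n + 1) ⊆
      (((Icc 1 (n + 1)).filter fun s => p * s % 2 = 1).biUnion fun s =>
        (F (n + 1 - s)).image (unmid N p s)) ∪
      ((range p).erase a₀).biUnion fun a => (Icc 1 ((n + 1) / 2)).biUnion fun s =>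
        (F (n + 1 - 2 * s)).image (unpair N p a s) := by
    intro X hX
    obtain ⟨hc, hs, hfix⟩ := (mem_fixedConfigs hp0).1 hX
    have hng : ¬ ∀ b, GroundAt p X b := fun h => by
      rw [ground_unique h h0 hc] at hs
      have := Nat.mul_pos hp0 (Nat.succ_pos n)
      simp only [Nat.succ_eq_add_one] at this
      omega
    obtain ⟨a, hna, hmid⟩ := hsel X hfix hng
    obtain ⟨x, g, s, hx, hgX, hxs, hs1, hsw, hxa, hgm, hgx, htop, hfull⟩ := exists_step hp0 h0 hc hs hna
    have hx2 := lt_of_mem_fixed hfix hx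
    have hg2 : g < 2 * N := by omega
    have hx'X : 2 * N - 1 - x ∉ X := fun h => (star_eq_self_iff hfix hx2).1 h hx
    have hg'X : 2 * N - 1 - g ∈ X := (star_eq_self_iff hfix hg2).2 hgX
    obtain ⟨hxp, hmem⟩ := top_mem hp0 hxs hs1 hgm hfull
    by_cases hm : (2 * N - 1 - x) % p = x % p
    · -- the move across the middle
      refine mem_union_left _ ?_
      have hlt : 2 * N - 1 - x < x := by
        by_contra hle
        have hg'm : (2 * N - 1 - g) % p = x % p := by
          rw [show 2 * N - 1 - g = 2 * N - 1 - x + p * s by omega, Nat.add_mul_mod_self_left, hm]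
        have := htop _ hg'X hg'm
        omega
      obtain ⟨t, ht⟩ : ∃ t, x = 2 * N - 1 - x + p * t := by
        obtain ⟨t, ht⟩ := (Nat.modEq_iff_dvd' hlt.le).1 hm
        exact ⟨t, by omega⟩
      set Y := insert (2 * N - 1 - x) (X.erase x) with hY
      have hYc : ∀ c, #(Y.filter (· % p = c)) = #(X₀.filter (· % p = c)) := fun c =>
        (card_filter_move hm hx'X hx c).trans (hc c)
      have hsum := sum_move hx'X hx
      rw [← hY] at hsum
      obtain ⟨v, hv⟩ := exists_weight hp0 h0 hYc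
      have htn : t ≤ n + 1 := Nat.le_of_mul_le_mul_left (by omega) hp0
      have hmul : p * (n + 1 - t) + p * t = p * (n + 1) := by rw [← mul_add, Nat.sub_add_cancel htn]
      simp only [mem_biUnion, mem_filter, mem_Icc, mem_image]
      refine ⟨t, ⟨⟨Nat.one_le_iff_ne_zero.2 fun e => by rw [e, mul_zero] at ht; omega, htn⟩, by omega⟩, Y,
        (mem_fixedConfigs hp0).2 ⟨hYc, by omega, star_move hfix hx⟩, ?_⟩
      simp only [unmid]
      rw [show (2 * N - 1 + p * t) / 2 = x by omega, hY, erase_insert (by simp [hx'X]), insert_erase hx]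
    · -- a pair of moves
      refine mem_union_right _ ?_
      have ha : x % p ≠ a₀ := fun e => hm (by
        rw [hxa] at e
        rw [hmid e x hx2 hxa, hxa])
      have hne : g ≠ 2 * N - 1 - x := fun e => hm (by rw [← e]; exact hgm)
      have hg'm : (2 * N - 1 - g) % p = (2 * N - 1 - x) % p := by
        rw [show 2 * N - 1 - g = 2 * N - 1 - x + p * s by omega, Nat.add_mul_mod_self_left]
      have hg'a : (2 * N - 1 - g) % p ≠ x % p := fun e => hm (hg'm.symm.trans e)
      set Z := insert (2 * N - 1 - x) (X.erase (2 * N - 1 - g)) with hZ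
      have hxZ : x ∈ Z := mem_insert_of_mem (mem_erase.2 ⟨fun e => hg'a (by rw [← e]), hx⟩)
      have hgZ : g ∉ Z := by simp [hZ, hgX, hne]
      set Y := insert g (Z.erase x) with hY
      have hYc : ∀ c, #(Y.filter (· % p = c)) = #(X₀.filter (· % p = c)) := fun c => by
        rw [hY, card_filter_move hgm hgZ hxZ, hZ, card_filter_move hg'm.symm hx'X hg'X, hc c]
      have hsum1 := sum_move hx'X hg'X
      have hsum2 := sum_move hgZ hxZ
      rw [← hZ] at hsum1
      rw [← hY] at hsum2
      obtain ⟨v, hv⟩ := exists_weight hp0 h0 hYc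
      have h2s : p * (2 * s) = p * s + p * s := by ring
      have hsn : 2 * s ≤ n + 1 := Nat.le_of_mul_le_mul_left (by omega) hp0
      have hmul : p * (n + 1 - 2 * s) + p * (2 * s) = p * (n + 1) := by
        rw [← mul_add, Nat.sub_add_cancel hsn]
      have hxpY : x - p ∈ Y := by
        rcases mem_insert.1 hmem with e | e
        · exact e ▸ mem_insert_self _ _
        · obtain ⟨hne', hX'⟩ := mem_erase.1 e
          refine mem_insert_of_mem (mem_erase.2 ⟨hne', mem_insert_of_mem (mem_erase.2 ⟨fun e' => hg'a ?_, hX'⟩)⟩)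
          rw [← e']
          exact (Nat.mod_eq_sub_mod hxp).symm
      have hlt' : ∀ z ∈ Y, z % p = x % p → z < x := fun z hz hzm => by
        rcases mem_insert.1 hz with rfl | hz
        · exact hgx
        · obtain ⟨hzx, hz⟩ := mem_erase.1 hz
          rcases mem_insert.1 hz with rfl | hz
          · exact absurd hzm hm
          · exact lt_of_le_of_ne (htop z (mem_of_mem_erase hz) hzm) hzx
      simp only [mem_biUnion, mem_erase, mem_range, mem_Icc, mem_image]
      refine ⟨x % p, ⟨ha, Nat.mod_lt x hp0⟩, s, ⟨hs1, by omega⟩, Y,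
        (mem_fixedConfigs hp0).2 ⟨hYc, by omega, ?_⟩, ?_⟩
      · rw [hY, hZ]
        exact star_pair hfix hx hgX hg2 hne
      · simp only [unpair]
        rw [sup_runner hxp hxpY hlt', Nat.sub_add_cancel hxp, show x - p * s = g by omega]
        ext z
        simp only [hY, hZ, mem_insert, mem_erase]
        constructor
        · rintro (rfl | ⟨hzg, rfl | ⟨hzx', rfl | ⟨-, rfl | ⟨-, hzX⟩⟩⟩⟩)
          · exact hx
          · exact hg'X
          · exact absurd rfl hzg
          · exact absurd rfl hzx'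
          · exact hzX
        · intro hzX
          rcases eq_or_ne z x with e | hzx
          · exact Or.inl e
          · refine Or.inr ⟨fun e => hgX (e ▸ hzX), ?_⟩
            rcases eq_or_ne z (2 * N - 1 - g) with e | hzg'
            · exact Or.inl e
            · exact Or.inr ⟨fun e => hx'X (e ▸ hzX), Or.inr ⟨hzx, Or.inr ⟨hzg', hzX⟩⟩⟩
  refine ((card_le_card hsub).trans (card_union_le _ _)).trans ?_
  refine le_trans ?_ (hrec n)
  have h1 : #(((Icc 1 (n + 1)).filter fun s => p * s % 2 = 1).biUnion fun s =>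
      (F (n + 1 - s)).image (unmid N p s)) ≤
      ∑ v ∈ range (n + 1), if (n + 1 - v) % 2 = 1 then p % 2 * f v else 0 := by
    refine card_biUnion_le.trans ((sum_le_sum fun s hs =>
      card_image_le.trans (ih (n + 1 - s) ?_)).trans (le_of_eq ?_))
    · have := mem_Icc.1 (mem_filter.1 hs).1; omega
    · rw [sum_filter]
      refine sum_nbij' (fun s => n + 1 - s) (fun v => n + 1 - v) ?_ ?_ ?_ ?_ ?_
      · intro s hs; simp only [coe_Icc, Set.mem_Icc, mem_Icc] at hs; simp; omega
      · intro v hv; simp only [coe_range, Set.mem_Iio, mem_range] at hv; simp; omega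
      · intro s hs; simp only [coe_Icc, Set.mem_Icc, mem_Icc] at hs; omega
      · intro v hv; simp only [coe_range, Set.mem_Iio, mem_range] at hv; omega
      · intro s hs
        have := mem_Icc.1 hs
        rw [show n + 1 - (n + 1 - s) = s by omega, Nat.mul_mod]
        rcases Nat.mod_two_eq_zero_or_one p with e | e <;> rcases Nat.mod_two_eq_zero_or_one s with e' | e' <;>
          simp [e, e']
  have h2 : #(((range p).erase a₀).biUnion fun a => (Icc 1 ((n + 1) / 2)).biUnion fun s =>
      (F (n + 1 - 2 * s)).image (unpair N p a s)) ≤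
      ∑ v ∈ range (n + 1), if (n + 1 - v) % 2 = 1 then 0 else (p - 1) * f v := by
    have hinner : ∀ a, #((Icc 1 ((n + 1) / 2)).biUnion fun s =>
        (F (n + 1 - 2 * s)).image (unpair N p a s)) ≤ ∑ s ∈ Icc 1 ((n + 1) / 2), f (n + 1 - 2 * s) :=
      fun a => card_biUnion_le.trans (sum_le_sum fun s hs =>
        card_image_le.trans (ih (n + 1 - 2 * s) (by have := mem_Icc.1 hs; omega)))
    refine card_biUnion_le.trans ((sum_le_sum fun a _ => hinner a).trans (le_of_eq ?_))
    rw [sum_const, card_erase_of_mem (mem_range.2 ha₀), card_range, smul_eq_mul, mul_sum,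
      sum_congr rfl fun v _ => (ite_not (p := (n + 1 - v) % 2 = 1) _ _).symm, ← sum_filter]
    refine sum_nbij' (fun s => n + 1 - 2 * s) (fun v => (n + 1 - v) / 2) ?_ ?_ ?_ ?_ fun _ _ => rfl <;>
      intro v hv <;>
      simp only [coe_Icc, coe_filter, Set.mem_Icc, Set.mem_ofPred_eq, mem_Icc, mem_filter, mem_range] at hv ⊢ <;>
      omega
  refine (add_le_add h1 h2).trans (le_of_eq ?_)
  rw [← sum_add_distrib]
  exact sum_congr rfl fun v _ => by split_ifs <;> simp

/-- For two runners. -/
theorem selfBound_two (n : ℕ) : ∑ v ∈ range (n + 1), (if (n + 1 - v) % 2 = 1 then 2 % 2 else 2 - 1) *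
    (if v % 2 = 0 then bound 2 (v / 2) else 0) ≤ if (n + 1) % 2 = 0 then bound 2 ((n + 1) / 2) else 0 := by
  induction n using Nat.strong_induction_on with
  | _ n ih =>
  rcases n with _ | _ | n
  · simp
  · simp [sum_range_succ, bound]
  · rw [sum_range_succ, sum_range_succ]
    have h := ih n (by omega)
    have e : ∀ v ∈ range (n + 1), (n + 1 + 1 + 1 - v) % 2 = (n + 1 - v) % 2 := fun v hv => by
      have := mem_range.1 hv; omega
    rw [sum_congr rfl fun v hv => by rw [e v hv],
      show (n + 1 + 1 + 1 - (n + 1)) % 2 = 0 by omega, show (n + 1 + 1 + 1 - (n + 1 + 1)) % 2 = 1 by omega,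
      show (n + 1 + 1 + 1) % 2 = (n + 1) % 2 by omega]
    simp only [Nat.mod_self, if_pos, zero_mul, add_zero, Nat.zero_ne_one, if_false, Nat.add_one_sub_one,
      one_mul] at h ⊢
    by_cases he : (n + 1) % 2 = 0
    · simp only [if_pos he] at h ⊢
      obtain ⟨j, hj⟩ : ∃ j, n + 1 = 2 * (j + 1) := ⟨(n - 1) / 2, by omega⟩
      rw [show (n + 1) / 2 = j + 1 by omega] at h ⊢
      rw [show (n + 1 + 1 + 1) / 2 = j + 1 + 1 by omega]
      simp only [bound, Nat.add_one_sub_one, one_mul, pow_succ] at h ⊢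
      omega
    · simp only [if_neg he] at h ⊢
      omega

/-- For an odd number of runners. -/
theorem selfBound_odd (hp : 2 ≤ p) (hodd : p % 2 = 1) (n : ℕ) :
    ∑ v ∈ range (n + 1), (if (n + 1 - v) % 2 = 1 then p % 2 else p - 1) * (if v = 0 then 1 else p ^ (v - 1)) ≤
      if n + 1 = 0 then 1 else p ^ (n + 1 - 1) := by
  rw [if_neg (Nat.succ_ne_zero n), hodd, add_tsub_cancel_right]
  induction n using Nat.strong_induction_on with
  | _ n ih =>
  rcases n with _ | _ | n
  · simp
  · simp [sum_range_succ]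
    omega
  · rw [sum_range_succ, sum_range_succ]
    have h := ih n (by omega)
    have e : ∀ v ∈ range (n + 1), (n + 1 + 1 + 1 - v) % 2 = (n + 1 - v) % 2 := fun v hv => by
      have := mem_range.1 hv; omega
    rw [sum_congr rfl fun v hv => by rw [e v hv],
      show (n + 1 + 1 + 1 - (n + 1)) % 2 = 0 by omega, show (n + 1 + 1 + 1 - (n + 1 + 1)) % 2 = 1 by omega]
    simp only [Nat.succ_ne_zero, if_false, if_pos, Nat.zero_ne_one, one_mul, add_tsub_cancel_right]
    obtain ⟨q, rfl⟩ : ∃ q, p = q + 2 := ⟨p - 2, by omega⟩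
    refine (Nat.add_le_add_right (Nat.add_le_add_right h _) _).trans ?_
    simp only [show n + 2 - 1 = n + 1 by omega, show q + 2 - 1 = q + 1 by omega, pow_succ]
    nlinarith [Nat.zero_le ((q + 2) ^ n * q), Nat.zero_le ((q + 2) ^ n * (q * q))]

end CfsgLib.SymBlock.Runner
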