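import Cfsg.Agent.Lib.SymBlock.Runner
import Cfsg.Agent.Lib.SymBlock.StarCount

/-!
# The `p`-part of the hook product

For a finite set of beads `X` the hooks are the pairs `(x, z)` with `x ∈ X`, `z < x`, `z ∉ X`.
`hval p X` is the valuation of the product of their lengths.
-/

set_option autoImplicit false
set_option linter.style.haveILetI false
set_option linter.unnecessarySeqFocus false

open Finset
open scoped Nat

namespace CfsgLib.SymBlock.Hooks


/-- The empty places below `x`. -/
def gaps (X : Finset ℕ) (x : ℕ) : Finset ℕ := range x \ X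

/-- The number of hooks. -/
def nh (X : Finset ℕ) : ℕ := ∑ x ∈ X, #(gaps X x)

/-- The product of the hook lengths. -/
def hprod (X : Finset ℕ) : ℕ := ∏ x ∈ X, ∏ z ∈ gaps X x, (x - z)

/-- The valuation of the product of the hook lengths. -/
def hval (p : ℕ) (X : Finset ℕ) : ℕ := ∑ x ∈ X, ∑ z ∈ gaps X x, padicValNat p (x - z)

/-- The quotient on runner `a`. -/
def quot (p : ℕ) (X : Finset ℕ) (a : ℕ) : Finset ℕ := (X.filter (· % p = a)).image (· / p)

/-- The number of hooks of length divisible by `p`. -/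
def wt (p : ℕ) (X : Finset ℕ) : ℕ := ∑ a ∈ range p, nh (quot p X a)

theorem sum_two (f : ℕ → ℕ) : ∑ a ∈ range 2, f a = f 0 + f 1 := by
  rw [sum_range_succ, sum_range_one]

theorem mem_gaps {X : Finset ℕ} {x z : ℕ} : z ∈ gaps X x ↔ z < x ∧ z ∉ X := by simp [gaps]

theorem nh_add_choose (X : Finset ℕ) : nh X + (#X).choose 2 = ∑ x ∈ X, x := by
  induction X using Finset.induction_on_max with
  | empty => simp [nh]
  | insert a s ha ih =>
    have hns : a ∉ s := fun h => (ha a h).false
    have hold : ∀ x ∈ s, gaps (insert a s) x = gaps s x := fun x hx => by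
      ext z
      simp only [mem_gaps, mem_insert, not_or]
      exact ⟨fun h => ⟨h.1, h.2.2⟩, fun h => ⟨h.1, (h.1.trans (ha x hx)).ne, h.2⟩⟩
    have hnew : #(gaps (insert a s) a) + #s = a := by
      have he : gaps (insert a s) a = range a \ s := by
        ext z
        simp only [mem_gaps, mem_insert, not_or, mem_sdiff, mem_range]
        exact ⟨fun h => ⟨h.1, h.2.2⟩, fun h => ⟨h.1, h.1.ne, h.2⟩⟩
      rw [he, card_sdiff_add_card_eq_card (fun x hx => mem_range.2 (ha x hx)), card_range]
    rw [nh, sum_insert hns, sum_insert hns, card_insert_of_notMem hns,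
      show (#s + 1).choose 2 = #s + (#s).choose 2 by simp [Nat.choose_succ_succ], sum_congr rfl fun x hx => congrArg card (hold x hx)]
    rw [nh] at ih
    omega

/-- The product of the hook lengths, multiplied by the differences of the beads, is the product
of the factorials. -/
theorem hprod_mul (X : Finset ℕ) :
    hprod X * ∏ x ∈ X, ∏ y ∈ X.filter (· < x), (x - y) = ∏ x ∈ X, x ! := by
  rw [hprod, ← prod_mul_distrib]
  refine prod_congr rfl fun x _ => ?_
  have hu : gaps X x ∪ X.filter (· < x) = range x := by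
    ext z; simp only [mem_union, mem_gaps, mem_filter, mem_range]; tauto
  have hd : Disjoint (gaps X x) (X.filter (· < x)) :=
    disjoint_left.2 fun z hz hz' => (mem_gaps.1 hz).2 (mem_filter.1 hz').1
  rw [← prod_union hd, hu, ← prod_range_reflect]
  conv_rhs => rw [← prod_range_add_one_eq_factorial]
  refine prod_congr rfl fun j hj => ?_
  rw [mem_range] at hj
  omega

theorem hprod_ne_zero (X : Finset ℕ) : hprod X ≠ 0 :=
  prod_ne_zero_iff.2 fun x _ => prod_ne_zero_iff.2 fun z hz => by
    have := (mem_gaps.1 hz).1; omega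

theorem padicValNat_hprod (p : ℕ) [Fact p.Prime] (X : Finset ℕ) :
    padicValNat p (hprod X) = hval p X := by
  have key : ∀ (s : Finset ℕ) (f : ℕ → ℕ), (∀ i ∈ s, f i ≠ 0) →
      padicValNat p (∏ i ∈ s, f i) = ∑ i ∈ s, padicValNat p (f i) := by
    intro s f
    induction s using Finset.induction with
    | empty => simp
    | insert i s hi ih =>
      intro h
      rw [prod_insert hi, sum_insert hi, padicValNat.mul (h i (mem_insert_self _ _))
        (prod_ne_zero_iff.2 fun j hj => h j (mem_insert_of_mem hj)),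
        ih fun j hj => h j (mem_insert_of_mem hj)]
  have hne : ∀ x ∈ X, ∀ z ∈ gaps X x, x - z ≠ 0 := fun x _ z hz => by
    have := (mem_gaps.1 hz).1; omega
  rw [hprod, key _ _ fun x hx => prod_ne_zero_iff.2 (hne x hx)]
  exact sum_congr rfl fun x hx => key _ _ (hne x hx)

theorem mem_quot {p : ℕ} {X : Finset ℕ} {a y : ℕ} (ha : a < p) :
    y ∈ quot p X a ↔ a + p * y ∈ X := by
  simp only [quot, mem_image, mem_filter]
  constructor
  · rintro ⟨x, ⟨hx, hxa⟩, rfl⟩
    rwa [← hxa, Nat.mod_add_div]
  · exact fun h => ⟨_, ⟨h, by rw [Nat.add_mul_mod_self_left, Nat.mod_eq_of_lt ha]⟩,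
      by rw [Nat.add_mul_div_left _ _ (by omega), Nat.div_eq_of_lt ha, zero_add]⟩

/-- The recursion on the runners, for the sums over the empty places. -/
theorem hval_eq (p : ℕ) [hp : Fact p.Prime] (X : Finset ℕ) :
    hval p X = ∑ a ∈ range p, (nh (quot p X a) + hval p (quot p X a)) := by
  have hp0 := hp.out.pos
  rw [hval, ← sum_fiberwise_of_maps_to (t := range p) (g := fun x => x % p)
    fun x _ => mem_range.2 (Nat.mod_lt x hp0)]
  refine sum_congr rfl fun a ha => ?_
  rw [mem_range] at ha
  rw [nh, hval, ← sum_add_distrib]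
  refine sum_nbij' (fun x => x / p) (fun y => a + p * y) ?_ ?_ ?_ ?_ ?_
  · intro x hx
    exact mem_image_of_mem (· / p) hx
  · intro y hy
    refine mem_filter.2 ⟨(mem_quot ha).1 hy, ?_⟩
    rw [Nat.add_mul_mod_self_left, Nat.mod_eq_of_lt ha]
  · intro x hx
    obtain ⟨-, hxa⟩ := mem_filter.1 hx
    rw [← hxa, Nat.mod_add_div]
  · intro y _
    rw [Nat.add_mul_div_left _ _ hp0, Nat.div_eq_of_lt ha, zero_add]
  · intro x hx
    obtain ⟨hxX, hxa⟩ := mem_filter.1 hx
    rw [card_eq_sum_ones, ← sum_add_distrib]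
    rw [← sum_filter_add_sum_filter_not (gaps X x) (fun z => z % p = a)]
    rw [sum_eq_zero (s := (gaps X x).filter fun z => ¬ z % p = a), add_zero]
    · refine sum_nbij' (fun z => z / p) (fun y => a + p * y) ?_ ?_ ?_ ?_ ?_
      · intro z hz
        obtain ⟨hz, hza⟩ := mem_filter.1 hz
        obtain ⟨hzx, hzX⟩ := mem_gaps.1 hz
        refine mem_gaps.2 ⟨Runner.div_lt_div_of_mod_eq (hza.trans hxa.symm) hzx, fun h => hzX ?_⟩
        have := (mem_quot ha).1 h
        rwa [← hza, Nat.mod_add_div] at this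
      · intro y hy
        obtain ⟨hyx, hyX⟩ := mem_gaps.1 hy
        refine mem_filter.2 ⟨mem_gaps.2 ⟨?_, fun h => hyX ((mem_quot ha).2 h)⟩, ?_⟩
        · have h1 := Nat.mul_le_mul_left p (Nat.succ_le_of_lt hyx)
          have h2 := Nat.div_add_mod x p
          rw [Nat.mul_succ] at h1
          omega
        · rw [Nat.add_mul_mod_self_left, Nat.mod_eq_of_lt ha]
      · intro z hz
        obtain ⟨-, hza⟩ := mem_filter.1 hz
        rw [← hza, Nat.mod_add_div]
      · intro y _
        rw [Nat.add_mul_div_left _ _ hp0, Nat.div_eq_of_lt ha, zero_add]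
      · intro z hz
        obtain ⟨hz, hza⟩ := mem_filter.1 hz
        obtain ⟨hzx, -⟩ := mem_gaps.1 hz
        have hlt := Runner.div_lt_div_of_mod_eq (hza.trans hxa.symm) hzx
        have he : x - z = p * (x / p - z / p) := by
          have h1 := Nat.div_add_mod x p
          have h2 := Nat.div_add_mod z p
          rw [Nat.mul_sub]
          omega
        rw [he, padicValNat.mul hp.out.ne_zero (by omega), padicValNat.self hp.out.one_lt]
    · intro z hz
      obtain ⟨hz, hza⟩ := mem_filter.1 hz
      refine padicValNat.eq_zero_of_not_dvd fun hdvd => hza ?_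
      have := (Nat.modEq_iff_dvd' (mem_gaps.1 hz).1.le).2 hdvd
      rw [Nat.ModEq] at this
      exact this.trans hxa

theorem card_quot {p : ℕ} {X : Finset ℕ} {a : ℕ} :
    #(quot p X a) = #(X.filter (· % p = a)) := by
  refine card_image_of_injOn fun x hx y hy h => ?_
  rw [coe_filter] at hx hy
  rw [← Nat.mod_add_div x p, ← Nat.mod_add_div y p, hx.2, hy.2, show x / p = y / p from h]

/-- The weight of an abacus is the number of hooks of its quotients. -/
theorem weight_eq_wt {N p : ℕ} (hp : 0 < p) {β : Fin N → ℕ} (hβ : Function.Injective β) :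
    Runner.weight p β = wt p (univ.image β) := by
  rw [Runner.weight, wt, ← sum_fiberwise_of_maps_to (t := range p) (g := fun i => β i % p)
    fun i _ => mem_range.2 (Nat.mod_lt (β i) hp)]
  refine sum_congr rfl fun a ha => ?_
  rw [mem_range] at ha
  rw [nh]
  refine sum_bij (fun i _ => β i / p) ?_ ?_ ?_ ?_
  · intro i hi
    rw [mem_filter] at hi
    exact (mem_quot ha).2 (by rw [← hi.2, Nat.mod_add_div]; exact mem_image_of_mem β hi.1)
  · intro i hi j hj h
    rw [mem_filter] at hi hj
    refine hβ ?_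
    rw [← Nat.mod_add_div (β i) p, ← Nat.mod_add_div (β j) p, hi.2, hj.2, h]
  · intro y hy
    obtain ⟨i, hi, he⟩ := mem_image.1 ((mem_quot ha).1 hy)
    refine ⟨i, mem_filter.2 ⟨hi, ?_⟩, ?_⟩
    · rw [he, Nat.add_mul_mod_self_left, Nat.mod_eq_of_lt ha]
    · rw [he, Nat.add_mul_div_left _ _ hp, Nat.div_eq_of_lt ha, zero_add]
  · intro i hi
    rw [mem_filter] at hi
    have hcard : #((quot p (univ.image β) a).filter (· < β i / p)) = Runner.rank p β i := by
      rw [Runner.rank]
      symm
      refine card_bij (fun j _ => β j / p) ?_ ?_ ?_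
      · intro j hj
        simp only [mem_filter, mem_univ, true_and] at hj
        refine mem_filter.2 ⟨(mem_quot ha).2 ?_, Runner.div_lt_div_of_mod_eq hj.1 hj.2⟩
        rw [← hi.2, ← hj.1, Nat.mod_add_div]
        exact mem_image_of_mem β (mem_univ j)
      · intro j hj k hk h
        simp only [mem_filter, mem_univ, true_and] at hj hk
        refine hβ ?_
        rw [← Nat.mod_add_div (β j) p, ← Nat.mod_add_div (β k) p, hj.1, hk.1, h]
      · intro y hy
        obtain ⟨hy, hlt⟩ := mem_filter.1 hy
        obtain ⟨j, -, he⟩ := mem_image.1 ((mem_quot ha).1 hy)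
        have hmod : β j % p = a := by rw [he, Nat.add_mul_mod_self_left, Nat.mod_eq_of_lt ha]
        refine ⟨j, ?_, by rw [he, Nat.add_mul_div_left _ _ hp, Nat.div_eq_of_lt ha, zero_add]⟩
        simp only [mem_filter, mem_univ, true_and]
        refine ⟨hmod.trans hi.2.symm, ?_⟩
        have h1 := Nat.mul_le_mul_left p (Nat.succ_le_of_lt hlt)
        have h2 := Nat.div_add_mod (β i) p
        rw [Nat.mul_succ] at h1
        omega
    rw [← hcard]
    have hu : gaps (quot p (univ.image β) a) (β i / p) ∪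
        (quot p (univ.image β) a).filter (· < β i / p) = range (β i / p) := by
      ext z; simp only [mem_union, mem_gaps, mem_filter, mem_range]; tauto
    have hd : Disjoint (gaps (quot p (univ.image β) a) (β i / p))
        ((quot p (univ.image β) a).filter (· < β i / p)) :=
      disjoint_left.2 fun z hz hz' => (mem_gaps.1 hz).2 (mem_filter.1 hz').1
    have := card_union_of_disjoint hd
    rw [hu, card_range] at this
    omega

theorem p_mul_wt_le {p : ℕ} (hp : 0 < p) (X : Finset ℕ) : p * wt p X ≤ nh X := by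
  obtain ⟨N, β, hβ, rfl⟩ : ∃ (N : ℕ) (β : Fin N → ℕ), Function.Injective β ∧ univ.image β = X :=
    ⟨#X, X.orderEmbOfFin rfl, (X.orderEmbOfFin rfl).injective, image_orderEmbOfFin_univ X rfl⟩
  rw [← weight_eq_wt hp hβ]
  have h1 := Runner.sum_eq (p := p) hβ
  have h2 := nh_add_choose (univ.image β)
  have h3 := nh_add_choose (univ.image (Runner.core p β))
  rw [Runner.sum_image' hβ, card_image_of_injective _ hβ, card_univ, Fintype.card_fin] at h2
  rw [Runner.sum_image' (Runner.core_injective hp hβ),
    card_image_of_injective _ (Runner.core_injective hp hβ), card_univ, Fintype.card_fin] at h3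
  omega

theorem padicValNat_factorial_sum_le {p : ℕ} [Fact p.Prime] (s : Finset ℕ) (f : ℕ → ℕ) :
    ∑ a ∈ s, padicValNat p (f a)! ≤ padicValNat p (∑ a ∈ s, f a)! := by
  induction s using Finset.induction with
  | empty => simp
  | insert a s ha ih =>
    rw [sum_insert ha, sum_insert ha]
    obtain ⟨c, hc⟩ := Nat.factorial_mul_factorial_dvd_factorial_add (f a) (∑ b ∈ s, f b)
    have hc0 : c ≠ 0 := fun h => by rw [h, mul_zero] at hc; exact Nat.factorial_ne_zero _ hc
    rw [hc, padicValNat.mul (mul_ne_zero (Nat.factorial_ne_zero _) (Nat.factorial_ne_zero _)) hc0,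
      padicValNat.mul (Nat.factorial_ne_zero _) (Nat.factorial_ne_zero _)]
    omega

theorem padicValNat_factorial_mono {p m n : ℕ} [Fact p.Prime] (h : m ≤ n) :
    padicValNat p m ! ≤ padicValNat p n ! :=
  (padicValNat_dvd_iff_le (Nat.factorial_ne_zero _)).1
    (pow_padicValNat_dvd.trans (Nat.factorial_dvd_factorial h))

/-- The valuation of the hook product in weight `w` is at most that of `(p w)!`. -/
theorem hval_le_wt (p : ℕ) [hp : Fact p.Prime] : ∀ X : Finset ℕ,
    hval p X ≤ padicValNat p (p * wt p X)! := by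
  suffices H : ∀ n, ∀ X : Finset ℕ, nh X = n → hval p X ≤ padicValNat p (p * wt p X)! from
    fun X => H _ X rfl
  intro n
  induction n using Nat.strong_induction_on with
  | _ n ih =>
    intro X hn
    rcases Nat.eq_zero_or_pos n with h0 | hpos
    · have : hval p X = 0 := by
        refine sum_eq_zero fun x hx => ?_
        have h := (sum_eq_zero_iff.1 (hn.trans h0)) x hx
        rw [card_eq_zero.1 h, sum_empty]
      rw [this]; exact Nat.zero_le _
    rw [padicValNat_factorial_mul, hval_eq, sum_add_distrib, ← wt, add_comm]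
    refine Nat.add_le_add_right ?_ _
    refine (sum_le_sum fun a ha => ?_).trans (padicValNat_factorial_sum_le _ _)
    have hlt : nh (quot p X a) < n := by
      have h1 : nh (quot p X a) ≤ wt p X :=
        single_le_sum (f := fun a => nh (quot p X a)) (fun _ _ => Nat.zero_le _) ha
      have h2 := p_mul_wt_le hp.out.pos X
      have h3 := Nat.mul_le_mul_right (wt p X) hp.out.two_le
      omega
    exact (ih _ hlt _ rfl).trans (padicValNat_factorial_mono (p_mul_wt_le hp.out.pos _))

/-- The valuation of the hook product is at most that of the factorial of the number of hooks. -/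
theorem hval_le (p : ℕ) [hp : Fact p.Prime] (X : Finset ℕ) : hval p X ≤ padicValNat p (nh X)! :=
  (hval_le_wt p X).trans (padicValNat_factorial_mono (p_mul_wt_le hp.out.pos X))

/-! ### Hooks as pairs -/

/-- The hooks: a bead and an empty place below it. -/
def hooks (X : Finset ℕ) : Finset (ℕ × ℕ) :=
  X.biUnion fun x => ((Finset.range x).filter (· ∉ X)).image (x, ·)

/-- The valuation of the product of the hook lengths. -/
def hookVal (p : ℕ) (X : Finset ℕ) : ℕ := ∑ q ∈ hooks X, (q.1 - q.2).factorization p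

/-- The beads of runner `a`, read on that runner. -/
def runner (p a : ℕ) (X : Finset ℕ) : Finset ℕ := (X.filter (· % p = a)).image (· / p)

theorem runner_eq_quot (p a : ℕ) (X : Finset ℕ) : runner p a X = quot p X a := rfl

theorem mem_hooks {X : Finset ℕ} {q : ℕ × ℕ} : q ∈ hooks X ↔ q.1 ∈ X ∧ q.2 < q.1 ∧ q.2 ∉ X := by
  obtain ⟨x, z⟩ := q
  simp [hooks]

theorem sum_hooks {M : Type*} [AddCommMonoid M] (X : Finset ℕ) (f : ℕ → ℕ → M) :
    ∑ q ∈ hooks X, f q.1 q.2 = ∑ x ∈ X, ∑ z ∈ gaps X x, f x z := by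
  rw [sum_sigma']
  refine sum_nbij' (fun q => ⟨q.1, q.2⟩) (fun q => (q.1, q.2)) ?_ ?_ (fun _ _ => rfl) (fun _ _ => rfl)
    fun _ _ => rfl
  · intro q hq
    obtain ⟨h1, h2, h3⟩ := mem_hooks.1 hq
    exact mem_sigma.2 ⟨h1, mem_gaps.2 ⟨h2, h3⟩⟩
  · intro q hq
    obtain ⟨h1, h2⟩ := mem_sigma.1 hq
    exact mem_hooks.2 ⟨h1, mem_gaps.1 h2⟩

theorem card_hooks (X : Finset ℕ) : #(hooks X) = nh X := by
  rw [card_eq_sum_ones, sum_hooks X fun _ _ => 1, nh]
  exact sum_congr rfl fun x _ => (card_eq_sum_ones _).symm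

theorem hookVal_eq_hval {p : ℕ} (hp : p.Prime) (X : Finset ℕ) : hookVal p X = hval p X := by
  rw [hookVal, hval, sum_hooks X fun x z => (x - z).factorization p]
  exact sum_congr rfl fun x _ => sum_congr rfl fun z _ => Nat.factorization_def _ hp

theorem card_hooks_add (X : Finset ℕ) :
    (hooks X).card + ∑ i ∈ Finset.range X.card, i = ∑ x ∈ X, x := by
  rw [card_hooks, ← nh_add_choose X, Finset.sum_range_id, Nat.choose_two_right]

theorem weight_eq_sum_runner {N p : ℕ} (hp : 0 < p) {b : Fin N → ℕ} (hb : Function.Injective b) :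
    Runner.weight p b = ∑ a ∈ Finset.range p, (hooks (runner p a (univ.image b))).card := by
  rw [weight_eq_wt hp hb, wt]
  exact sum_congr rfl fun a _ => (card_hooks _).symm

theorem hookVal_eq_runner {p : ℕ} (hp : p.Prime) (X : Finset ℕ) :
    hookVal p X = ∑ a ∈ Finset.range p, ((hooks (runner p a X)).card + hookVal p (runner p a X)) := by
  haveI := Fact.mk hp
  simp only [hookVal_eq_hval hp, card_hooks, runner_eq_quot]
  exact hval_eq p X

theorem hookVal_le {N p : ℕ} (hp : p.Prime) {b : Fin N → ℕ} (hb : Function.Injective b) :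
    hookVal p (univ.image b) ≤ (p * Runner.weight p b)!.factorization p := by
  haveI := Fact.mk hp
  rw [hookVal_eq_hval hp, Nat.factorization_def _ hp, weight_eq_wt hp.pos hb]
  exact hval_le_wt p _

theorem hval_eq_zero_of_lt {p : ℕ} [hp : Fact p.Prime] {X : Finset ℕ} (h : nh X < p) :
    hval p X = 0 := by
  refine Nat.eq_zero_of_le_zero ((hval_le p X).trans (le_of_eq ?_))
  refine padicValNat.eq_zero_of_not_dvd fun hd => ?_
  exact h.not_ge (hp.out.dvd_factorial.1 hd)

theorem hookVal_of_lt {N p : ℕ} (hp : p.Prime) {b : Fin N → ℕ} (hb : Function.Injective b)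
    (hw : Runner.weight p b < p) : hookVal p (univ.image b) = Runner.weight p b := by
  haveI := Fact.mk hp
  rw [hookVal_eq_hval hp, hval_eq, sum_add_distrib, ← wt, weight_eq_wt hp.pos hb]
  rw [weight_eq_wt hp.pos hb] at hw
  rw [sum_eq_zero fun a ha => hval_eq_zero_of_lt ?_, add_zero]
  exact (single_le_sum (f := fun a => nh (quot p (univ.image b) a)) (fun _ _ => Nat.zero_le _) ha).trans_lt hw

/-- With enough beads every runner holds `n` of them. -/
theorem count_ge {N p n : ℕ} {b : Fin N → ℕ} (hb : Function.Injective b)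
    (hs : ∑ i, b i = n + ∑ i : Fin N, (i : ℕ)) (hN : p * (n + 1) + n ≤ N) :
    ∀ a < p, n ≤ #{i | b i % p = a} := by
  intro a ha
  set X := univ.image b with hX
  have hcard : #X = N := by rw [hX, card_image_of_injective _ hb, card_univ, Fintype.card_fin]
  have hn : nh X = n := by
    have h := card_hooks_add X
    rw [card_hooks, hcard, Finset.sum_range fun i => i, hX, Runner.sum_image' hb, hs] at h
    rw [hX]
    omega
  have hfull : ∀ g < p * (n + 1), g ∈ X := by
    intro g hg
    by_contra hgX
    have hlow : #(X.filter fun x => x ≤ g) ≤ g := by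
      refine (card_le_card fun x hx => ?_).trans_eq (card_range g)
      obtain ⟨hx, hxg⟩ := mem_filter.1 hx
      exact mem_range.2 (lt_of_le_of_ne hxg fun e => hgX (e ▸ hx))
    have hhigh : #(X.filter fun x => ¬ x ≤ g) ≤ n := by
      rw [← hn, nh, card_eq_sum_ones]
      refine le_trans (sum_le_sum fun x hx => ?_) (sum_le_sum_of_subset (filter_subset _ _))
      obtain ⟨-, hxg⟩ := mem_filter.1 hx
      exact card_pos.2 ⟨g, mem_gaps.2 ⟨not_le.1 hxg, hgX⟩⟩
    have := card_filter_add_card_filter_not (s := X) (fun x => x ≤ g)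
    omega
  calc n ≤ #((range n).image fun k => a + p * k) := by
        rw [card_image_of_injective _ fun u v h => Nat.eq_of_mul_eq_mul_left (by omega : 0 < p)
          (by simpa using h), card_range]
    _ ≤ #(X.filter (· % p = a)) := card_le_card fun x hx => by
        obtain ⟨k, hk, rfl⟩ := mem_image.1 hx
        rw [mem_range] at hk
        have h1 := Nat.mul_le_mul_left p hk
        rw [Nat.mul_succ] at h1
        refine mem_filter.2 ⟨hfull _ ?_, by rw [Nat.add_mul_mod_self_left, Nat.mod_eq_of_lt ha]⟩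
        rw [Nat.mul_succ]
        omega
    _ = #{i | b i % p = a} := by rw [hX, Runner.card_filter_image hb]

/-! ### Configurations with given runners -/

/-- The configuration with runners `R a`. -/
def ofRunners (p : ℕ) (R : ℕ → Finset ℕ) : Finset ℕ :=
  (range p).biUnion fun a => (R a).image fun y => a + p * y

theorem quot_ofRunners {p : ℕ} (R : ℕ → Finset ℕ) {a : ℕ} (ha : a < p) :
    quot p (ofRunners p R) a = R a := by
  ext y
  rw [mem_quot ha]
  simp only [ofRunners, mem_biUnion, mem_range, mem_image]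
  constructor
  · rintro ⟨c, hc, z, hz, he⟩
    have h1 := congrArg (· % p) he
    simp only [Nat.add_mul_mod_self_left, Nat.mod_eq_of_lt hc, Nat.mod_eq_of_lt ha] at h1
    subst h1
    rwa [← Nat.eq_of_mul_eq_mul_left (show 0 < p by omega) (Nat.add_left_cancel he)]
  · exact fun h => ⟨a, ha, y, h, rfl⟩

theorem card_filter_runner {p : ℕ} (hp : 0 < p) {X Z : Finset ℕ}
    (hc : ∀ a < p, #(quot p X a) = #(quot p Z a)) (a : ℕ) :
    #(X.filter (· % p = a)) = #(Z.filter (· % p = a)) := by
  by_cases ha : a < p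
  · rw [← card_quot, ← card_quot, hc a ha]
  · have : ∀ W : Finset ℕ, W.filter (· % p = a) = ∅ := fun W =>
      filter_eq_empty_iff.2 fun x _ h => ha (h ▸ Nat.mod_lt x hp)
    rw [this, this]

theorem card_eq_of_quot {p : ℕ} (hp : 0 < p) {X Z : Finset ℕ}
    (hc : ∀ a < p, #(quot p X a) = #(quot p Z a)) : #X = #Z := by
  have h : ∀ W : Finset ℕ, #W = ∑ a ∈ range p, #(quot p W a) := fun W => by
    rw [card_eq_sum_card_fiberwise (t := range p) (f := fun x => x % p)
      fun x _ => mem_coe.2 (mem_range.2 (Nat.mod_lt x hp))]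
    exact sum_congr rfl fun a _ => card_quot.symm
  rw [h X, h Z]
  exact sum_congr rfl fun a ha => hc a (mem_range.1 ha)

theorem nh_add_wt {p : ℕ} (hp : 0 < p) {X Z : Finset ℕ}
    (hc : ∀ a < p, #(quot p X a) = #(quot p Z a)) :
    nh X + p * wt p Z = nh Z + p * wt p X := by
  have key : ∀ W : Finset ℕ, nh W + (#W).choose 2 =
      ∑ a ∈ range p, (a * #(quot p W a) + p * ((#(quot p W a)).choose 2)) + p * wt p W := by
    intro W
    rw [nh_add_choose, wt, mul_sum, ← sum_add_distrib,
      ← sum_fiberwise_of_maps_to (t := range p) (g := fun x => x % p)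
        fun x _ => mem_range.2 (Nat.mod_lt x hp)]
    refine sum_congr rfl fun a ha => ?_
    have h2 := nh_add_choose (quot p W a)
    rw [add_assoc, ← mul_add, add_comm ((#(quot p W a)).choose 2), h2]
    rw [quot, sum_image, card_image_of_injOn, mul_sum]
    · rw [mul_comm, ← smul_eq_mul (α := ℕ), ← sum_const, ← sum_add_distrib]
      refine sum_congr rfl fun x hx => ?_
      rw [← (mem_filter.1 hx).2, Nat.mod_add_div]
    all_goals
      intro x hx y hy h
      rw [← Nat.mod_add_div x p, ← Nat.mod_add_div y p, (mem_filter.1 hx).2, (mem_filter.1 hy).2,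
        show x / p = y / p from h]
  have h1 := key X
  have h2 := key Z
  rw [card_eq_of_quot hp hc] at h1
  rw [sum_congr rfl fun a ha => show a * #(quot p X a) + p * ((#(quot p X a)).choose 2) =
    a * #(quot p Z a) + p * ((#(quot p Z a)).choose 2) by rw [hc a (mem_range.1 ha)]] at h1
  omega

/-- The runner with `c` beads whose top bead is moved over `k` places. -/
def oneRow (c k : ℕ) : Finset ℕ := if k = 0 then range c else insert (c - 1 + k) (range (c - 1))

theorem nh_range (c : ℕ) : nh (range c) = 0 :=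
  sum_eq_zero fun x hx => by
    rw [card_eq_zero, eq_empty_iff_forall_notMem]
    intro z hz
    obtain ⟨h1, h2⟩ := mem_gaps.1 hz
    exact h2 (mem_range.2 (h1.trans (mem_range.1 hx)))

theorem oneRow_spec {c k : ℕ} (hk : k ≤ c) (p : ℕ) [Fact p.Prime] :
    #(oneRow c k) = c ∧ nh (oneRow c k) = k ∧ hval p (oneRow c k) = padicValNat p k ! := by
  rw [oneRow]
  by_cases h0 : k = 0
  · rw [if_pos h0, h0, card_range, nh_range]
    refine ⟨rfl, rfl, ?_⟩
    rw [hval_eq_zero_of_lt (by rw [nh_range]; exact (Fact.out (p := p.Prime)).pos)]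
    simp
  rw [if_neg h0]
  have hns : c - 1 + k ∉ range (c - 1) := by simp
  have hold : ∀ x ∈ range (c - 1), gaps (insert (c - 1 + k) (range (c - 1))) x = ∅ := fun x hx => by
    rw [eq_empty_iff_forall_notMem]
    intro z hz
    obtain ⟨h1, h2⟩ := mem_gaps.1 hz
    exact h2 (mem_insert_of_mem (mem_range.2 (h1.trans (mem_range.1 hx))))
  have hnew : gaps (insert (c - 1 + k) (range (c - 1))) (c - 1 + k) = (range k).image (c - 1 + ·) := by
    ext z
    simp only [mem_gaps, mem_insert, mem_range, mem_image, not_or, not_lt]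
    exact ⟨fun h => ⟨z - (c - 1), by omega, by omega⟩, fun ⟨j, hj, hjz⟩ => by omega⟩
  refine ⟨by rw [card_insert_of_notMem hns, card_range]; omega, ?_, ?_⟩
  · rw [nh, sum_insert hns, hnew, card_image_of_injective _ (add_right_injective _), card_range,
      sum_eq_zero fun x hx => by rw [hold x hx, card_empty], add_zero]
  · rw [hval, sum_insert hns, hnew, sum_image fun _ _ _ _ h => Nat.add_left_cancel h,
      sum_eq_zero (s := range (c - 1)) fun x hx => by rw [hold x hx, sum_empty], add_zero,
      ← sum_range_reflect]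
    have : ∀ m : ℕ, ∑ j ∈ range m, padicValNat p (j + 1) = padicValNat p m ! := by
      intro m
      induction m with
      | zero => simp
      | succ m ih =>
        rw [sum_range_succ, ih, Nat.factorial_succ,
          padicValNat.mul (Nat.succ_ne_zero m) (Nat.factorial_ne_zero m), add_comm]
    rw [← this k]
    refine sum_congr rfl fun j hj => ?_
    rw [mem_range] at hj
    congr 1
    omega

/-- A configuration with prescribed one-row quotients. -/
theorem exists_rows {p : ℕ} [hp : Fact p.Prime] (Z : Finset ℕ) (k : ℕ → ℕ)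
    (hk : ∀ a < p, k a ≤ #(quot p Z a)) :
    ∃ X : Finset ℕ, (∀ a < p, #(quot p X a) = #(quot p Z a)) ∧ (∀ a < p, nh (quot p X a) = k a) ∧
      hval p X = ∑ a ∈ range p, (k a + padicValNat p (k a)!) := by
  refine ⟨ofRunners p fun a => oneRow #(quot p Z a) (k a), fun a ha => ?_, fun a ha => ?_, ?_⟩
  · rw [quot_ofRunners _ ha]; exact (oneRow_spec (hk a ha) p).1
  · rw [quot_ofRunners _ ha]; exact (oneRow_spec (hk a ha) p).2.1
  · rw [hval_eq]
    refine sum_congr rfl fun a ha => ?_
    rw [mem_range] at ha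
    rw [quot_ofRunners _ ha]
    obtain ⟨-, h1, h2⟩ := oneRow_spec (hk a ha) p
    rw [h1, h2]

theorem padicValNat_factorial_succ_pow {p : ℕ} [hp : Fact p.Prime] : ∀ j r : ℕ,
    p ^ j + r < p ^ (j + 1) →
      padicValNat p (p ^ j + r)! = padicValNat p (p ^ j)! + padicValNat p r ! := by
  intro j
  induction j with
  | zero =>
    intro r hr
    rw [pow_zero, zero_add, pow_one] at hr
    have hz : ∀ m < p, padicValNat p m ! = 0 := fun m hm =>
      padicValNat.eq_zero_of_not_dvd fun h => hm.not_ge (hp.out.dvd_factorial.1 h)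
    rw [pow_zero, hz _ hr, hz r (by omega), hz 1 (by omega)]
  | succ j ih =>
    intro r hr
    have hmod := Nat.mod_lt r hp.out.pos
    have hr' : p ^ j + r / p < p ^ (j + 1) := by
      by_contra hge
      have h1 := Nat.mul_le_mul_left p (not_lt.1 hge)
      rw [mul_add, ← pow_succ', ← pow_succ'] at h1
      have := Nat.div_add_mod r p
      omega
    have e1 : p ^ (j + 1) + r = p * (p ^ j + r / p) + r % p := by
      rw [mul_add, ← pow_succ', add_assoc, Nat.div_add_mod]
    conv_lhs => rw [e1, padicValNat_factorial_mul_add _ hmod, padicValNat_factorial_mul, ih _ hr']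
    conv_rhs => rw [pow_succ', padicValNat_factorial_mul, ← Nat.div_add_mod r p,
      padicValNat_factorial_mul_add _ hmod, padicValNat_factorial_mul]
    omega

theorem padicValNat_factorial_pow_split {p : ℕ} [hp : Fact p.Prime] : ∀ i : ℕ,
    padicValNat p (p ^ (i + 1))! =
      padicValNat p (p ^ i)! + padicValNat p ((p - 1) * p ^ i)! + 1 := by
  have hz : ∀ m < p, padicValNat p m ! = 0 := fun m hm =>
    padicValNat.eq_zero_of_not_dvd fun h => hm.not_ge (hp.out.dvd_factorial.1 h)
  intro i
  induction i with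
  | zero =>
    have := hp.out.two_le
    have h := padicValNat_factorial_mul (p := p) 1
    rw [mul_one, hz 1 (by omega)] at h
    rw [pow_zero, mul_one, zero_add, pow_one, h, hz 1 (by omega), hz (p - 1) (by omega)]
  | succ i ih =>
    have h1 := padicValNat_factorial_mul (p := p) (p ^ (i + 1))
    have h2 := padicValNat_factorial_mul (p := p) ((p - 1) * p ^ i)
    have h3 := padicValNat_factorial_mul (p := p) (p ^ i)
    rw [← pow_succ'] at h1 h3
    rw [show p * ((p - 1) * p ^ i) = (p - 1) * p ^ (i + 1) by ring] at h2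
    have h4 : p ^ (i + 1) = p ^ i + (p - 1) * p ^ i := by
      rw [pow_succ', Nat.sub_mul, one_mul,
        Nat.add_sub_cancel' (Nat.le_mul_of_pos_left _ hp.out.pos)]
    omega

/-- A configuration without hooks of two kinds: a `2`-core of size `r ≤ 1`. -/
theorem exists_core_two {c r : ℕ} (hr : r ≤ 1) (hc : r ≤ c) : ∃ Z : Finset ℕ,
    #Z = c ∧ nh Z = r ∧ wt 2 Z = 0 ∧ ∀ a < 2, (c - r) / 2 ≤ #(quot 2 Z a) := by
  obtain ⟨h1, h2, -⟩ := oneRow_spec (c := c) (k := r) hc 2
  refine ⟨oneRow c r, h1, h2, ?_, fun a ha => ?_⟩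
  · have := p_mul_wt_le (p := 2) (by norm_num) (oneRow c r)
    omega
  · have hsub : (range ((c - r) / 2)) ⊆ quot 2 (oneRow c r) a := by
      intro y hy
      rw [mem_range] at hy
      refine (mem_quot ha).2 ?_
      rw [oneRow]
      split
      · rw [mem_range]; omega
      · rw [mem_insert, mem_range]; omega
    simpa using card_le_card hsub

/-- For two runners: a runner of `m ≥ 3` hooks with valuation one less than possible. -/
theorem exists_deficient_two : ∀ m : ℕ, 3 ≤ m → ∀ c, m ≤ c →
    ∃ Q : Finset ℕ, #Q = c ∧ nh Q = m ∧ hval 2 Q + 1 = padicValNat 2 m ! := by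
  intro m
  induction m using Nat.strong_induction_on with
  | _ m ih =>
  intro hm c hc
  by_cases h3 : m = 3
  · -- the partition (2, 1)
    subst h3
    refine ⟨insert (c + 1) (insert (c - 1) (range (c - 2))), ?_, ?_, ?_⟩
    · rw [card_insert_of_notMem, card_insert_of_notMem, card_range]
      · omega
      all_goals simp <;> omega
    all_goals
      set Q := insert (c + 1) (insert (c - 1) (range (c - 2))) with hQ
      have g1 : ∀ x ∈ range (c - 2), gaps Q x = ∅ := fun x hx => by
        rw [eq_empty_iff_forall_notMem]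
        intro z hz
        obtain ⟨h1, h2⟩ := mem_gaps.1 hz
        simp only [hQ, mem_insert, mem_range] at h2 hx
        omega
      have g2 : gaps Q (c - 1) = {c - 2} := by
        ext z
        simp only [mem_gaps, hQ, mem_insert, mem_range, mem_singleton]
        omega
      have g3 : gaps Q (c + 1) = {c - 2, c} := by
        ext z
        simp only [mem_gaps, hQ, mem_insert, mem_range, mem_singleton]
        omega
    · rw [nh, hQ, sum_insert, sum_insert, ← hQ, g2, g3, sum_eq_zero fun x hx => by rw [g1 x hx, card_empty],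
        card_singleton, card_pair (by omega)]
      all_goals simp <;> omega
    · rw [hval, hQ, sum_insert, sum_insert, ← hQ, g2, g3,
        sum_eq_zero (s := range (c - 2)) fun x hx => by rw [g1 x hx, sum_empty],
        sum_pair (by omega), sum_singleton, show c + 1 - (c - 2) = 3 by omega,
        show c + 1 - c = 1 by omega, show c - 1 - (c - 2) = 1 by omega,
        show (3 : ℕ) ! = 2 * 3 by rfl, padicValNat.mul (by norm_num) (by norm_num),
        padicValNat.self (by norm_num), padicValNat.eq_zero_of_not_dvd (by norm_num : ¬ 2 ∣ 3)]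
      · simp
      all_goals simp <;> omega
  obtain ⟨Z, hZc, hZn, hZw, hZq⟩ := exists_core_two (c := c) (r := m % 2) (by omega) (by omega)
  have hge : ∀ a < 2, m / 2 ≤ #(quot 2 Z a) := fun a ha => by have := hZq a ha; omega
  have hval_half : padicValNat 2 m ! = m / 2 + padicValNat 2 (m / 2)! := by
    conv_lhs => rw [← Nat.div_add_mod m 2, padicValNat_factorial_mul_add _ (Nat.mod_lt m two_pos),
      padicValNat_factorial_mul]
    omega
  obtain ⟨X, hXc, hXw, hXv⟩ : ∃ X : Finset ℕ, (∀ a < 2, #(quot 2 X a) = #(quot 2 Z a)) ∧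
      wt 2 X = m / 2 ∧ hval 2 X + 1 = padicValNat 2 m ! := by
    rcases Nat.lt_or_ge (m / 2) 3 with h4 | h6
    · obtain ⟨X, h1, h2, h3⟩ := exists_rows Z (fun _ => 1) fun a ha => le_trans (by omega) (hge a ha)
      refine ⟨X, h1, ?_, ?_⟩
      · rw [wt, sum_congr rfl fun a ha => h2 a (mem_range.1 ha)]
        simp; omega
      · rw [h3, hval_half, show m / 2 = 2 by omega]
        simp [Nat.factorial_two]
    · obtain ⟨Q, q1, q2, q3⟩ := ih (m / 2) (by omega) h6 _ (hge 0 two_pos)
      refine ⟨ofRunners 2 fun a => if a = 0 then Q else range #(quot 2 Z a), fun a ha => ?_, ?_, ?_⟩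
      · rw [quot_ofRunners _ ha]
        split
        · next h => rw [q1, h]
        · exact card_range _
      · rw [wt, sum_two, quot_ofRunners _ two_pos, quot_ofRunners _ one_lt_two,
          if_pos rfl, if_neg one_ne_zero, q2, nh_range, add_zero]
      · rw [hval_eq, sum_two, quot_ofRunners _ two_pos,
          quot_ofRunners _ one_lt_two, if_pos rfl, if_neg one_ne_zero, q2, nh_range,
          hval_eq_zero_of_lt (X := range _) (by rw [nh_range]; norm_num), hval_half]
        omega
  refine ⟨X, (card_eq_of_quot two_pos hXc).trans hZc, ?_, hXv⟩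
  have := nh_add_wt two_pos hXc
  rw [hZw, hXw, hZn] at this
  omega

theorem exists_of_quot {N p : ℕ} (hp : 0 < p) {b₀ : Fin N → ℕ} (hb₀ : Function.Injective b₀)
    {X : Finset ℕ} (hc : ∀ a < p, #(quot p X a) = #(quot p (univ.image b₀) a))
    (hw : wt p X = Runner.weight p b₀) :
    ∃ b : Fin N → ℕ, Function.Injective b ∧ Runner.SameCnt p b b₀ ∧ ∑ i, b i = ∑ i, b₀ i ∧
      univ.image b = X := by
  have hN : #X = N := by
    rw [card_eq_of_quot hp hc, card_image_of_injective _ hb₀, card_univ, Fintype.card_fin]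
  have hinj : Function.Injective (X.orderEmbOfFin hN) := (X.orderEmbOfFin hN).injective
  have himg : univ.image (X.orderEmbOfFin hN) = X := image_orderEmbOfFin_univ X hN
  refine ⟨X.orderEmbOfFin hN, hinj, fun a => ?_, ?_, himg⟩
  · rw [← Runner.card_filter_image hinj, himg, ← Runner.card_filter_image hb₀]
    exact card_filter_runner hp hc a
  · have h1 := nh_add_wt hp hc
    rw [hw, weight_eq_wt hp hb₀] at h1
    rw [← Runner.sum_image' hinj, himg, ← Runner.sum_image' hb₀, ← nh_add_choose X,
      ← nh_add_choose (univ.image b₀), card_eq_of_quot hp hc]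
    omega

theorem le_card_quot {N p : ℕ} {b₀ : Fin N → ℕ} (hb₀ : Function.Injective b₀)
    (hbig : ∀ a < p, Runner.weight p b₀ ≤ #{i | b₀ i % p = a}) :
    ∀ a < p, Runner.weight p b₀ ≤ #(quot p (univ.image b₀) a) := fun a ha => by
  rw [card_quot, Runner.card_filter_image hb₀]
  exact hbig a ha

theorem exists_config_max {N p : ℕ} (hp : p.Prime) (b₀ : Fin N → ℕ) (hb₀ : Function.Injective b₀)
    (hbig : ∀ a < p, Runner.weight p b₀ ≤ #{i | b₀ i % p = a}) :
    ∃ b : Fin N → ℕ, Function.Injective b ∧ Runner.SameCnt p b b₀ ∧ ∑ i, b i = ∑ i, b₀ i ∧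
      hookVal p (univ.image b) = (p * Runner.weight p b₀)!.factorization p := by
  haveI := Fact.mk hp
  set w := Runner.weight p b₀ with hwdef
  obtain ⟨X, h1, h2, h3⟩ := exists_rows (univ.image b₀) (fun a => if a = 0 then w else 0) fun a ha => by
    split
    · exact le_card_quot hb₀ hbig a ha
    · exact Nat.zero_le _
  have hsum : ∀ f : ℕ → ℕ, f 0 = 0 →
      ∑ a ∈ range p, f (if a = 0 then w else 0) = f w := fun f hf => by
    rw [sum_eq_single 0 (fun a _ ha => by rw [if_neg ha, hf])
      (fun h => absurd (mem_range.2 hp.pos) h), if_pos rfl]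
  obtain ⟨b, hb, hc, hs, hX⟩ := exists_of_quot hp.pos hb₀ h1 (by
    rw [wt, sum_congr rfl fun a ha => h2 a (mem_range.1 ha)]; exact hsum id rfl)
  refine ⟨b, hb, hc, hs, ?_⟩
  rw [hX, hookVal_eq_hval hp, h3, Nat.factorization_def _ hp, padicValNat_factorial_mul, add_comm]
  rw [hsum (fun k => k + padicValNat p k !) (by simp), add_comm]

theorem exists_config_one {N p : ℕ} (hp : p.Prime) (b₀ : Fin N → ℕ) (hb₀ : Function.Injective b₀)
    (hbig : ∀ a < p, Runner.weight p b₀ ≤ #{i | b₀ i % p = a}) (hpw : p ≤ Runner.weight p b₀)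
    (h22 : p = 2 → 3 ≤ Runner.weight p b₀) :
    ∃ b : Fin N → ℕ, Function.Injective b ∧ Runner.SameCnt p b b₀ ∧ ∑ i, b i = ∑ i, b₀ i ∧
      hookVal p (univ.image b) + 1 = (p * Runner.weight p b₀)!.factorization p ∧
      (p = 2 → (hooks (runner 2 0 (univ.image b))).card ≠ (hooks (runner 2 1 (univ.image b))).card) := by
  haveI := Fact.mk hp
  set w := Runner.weight p b₀ with hwdef
  have hge := le_card_quot hb₀ hbig
  by_cases h2 : p = 2
  · subst h2
    obtain ⟨Q, q1, q2, q3⟩ := exists_deficient_two w (h22 rfl) _ (hge 0 two_pos)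
    set R : ℕ → Finset ℕ := fun a => if a = 0 then Q else range #(quot 2 (univ.image b₀) a)
    have hR0 : R 0 = Q := if_pos rfl
    have hR1 : R 1 = range #(quot 2 (univ.image b₀) 1) := if_neg one_ne_zero
    obtain ⟨b, hb, hc, hs, hX⟩ := exists_of_quot two_pos hb₀ (X := ofRunners 2 R) (fun a ha => by
        rw [quot_ofRunners _ ha]
        rcases (show a = 0 ∨ a = 1 by omega) with rfl | rfl
        · rw [hR0, q1]
        · rw [hR1, card_range]) (by
        rw [wt, sum_two, quot_ofRunners _ two_pos, quot_ofRunners _ one_lt_two,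
          hR0, hR1, q2, nh_range, add_zero])
    refine ⟨b, hb, hc, hs, ?_, fun _ => ?_⟩
    · rw [hX, hookVal_eq_hval hp, hval_eq, sum_two, quot_ofRunners _ two_pos,
        quot_ofRunners _ one_lt_two, hR0, hR1, q2, nh_range,
        hval_eq_zero_of_lt (X := range _) (by rw [nh_range]; norm_num), Nat.factorization_def _ hp,
        padicValNat_factorial_mul]
      omega
    · rw [hX, card_hooks, card_hooks, runner_eq_quot, runner_eq_quot, quot_ofRunners _ two_pos,
        quot_ofRunners _ one_lt_two, hR0, hR1, q2, nh_range]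
      have := h22 rfl
      omega
  have hp3 : 3 ≤ p := by have := hp.two_le; omega
  obtain ⟨j, hj⟩ : ∃ j, j + 1 = Nat.log p w :=
    ⟨Nat.log p w - 1, Nat.sub_add_cancel (Nat.log_pos hp.one_lt hpw)⟩
  have hlow : p ^ (j + 1) ≤ w := hj ▸ Nat.pow_log_le_self p (by omega)
  have hhigh : w < p ^ (j + 1 + 1) := hj ▸ Nat.lt_pow_succ_log_self hp.one_lt w
  have hsplit : p ^ (j + 1) = p ^ j + (p - 1) * p ^ j := by
    rw [Nat.sub_mul, one_mul, Nat.add_sub_cancel' (Nat.le_mul_of_pos_left _ hp.pos), pow_succ']
  set k : ℕ → ℕ := fun a => if a = 0 then p ^ j else if a = 1 then (p - 1) * p ^ j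
    else if a = 2 then w - p ^ (j + 1) else 0 with hk
  obtain ⟨X, h1, h2', h3⟩ := exists_rows (univ.image b₀) k fun a ha => by
    refine le_trans ?_ (hge a ha)
    simp only [hk]
    split_ifs <;> omega
  have hsum : ∀ f : ℕ → ℕ, f 0 = 0 → ∑ a ∈ range p, f (k a) =
      f (p ^ j) + f ((p - 1) * p ^ j) + f (w - p ^ (j + 1)) := fun f hf => by
    rw [← sum_range_add_sum_Ico _ hp3, sum_eq_zero (s := Finset.Ico 3 p), add_zero, sum_range_succ,
      sum_range_succ, sum_range_one]
    · simp [hk]
    · intro a ha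
      rw [Finset.mem_Ico] at ha
      simp only [hk]
      rw [if_neg (by omega), if_neg (by omega), if_neg (by omega), hf]
  obtain ⟨b, hb, hc, hs, hX⟩ := exists_of_quot hp.pos hb₀ h1 (by
    rw [wt, sum_congr rfl fun a ha => h2' a (mem_range.1 ha)]
    exact (hsum id rfl).trans (by simp only [id]; omega))
  refine ⟨b, hb, hc, hs, ?_, fun h => absurd h h2⟩
  rw [hX, hookVal_eq_hval hp, h3, hsum (fun k => k + padicValNat p k !) (by simp),
    Nat.factorization_def _ hp, padicValNat_factorial_mul]
  have h5 := padicValNat_factorial_pow_split (p := p) j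
  have h6 := padicValNat_factorial_succ_pow (p := p) (j + 1) (w - p ^ (j + 1)) (by omega)
  rw [Nat.add_sub_cancel' hlow] at h6
  omega

/-! ### Weight two on two runners -/

theorem eq_range_of_nh_eq_zero {Q : Finset ℕ} (h : nh Q = 0) : Q = range #Q := by
  refine (eq_of_subset_of_card_le (fun x hx => mem_range.2 ?_) (by simp))
  have hall : range (x + 1) ⊆ Q := fun z hz => by
    rw [mem_range] at hz
    rcases Nat.lt_or_ge z x with hzx | hzx
    · by_contra hzQ
      have := (sum_eq_zero_iff.1 h) x hx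
      rw [card_eq_zero, eq_empty_iff_forall_notMem] at this
      exact this z (mem_gaps.2 ⟨hzx, hzQ⟩)
    · rwa [show z = x by omega]
  simpa using card_le_card hall

theorem small_hooks {Q : Finset ℕ} (h0 : 1 ≤ nh Q) (h2 : nh Q ≤ 2) :
    (nh Q = 1 → Q = insert #Q (range (#Q - 1))) ∧ (nh Q = 2 → 1 ≤ hval 2 Q) := by
  obtain ⟨x₀, hx₀, hne⟩ : ∃ x ∈ Q, (gaps Q x).Nonempty := by
    by_contra! hall
    have : nh Q = 0 := sum_eq_zero fun x hx => by
      rw [card_eq_zero]; exact hall x hx
    omega
  have hbad : ∃ g, g ∉ Q := ⟨hne.choose, (mem_gaps.1 hne.choose_spec).2⟩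
  set g := Nat.find hbad with hg
  have hgQ : g ∉ Q := Nat.find_spec hbad
  have hlow : ∀ z < g, z ∈ Q := fun z hz => not_not.1 (Nat.find_min hbad hz)
  have hgx₀ : g < x₀ := lt_of_le_of_lt (Nat.find_min' hbad (mem_gaps.1 hne.choose_spec).2)
    (mem_gaps.1 hne.choose_spec).1
  set A := Q.filter fun x => g < x with hA
  have hx₀A : x₀ ∈ A := mem_filter.2 ⟨hx₀, hgx₀⟩
  have hgap : ∀ x ∈ A, g ∈ gaps Q x := fun x hx => mem_gaps.2 ⟨(mem_filter.1 hx).2, hgQ⟩
  have hsum : ∑ x ∈ A, #(gaps Q x) = nh Q := by
    refine sum_subset (filter_subset _ _) fun x hx hxA => ?_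
    rw [card_eq_zero, eq_empty_iff_forall_notMem]
    intro z hz
    refine (mem_gaps.1 hz).2 (hlow z ((mem_gaps.1 hz).1.trans_le ?_))
    by_contra hgx
    exact hxA (mem_filter.2 ⟨hx, not_le.1 hgx⟩)
  set x := A.max' ⟨x₀, hx₀A⟩ with hxdef
  have hxA : x ∈ A := A.max'_mem _
  obtain ⟨hxQ, hgx⟩ := mem_filter.1 hxA
  -- the places between `g` and `x`
  have hcount : (x - g) + 1 ≤ #A + #(gaps Q x) := by
    have hsub : Finset.Icc g x ⊆ A ∪ gaps Q x := fun z hz => by
      rw [Finset.mem_Icc] at hz
      rw [mem_union, mem_gaps, hA, mem_filter]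
      by_cases hzQ : z ∈ Q
      · exact Or.inl ⟨hzQ, lt_of_le_of_ne hz.1 fun e => hgQ (e ▸ hzQ)⟩
      · exact Or.inr ⟨lt_of_le_of_ne hz.2 fun e => hzQ (e ▸ hxQ), hzQ⟩
    have := (card_le_card hsub).trans (card_union_le _ _)
    rw [Nat.card_Icc] at this
    omega
  have hAge : #A + #(gaps Q x) ≤ nh Q + 1 := by
    rw [← hsum, ← add_sum_erase A _ hxA, ← card_erase_add_one hxA, add_right_comm, add_comm _ #(gaps Q x)]
    refine Nat.add_le_add_right (Nat.add_le_add_left ?_ _) _
    rw [card_eq_sum_ones]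
    exact sum_le_sum fun y hy => card_pos.2 ⟨g, hgap y (mem_of_mem_erase hy)⟩
  constructor
  · intro h1
    have hxg : x = g + 1 := by omega
    have hQ : Q = insert (g + 1) (range g) := by
      ext z
      rw [mem_insert, mem_range]
      constructor
      · intro hz
        rcases Nat.lt_trichotomy z g with h | h | h
        · exact Or.inr h
        · exact absurd (h ▸ hz) hgQ
        · refine Or.inl (le_antisymm ?_ h)
          rw [← hxg]
          exact A.le_max' z (mem_filter.2 ⟨hz, h⟩)
      · rintro (h | h)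
        · rw [h, ← hxg]; exact hxQ
        · exact hlow z h
    have hc : #Q = g + 1 := by
      rw [hQ, card_insert_of_notMem (by simp), card_range]
    rw [hc, Nat.add_sub_cancel]
    exact hQ
  · intro h2'
    have hxg : x = g + 1 ∨ x = g + 2 := by omega
    rcases hxg with hxg | hxg
    · -- only one hook
      exfalso
      have hA1 : A = {x} := eq_singleton_iff_unique_mem.2 ⟨hxA, fun y hy => by
        have h1 := A.le_max' y hy
        have h2 := (mem_filter.1 hy).2
        omega⟩
      rw [hA1, sum_singleton] at hsum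
      have hgs : gaps Q x ⊆ {g} := fun z hz => by
        obtain ⟨hz1, hz2⟩ := mem_gaps.1 hz
        rw [mem_singleton]
        by_contra hne
        exact hz2 (hlow z (by omega))
      have := card_le_card hgs
      rw [card_singleton] at this
      omega
    · have h1 : padicValNat 2 (x - g) ≤ ∑ z ∈ gaps Q x, padicValNat 2 (x - z) :=
        single_le_sum (f := fun z => padicValNat 2 (x - z)) (fun _ _ => Nat.zero_le _) (hgap x hxA)
      have h3 : ∑ z ∈ gaps Q x, padicValNat 2 (x - z) ≤ hval 2 Q :=
        single_le_sum (f := fun y => ∑ z ∈ gaps Q y, padicValNat 2 (y - z))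
          (fun _ _ => Nat.zero_le _) hxQ
      rw [hxg, Nat.add_sub_cancel_left, padicValNat.self one_lt_two] at h1
      rw [hxg] at h3
      omega

theorem three_le_hookVal_two {N : ℕ} {b : Fin N → ℕ} (hb : Function.Injective b)
    (hw : Runner.weight 2 b = 2) : 3 ≤ hookVal 2 (univ.image b) + 1 := by
  haveI := Fact.mk Nat.prime_two
  rw [hookVal_eq_hval Nat.prime_two, hval_eq, sum_add_distrib, ← wt,
    ← weight_eq_wt two_pos hb, hw]
  omega

theorem config_two_unique {N : ℕ} {b b' : Fin N → ℕ} (hb : Function.Injective b)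
    (hb' : Function.Injective b') (hc : Runner.SameCnt 2 b b') (hs : ∑ i, b i = ∑ i, b' i)
    (hw : Runner.weight 2 b = 2) (hv : hookVal 2 (univ.image b) + 1 = 3)
    (hv' : hookVal 2 (univ.image b') + 1 = 3) : univ.image b = univ.image b' := by
  haveI := Fact.mk Nat.prime_two
  have hquot : ∀ {c : Fin N → ℕ}, Function.Injective c → Runner.weight 2 c = 2 →
      hookVal 2 (univ.image c) + 1 = 3 → ∀ a < 2, quot 2 (univ.image c) a =
        insert #(quot 2 (univ.image c) a) (range (#(quot 2 (univ.image c) a) - 1)) := by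
    intro c hcinj hcw hcv
    rw [weight_eq_wt two_pos hcinj, wt, sum_two] at hcw
    rw [hookVal_eq_hval Nat.prime_two, hval_eq, sum_two] at hcv
    set Q0 := quot 2 (univ.image c) 0
    set Q1 := quot 2 (univ.image c) 1
    have k0 : nh Q0 = 2 → 1 ≤ hval 2 Q0 := fun h => (small_hooks (by omega) h.le).2 h
    have k1 : nh Q1 = 2 → 1 ≤ hval 2 Q1 := fun h => (small_hooks (by omega) h.le).2 h
    have h01 : nh Q0 = 1 ∧ nh Q1 = 1 := by omega
    intro a ha
    rcases (show a = 0 ∨ a = 1 by omega) with rfl | rfl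
    · exact (small_hooks h01.1.ge (by omega)).1 h01.1
    · exact (small_hooks h01.2.ge (by omega)).1 h01.2
  have h1 := hquot hb hw hv
  have h2 := hquot hb' ((Runner.weight_eq two_pos hb hb' hc hs).symm.trans hw) hv'
  have hcq : ∀ a < 2, #(quot 2 (univ.image b) a) = #(quot 2 (univ.image b') a) := fun a _ => by
    rw [card_quot, card_quot, Runner.card_filter_image hb, Runner.card_filter_image hb', hc a]
  ext x
  have hx := Nat.mod_lt x two_pos
  rw [← Nat.mod_add_div x 2, ← mem_quot hx, ← mem_quot hx, h1 _ hx, h2 _ hx, hcq _ hx]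

/-! ### Reflection -/

theorem hooks_star {N : ℕ} {X : Finset ℕ} (hX : X ⊆ range (2 * N)) :
    hooks (Runner.star N X) = (hooks X).image fun q => (2 * N - 1 - q.2, 2 * N - 1 - q.1) := by
  ext ⟨u, v⟩
  simp only [mem_image, mem_hooks, Runner.mem_star, not_and, not_not, Prod.exists, Prod.mk.injEq]
  constructor
  · rintro ⟨⟨hu, huX⟩, hvu, hv⟩
    exact ⟨2 * N - 1 - v, 2 * N - 1 - u, ⟨hv (by omega), by omega, huX⟩, by omega, by omega⟩
  · rintro ⟨x, z, ⟨hx, hzx, hz⟩, rfl, rfl⟩
    have hxN := mem_range.1 (hX hx)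
    refine ⟨⟨by omega, ?_⟩, by omega, fun _ => ?_⟩
    · rwa [show 2 * N - 1 - (2 * N - 1 - z) = z by omega]
    · rwa [show 2 * N - 1 - (2 * N - 1 - x) = x by omega]

theorem hookVal_star {N p : ℕ} {X : Finset ℕ} (hX : X ⊆ range (2 * N)) :
    hookVal p (Runner.star N X) = hookVal p X := by
  rw [hookVal, hooks_star hX, sum_image]
  · refine sum_congr rfl fun q hq => ?_
    obtain ⟨hq1, hq2, -⟩ := mem_hooks.1 hq
    have := mem_range.1 (hX hq1)
    congr 2
    omega
  · intro q hq q' hq' h
    obtain ⟨hq1, hq2, -⟩ := mem_hooks.1 hq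
    obtain ⟨hq1', hq2', -⟩ := mem_hooks.1 hq'
    have := mem_range.1 (hX hq1)
    have := mem_range.1 (hX hq1')
    simp only [Prod.mk.injEq] at h
    exact Prod.ext (by omega) (by omega)

theorem card_hooks_runner_star {N a : ℕ} {X : Finset ℕ} (hX : X ⊆ range (2 * N)) (ha : a < 2) :
    (hooks (runner 2 (1 - a) (Runner.star N X))).card = (hooks (runner 2 a X)).card := by
  have he : runner 2 (1 - a) (Runner.star N X) = (range N).filter fun y => N - 1 - y ∉ runner 2 a X := by
    ext y
    simp only [runner_eq_quot, mem_quot (show 1 - a < 2 by omega), mem_quot ha, Runner.mem_star,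
      mem_filter, mem_range]
    constructor
    · rintro ⟨h1, h2⟩
      exact ⟨by omega, by rwa [show a + 2 * (N - 1 - y) = 2 * N - 1 - (1 - a + 2 * y) by omega]⟩
    · rintro ⟨h1, h2⟩
      exact ⟨by omega, by rwa [show 2 * N - 1 - (1 - a + 2 * y) = a + 2 * (N - 1 - y) by omega]⟩
  have hsub : runner 2 a X ⊆ range N := fun y hy => by
    rw [runner_eq_quot, mem_quot ha] at hy
    have := mem_range.1 (hX hy)
    rw [mem_range]
    omega
  rw [he]
  generalize runner 2 a X = Q at hsub
  refine card_bij (fun q _ => (N - 1 - q.2, N - 1 - q.1)) ?_ ?_ ?_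
  · rintro ⟨u, v⟩ hq
    simp only [mem_hooks, mem_filter, mem_range, not_and, not_not] at hq ⊢
    exact ⟨hq.2.2 (by omega), by omega, hq.1.2⟩
  · rintro ⟨u, v⟩ hq ⟨u', v'⟩ hq' h
    simp only [mem_hooks, mem_filter, mem_range, Prod.mk.injEq] at hq hq' h ⊢
    omega
  · rintro ⟨x, z⟩ hq
    simp only [mem_hooks] at hq
    have hxN := mem_range.1 (hsub hq.1)
    refine ⟨(N - 1 - z, N - 1 - x), ?_, by simp only [Prod.mk.injEq]; omega⟩
    simp only [mem_hooks, mem_filter, mem_range, not_and, not_not]
    refine ⟨⟨by omega, ?_⟩, by omega, fun _ => ?_⟩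
    · rw [show N - 1 - (N - 1 - z) = z by omega]; exact hq.2.2
    · rw [show N - 1 - (N - 1 - x) = x by omega]; exact hq.1

/-! ### The hook product -/

theorem prod_hooks (X : Finset ℕ) : ∏ q ∈ hooks X, (q.1 - q.2) = hprod X := by
  rw [hprod, prod_sigma']
  refine prod_nbij' (fun q => ⟨q.1, q.2⟩) (fun q => (q.1, q.2)) ?_ ?_ (fun _ _ => rfl) (fun _ _ => rfl)
    fun _ _ => rfl
  · intro q hq
    obtain ⟨h1, h2, h3⟩ := mem_hooks.1 hq
    exact mem_sigma.2 ⟨h1, mem_gaps.2 ⟨h2, h3⟩⟩
  · intro q hq
    obtain ⟨h1, h2⟩ := mem_sigma.1 hq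
    exact mem_hooks.2 ⟨h1, mem_gaps.1 h2⟩

theorem factorization_prod_hooks {p : ℕ} (hp : p.Prime) (X : Finset ℕ) :
    (∏ q ∈ hooks X, (q.1 - q.2)).factorization p = hookVal p X := by
  haveI := Fact.mk hp
  rw [Nat.factorization_def _ hp, prod_hooks, padicValNat_hprod, hookVal_eq_hval hp]

/-- The hook product times the differences of the beads is the product of the factorials. -/
theorem prod_hooks_mul (X : Finset ℕ) :
    (∏ q ∈ hooks X, (q.1 - q.2)) * ∏ x ∈ X, ∏ y ∈ X.filter (· < x), (x - y) = ∏ x ∈ X, x ! := by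
  rw [prod_hooks, hprod_mul]

end CfsgLib.SymBlock.Hooks
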