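import Cfsg.Agent.Lib.SymBlock.Factor
import Cfsg.Agent.Lib.SymBlock.Classes
import Cfsg.Agent.Lib.SymBlock.Defect
import Cfsg.Agent.Lib.Block.DefectFusion

/-!
# A count class is one block

`block_eq_countClass` : all characters with the same counts lie in one block.
-/

open Equiv Finset Cfsg CfsgLib.Block

set_option linter.unusedSectionVars false

namespace CfsgLib.SymBlock

universe u

variable {p : ℕ} {M : Ideal AlgInt} [M.IsMaximal]

section General

variable {G : Type u} [Group G] [Fintype G] [DecidableEq G]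

/-- A class sum acts as a scalar. -/
theorem sum_isConj_irr_mul (χ : IrrCharacter G) (h y : G) [DecidablePred (IsConj h)] :
    ∑ k : {k : G // IsConj h k}, (χ : G → ℂ) ((k : G) * y) =
      centralChar (χ : G → ℂ) h * (χ : G → ℂ) y := by
  classical
  rw [← omega_classSum (fun a b => Char.isClassFunction_irr χ a b) h]
  obtain ⟨f, hf⟩ := χ
  obtain ⟨d, ρ, hρ, rfl⟩ := hf
  show ∑ k : {k : G // IsConj h k}, ρ.character ((k : G) * y) = _ * ρ.character y
  have key := congrArg (fun T => LinearMap.trace ℂ (Fin d → ℂ) (T * ρ y))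
    (rho_classElt ρ (isClassElt_classSum (R := ℂ) h))
  simp only [Algebra.algebraMap_eq_smul_one, smul_mul_assoc, one_mul, map_smul, smul_eq_mul] at key
  refine Eq.trans ?_ key
  have hz : classSum ℂ h = ∑ k : {k : G // IsConj h k}, MonoidAlgebra.single (k : G) (1 : ℂ) := by
    refine ga_ext fun g => ?_
    rw [coeff_sum_apply]
    simp only [classSum, coeff_gaOfFun, MonoidAlgebra.coeff_single, Finsupp.single_apply]
    by_cases hg : IsConj h g
    · rw [if_pos hg, Finset.sum_eq_single ⟨g, hg⟩]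
      · simp
      · rintro ⟨k, hk⟩ _ hne
        simp only [ne_eq, Subtype.mk.injEq] at hne
        simp [hne]
      · simp
    · rw [if_neg hg]
      refine (Finset.sum_eq_zero fun k _ => if_neg ?_).symm
      intro e
      exact hg (e ▸ k.2)
  rw [hz, map_sum, Finset.sum_mul, map_sum]
  refine Finset.sum_congr rfl fun k _ => ?_
  rw [Representation.asAlgebraHom_single_one, ← map_mul]
  rfl

/-- The coefficients of a block idempotent pick out the block. -/
theorem sum_coeffRes_centralRes (hM : IsPModular p M) {B : Set (IrrCharacter G)} (hB : IsPBlock M B)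
    [Fintype (ConjClasses G)] (χ : IrrCharacter G) [Decidable (χ ∈ B)] :
    ∑ C : ConjClasses G, coeffRes M B (rep C) * centralRes M χ (rep C) = if χ ∈ B then 1 else 0 := by
  have h := omegaLoc_blockIdem hM (IsBlockUnion.of_isPBlock hB) χ
  have h' : omegaLoc M χ (blockIdem M B) = ∑ C : ConjClasses G,
      (blockIdem M B : MonoidAlgebra (locRing M) G).coeff (rep C) *
        ⟨_, centralChar_mem χ (rep C)⟩ := by
    apply Subtype.ext
    rw [coe_omegaLoc, omega_toC_eq χ (mem_center_iff_isClassElt.mp (blockIdem M B).2),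
      AddSubmonoidClass.coe_finsetSum]
    rfl
  have h2 := congrArg (res M) (h'.symm.trans h)
  rw [map_sum, Finset.sum_congr rfl fun C _ => map_mul (res M) _ _] at h2
  refine h2.trans ?_
  split_ifs <;> simp

/-- Two characters with congruent central characters on regular classes lie in the same block. -/
theorem mem_of_centralRes_regular (hM : IsPModular p M) {B : Set (IrrCharacter G)} (hB : IsPBlock M B)
    {χ ψ : IrrCharacter G} (hχ : χ ∈ B)
    (h : ∀ g, ¬ p ∣ orderOf g → centralRes M ψ g = centralRes M χ g) : ψ ∈ B := by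
  classical
  letI := Fintype.ofFinite (ConjClasses G)
  by_contra hψ
  have h1 := sum_coeffRes_centralRes hM hB χ
  have h2 := sum_coeffRes_centralRes hM hB ψ
  rw [if_pos hχ] at h1
  rw [if_neg hψ] at h2
  refine one_ne_zero (h1.symm.trans ((Finset.sum_congr rfl fun C _ => ?_).trans h2))
  by_cases hC : coeffRes M B (rep C) = 0
  · rw [hC, zero_mul, zero_mul]
  · rw [h _ (regular_of_coeffRes_ne_zero hM (.of_isPBlock hB) hC)]

end General

section Perms

variable {α : Type u} [Fintype α] [DecidableEq α]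

/-- The group of the cycles of a permutation of order `p`: it fixes the points outside the support,
and a `p`-regular permutation commuting with it fixes the support. -/
theorem exists_cycleGroup [hp : Fact p.Prime] (x : Perm α) (hx : x ^ p = 1) :
    ∃ P : Subgroup (Perm α), IsPGroup p P ∧ (∀ a ∈ P, ∀ t, t ∉ x.support → a t = t) ∧
      (∀ a ∈ P, Commute a x) ∧
      ∀ k : Perm α, ¬ p ∣ orderOf k → (∀ a ∈ P, Commute a k) → ∀ t ∈ x.support, k t = t := by
  classical
  let f : ((e : x.cycleFactorsFinset) → Subgroup.zpowers (e : Perm α)) →* Perm α :=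
    (Perm.OnCycleFactors.kerParam x).comp (MonoidHom.inr _ _)
  have hord : ∀ e ∈ x.cycleFactorsFinset, e ^ p = 1 := by
    intro e he
    have hmem : e.support.card ∈ x.cycleType := by
      rw [Perm.cycleType_def]
      exact Multiset.mem_map_of_mem _ he
    rw [← orderOf_dvd_iff_pow_eq_one, (Perm.mem_cycleFactorsFinset_iff.mp he).1.orderOf]
    exact (Perm.dvd_of_mem_cycleType hmem).trans (orderOf_dvd_of_pow_eq_one hx)
  have hexp : ∀ a ∈ f.range, a ^ p = 1 := by
    rintro _ ⟨v, rfl⟩
    rw [← map_pow, show v ^ p = 1 from funext fun e => Subtype.ext ?_, map_one]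
    obtain ⟨i, hi⟩ := Subgroup.mem_zpowers_iff.mp (v e).2
    show ((v e : Perm α)) ^ p = 1
    rw [← hi, ← zpow_natCast, ← zpow_mul, mul_comm, zpow_mul, zpow_natCast, hord e e.2, one_zpow]
  refine ⟨f.range, fun a => ⟨1, Subtype.ext (by rw [pow_one, Subgroup.coe_pow]; exact hexp _ a.2)⟩,
    ?_, ?_, fun k hk hcomm t ht => ?_⟩
  · rintro _ ⟨v, rfl⟩ t ht
    show Perm.OnCycleFactors.kerParam x (1, v) t = t
    rw [Perm.OnCycleFactors.kerParam_apply, dif_neg, map_one, Perm.one_apply]
    rwa [Perm.cycleOf_mem_cycleFactorsFinset_iff]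
  · rintro _ ⟨v, rfl⟩
    exact Subgroup.mem_centralizer_singleton_iff.mp
      (Perm.OnCycleFactors.kerParam_range_le_centralizer ⟨(1, v), rfl⟩)
  · -- the cycle through `t`
    have he : x.cycleOf t ∈ x.cycleFactorsFinset :=
      Perm.cycleOf_mem_cycleFactorsFinset_iff.mpr ht
    set e := x.cycleOf t with hedef
    have hcyc := (Perm.mem_cycleFactorsFinset_iff.mp he).1
    have hmem : e ∈ f.range := by
      refine ⟨Pi.mulSingle ⟨e, he⟩ ⟨e, Subgroup.mem_zpowers e⟩, ?_⟩
      show Perm.OnCycleFactors.kerParam x _ = e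
      simp [Perm.OnCycleFactors.kerParam, Subgroup.noncommPiCoprod]
      exact MonoidHom.noncommPiCoprod_mulSingle _ _ _
    have hek : Commute e k := hcomm e hmem
    have het : e t ≠ t := by
      rw [hedef, Perm.cycleOf_apply_self]
      exact Perm.mem_support.mp ht
    have hekt : e (k t) ≠ k t := by
      rw [← Perm.mul_apply, hek.eq, Perm.mul_apply]
      exact fun e' => het (k.injective e')
    obtain ⟨i, hi⟩ := hcyc.sameCycle het hekt
    have hpow : ∀ m : ℕ, (k ^ m) t = ((e ^ i) ^ m) t := by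
      intro m
      induction m with
      | zero => rfl
      | succ m ih =>
        rw [pow_succ, Perm.mul_apply, ← hi, ← Perm.mul_apply,
          ((hek.zpow_left i).pow_right m).symm.eq, Perm.mul_apply, ih, pow_succ', Perm.mul_apply]
    have h1 : ((e ^ i) ^ orderOf k) t = t := by rw [← hpow, pow_orderOf_eq_one, Perm.one_apply]
    have hcop : (orderOf k).Coprime (orderOf (e ^ i)) := by
      have hdvd : orderOf (e ^ i) ∣ p := orderOf_dvd_of_pow_eq_one
        (by rw [← zpow_natCast, ← zpow_mul, mul_comm, zpow_mul, zpow_natCast, hord e he, one_zpow])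
      exact ((hp.out.coprime_iff_not_dvd.mpr hk).symm).coprime_dvd_right hdvd
    obtain ⟨m, hm⟩ := exists_pow_eq_self_of_coprime hcop
    rw [← hi, ← hm]
    exact Perm.pow_apply_eq_self_of_apply_eq_self h1 m

end Perms

variable {N n : ℕ}

/-- A count class is one block. -/
theorem block_eq_countClass [Fact p.Prime] (hN : n ≤ N) (hM : IsPModular p M)
    {B : Set (IrrCharacter (Perm (Fin n)))} (hB : IsPBlock M B) {β₀ : St N n}
    (h : stEquiv hN β₀ ∈ B) : B = countClass hN p β₀ := by
  classical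
  letI := Fintype.ofFinite (IrrCharacter (Perm (Fin n)))
  haveI := charP_resField hM
  have hp : p.Prime := hM.1
  obtain ⟨x, hxp, -, φ, hφ⟩ := exists_factor hp (natBead β₀) (natBead_injective β₀) (sum_natBead β₀)
  obtain ⟨P, hP, hPfix, hPx, hPreg⟩ := exists_cycleGroup (p := p) x hxp
  have hint : ∀ β : St N n, intBead (natBead β) = β.1 := fun β =>
    funext fun i => natBead_cast β i
  -- every member takes a multiple of `φ` on the section
  have hval : ∀ χ ∈ countClass hN p β₀, (χ : Perm (Fin n) → ℂ) x ≠ 0 ∧ ∃ e : ℤ,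
      ∀ v : Perm (Fin n), (∀ t ∈ x.support, v t = t) →
        (χ : Perm (Fin n) → ℂ) (x * v) = ((e * φ v : ℤ) : ℂ) := by
    rintro _ ⟨β, hβ, rfl⟩
    obtain ⟨h0, c, hc⟩ := hφ (natBead β) (natBead_injective β)
      ((sameRes_iff_sameCnt β β₀).mp hβ) (by rw [sum_natBead, sum_natBead])
    rw [hint] at h0 hc
    refine ⟨?_, eps β * c, fun v hv => ?_⟩
    · rw [irr_eq hN β x]
      rcases eps_sq β with e | e <;> simpa [e] using h0
    · rw [irr_eq hN β, hc v hv]
      push_cast
      ring
  -- each block of the class has a unit value on the section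
  have hunit : ∀ B' : Set (IrrCharacter (Perm (Fin n))), IsPBlock M B' → B' ⊆ countClass hN p β₀ →
      ∃ χ ∈ B', ∃ v, ¬ p ∣ orderOf v ∧ (∀ t ∈ x.support, v t = t) ∧
        res M (irrLoc M χ (x * v)) ≠ 0 := by
    intro B' hB' hsub
    obtain ⟨D, hD⟩ := exists_defectGroup hM hB'
    obtain ⟨g, hg, hgc, hgω⟩ := exists_isSylowCent_of_isDefectGroup hM hB' hD
    have hreg := regular_of_coeffRes_ne_zero hM (.of_isPBlock hB') hgc
    obtain ⟨χ, hχ, hχ0⟩ := exists_height_zero hM hB'
    obtain ⟨c, hc⟩ : ∃ c, c * x * c⁻¹ ∈ D := by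
      by_contra! hno
      refine (hval χ (hsub hχ)).1
        (irr_eq_zero_of_not_mem_defect hM hB' hD (isPPart_one_mul ?_ hM.1.ne_one) hno hχ)
      rcases (Nat.dvd_prime hM.1).mp (orderOf_dvd_of_pow_eq_one hxp) with e | e
      · exact ⟨0, by rw [e, pow_zero]⟩
      · exact ⟨1, by rw [e, pow_one]⟩
    refine ⟨χ, hχ, c⁻¹ * g * c, ?_, fun t ht => ?_, ?_⟩
    · rwa [show orderOf (c⁻¹ * g * c) = orderOf g from
        (MulEquiv.orderOf_eq (MulAut.conj c⁻¹) g ▸ by simp)]
    · have h1 : (c * x * c⁻¹) (c t) ≠ c t := by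
        simpa using Perm.mem_support.mp ht
      have h2 := defect_class_fixes hM hB' hD hg hreg hc h1
      show c⁻¹ (g (c t)) = t
      rw [h2]
      simp
    · have hxc : (c * x * c⁻¹) ^ p ^ 1 = 1 := by
        rw [pow_one, conj_pow, hxp, mul_one, mul_inv_cancel]
      have h1 := res_irr_ne_zero_of_height_zero hM hB' hgc hgω hχ hχ0 (hg.commute _ hc) hxc
      have h2 : irrLoc M χ (x * (c⁻¹ * g * c)) = irrLoc M χ (c * x * c⁻¹ * g) := by
        apply Subtype.ext
        rw [coe_irrLoc, coe_irrLoc,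
          show c * x * c⁻¹ * g = c * (x * (c⁻¹ * g * c)) * c⁻¹ by group,
          Char.isClassFunction_irr χ (x * (c⁻¹ * g * c)) c]
      rwa [h2]
  -- the congruence
  have key : ∀ χ ∈ countClass hN p β₀, ∀ e : ℤ,
      (∀ v : Perm (Fin n), (∀ t ∈ x.support, v t = t) →
        (χ : Perm (Fin n) → ℂ) (x * v) = ((e * φ v : ℤ) : ℂ)) →
      ∀ v : Perm (Fin n), ¬ p ∣ orderOf v → (∀ t ∈ x.support, v t = t) →
      ∀ h : Perm (Fin n), ¬ p ∣ orderOf h →
        centralRes M χ h * ((e * φ v : ℤ) : ResField M) =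
          (e : ResField M) * ∑ k ∈ Finset.univ.filter
            (fun k => IsConj h k ∧ ∀ t ∈ x.support, k t = t), ((φ (k * v) : ℤ) : ResField M) := by
    intro χ hχ e he v _ hv h hh
    have hloc : ∀ y (m : ℤ), (χ : Perm (Fin n) → ℂ) y = (m : ℂ) →
        res M (irrLoc M χ y) = (m : ResField M) := by
      intro y m hm
      rw [show irrLoc M χ y = (m : locRing M) from Subtype.ext (by rw [coe_irrLoc, hm]; norm_cast),
        map_intCast]
    have hPv : ∀ a ∈ P, Commute a v := fun a ha => Perm.Disjoint.commute fun t => by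
      by_cases ht : t ∈ x.support
      · exact Or.inr (hv t ht)
      · exact Or.inl (hPfix a ha t ht)
    letI : MulAction P {k : Perm (Fin n) // IsConj h k} :=
      { smul := fun a k => ⟨(a : Perm (Fin n)) * k * (a : Perm (Fin n))⁻¹,
          k.2.trans (isConj_iff.mpr ⟨a, rfl⟩)⟩
        one_smul := fun k => Subtype.ext (by show (1 : Perm (Fin n)) * k * 1⁻¹ = k; simp)
        mul_smul := fun a b k => Subtype.ext (by
          show ((a * b : P) : Perm (Fin n)) * k * ((a * b : P) : Perm (Fin n))⁻¹ =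
            (a : Perm (Fin n)) * ((b : Perm (Fin n)) * k * (b : Perm (Fin n))⁻¹) * (a : Perm (Fin n))⁻¹
          rw [Subgroup.coe_mul]
          group) }
    have hsum : centralRes M χ h * res M (irrLoc M χ (x * v)) =
        ∑ k : {k : Perm (Fin n) // IsConj h k}, res M (irrLoc M χ ((k : Perm (Fin n)) * (x * v))) := by
      rw [centralRes, ← map_mul, ← map_sum]
      refine congrArg (res M) (Subtype.ext ?_)
      rw [AddSubmonoidClass.coe_finsetSum]
      exact (sum_isConj_irr_mul χ h (x * v)).symm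
    have hfixed : ∀ k : {k : Perm (Fin n) // IsConj h k},
        (∀ a : P, a • k = k) ↔ ∀ t ∈ x.support, (k : Perm (Fin n)) t = t := by
      intro k
      constructor
      · intro hall
        refine hPreg _ ?_ fun a ha => ?_
        · rwa [← (isConj_iff.mp k.2).choose_spec, show orderOf ((isConj_iff.mp k.2).choose * h *
            ((isConj_iff.mp k.2).choose)⁻¹) = orderOf h from
              MulEquiv.orderOf_eq (MulAut.conj _) h]
        · exact mul_inv_eq_iff_eq_mul.mp (congrArg Subtype.val (hall ⟨a, ha⟩))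
      · intro hfix a
        refine Subtype.ext (mul_inv_eq_iff_eq_mul.mpr (Perm.Disjoint.commute fun t => ?_).eq)
        by_cases ht : t ∈ x.support
        · exact Or.inr (hfix t ht)
        · exact Or.inl (hPfix a a.2 t ht)
    rw [← hloc _ _ (he v hv), hsum, sum_eq_sum_fixedPoints (p := p) hP]
    · rw [Finset.mul_sum]
      refine Finset.sum_bij (fun k _ => (k : Perm (Fin n))) (fun k hk => ?_) (fun a _ b _ => Subtype.ext)
        (fun k hk => ?_) (fun k hk => ?_)
      · exact Finset.mem_filter.mpr ⟨Finset.mem_univ _, k.2, (hfixed k).mp (Finset.mem_filter.mp hk).2⟩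
      · simp only [Finset.mem_filter, Finset.mem_univ, true_and] at hk
        exact ⟨⟨k, hk.1⟩, Finset.mem_filter.mpr ⟨Finset.mem_univ _, (hfixed _).mpr hk.2⟩, rfl⟩
      · have hkf := (hfixed k).mp (Finset.mem_filter.mp hk).2
        have hkv : ∀ t ∈ x.support, ((k : Perm (Fin n)) * v) t = t := fun t ht => by
          rw [Perm.mul_apply, hv t ht, hkf t ht]
        have hcomm : Commute (k : Perm (Fin n)) x := Perm.Disjoint.commute fun t => by
          by_cases ht : t ∈ x.support
          · exact Or.inl (hkf t ht)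
          · exact Or.inr (Perm.notMem_support.mp ht)
        rw [← Int.cast_mul, ← hloc _ _ (he _ hkv), ← mul_assoc, hcomm.eq, mul_assoc]
    · intro a k
      refine congrArg (res M) (Subtype.ext ?_)
      show (χ : Perm (Fin n) → ℂ) ((a : Perm (Fin n)) * k * (a : Perm (Fin n))⁻¹ * (x * v)) = _
      rw [show (a : Perm (Fin n)) * k * (a : Perm (Fin n))⁻¹ * (x * v) =
          (a : Perm (Fin n)) * ((k : Perm (Fin n)) * (x * v)) * (a : Perm (Fin n))⁻¹ by
        rw [mul_assoc _ (a : Perm (Fin n))⁻¹, ((hPx a a.2).inv_left.mul_right (hPv a a.2).inv_left).eq]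
        group, Char.isClassFunction_irr χ _ (a : Perm (Fin n))]
      rfl
  refine Set.Subset.antisymm (block_subset_countClass hN hM hB h) fun ψ hψ => ?_
  obtain ⟨B₂, hB₂, hψ₂⟩ : ∃ B₂, IsPBlock M B₂ ∧ ψ ∈ B₂ :=
    ⟨_, isPBlock_blockOf ψ, self_mem_blockOf ψ⟩
  have hB₂s : B₂ ⊆ countClass hN p β₀ := by
    obtain ⟨β, hβ, rfl⟩ := hψ
    refine (block_subset_countClass hN hM hB₂ hψ₂).trans ?_
    rintro _ ⟨γ, hγ, rfl⟩
    exact ⟨γ, fun a => (hγ a).trans (hβ a), rfl⟩
  obtain ⟨χ₁, hχ₁, v, hv, hvx, hu₁⟩ := hunit B hB (block_subset_countClass hN hM hB h)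
  obtain ⟨χ₂, hχ₂, v₂, -, hv₂x, hu₂⟩ := hunit B₂ hB₂ hB₂s
  obtain ⟨-, e₁, he₁⟩ := hval χ₁ (block_subset_countClass hN hM hB h hχ₁)
  obtain ⟨-, e₂, he₂⟩ := hval χ₂ (hB₂s hχ₂)
  have hcast : ∀ (χ : IrrCharacter (Perm (Fin n))) y (m : ℤ), (χ : Perm (Fin n) → ℂ) y = (m : ℂ) →
      res M (irrLoc M χ y) = (m : ResField M) := by
    intro χ y m hm
    rw [show irrLoc M χ y = (m : locRing M) from Subtype.ext (by rw [coe_irrLoc, hm]; norm_cast),
      map_intCast]
  rw [hcast _ _ _ (he₁ v hvx), Int.cast_mul, mul_ne_zero_iff] at hu₁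
  rw [hcast _ _ _ (he₂ v₂ hv₂x), Int.cast_mul, mul_ne_zero_iff] at hu₂
  have hmem : χ₂ ∈ B := mem_of_centralRes_regular hM hB hχ₁ fun g hg => by
    have k1 := key χ₁ (block_subset_countClass hN hM hB h hχ₁) e₁ he₁ v hv hvx g hg
    have k2 := key χ₂ (hB₂s hχ₂) e₂ he₂ v hv hvx g hg
    rw [Int.cast_mul] at k1 k2
    refine mul_right_cancel₀ (mul_ne_zero hu₁.1 (mul_ne_zero hu₂.1 hu₁.2)) ?_
    linear_combination (e₁ : ResField M) * k2 - (e₂ : ResField M) * k1
  rw [isPBlock_eq_of_mem hB hB₂ hmem hχ₂]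
  exact hψ₂

end CfsgLib.SymBlock
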